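import Cfsg.Agent.Lib.Forms.Max.TensorWreath.Symp.Split

/-!
# Quadratic wreath elements in odd characteristic are slot transvections
-/

set_option autoImplicit false
set_option linter.unusedSectionVars false

namespace Cfsg.Agent.TensorWreath.Sy

open Matrix Cfsg.Agent.Aschbacher

variable {F : Type*} [Field F] {m t : ℕ}

/-- a pure vector -/
def pvec (f : Fin t → Fin m → F) : (Fin t → Fin m) → F := fun x => ∏ i, f i (x i)

theorem pure_mulVec_pvec (X : Fin t → Matrix (Fin m) (Fin m) F) (f : Fin t → Fin m → F) :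
    pureTensor X *ᵥ pvec f = pvec fun i => X i *ᵥ f i := by
  funext x
  simp only [pvec, mulVec, dotProduct, pureTensor_apply, ← Finset.prod_mul_distrib]
  rw [Fintype.prod_sum]

theorem pvec_dot (ψ f : Fin t → Fin m → F) : pvec ψ ⬝ᵥ pvec f = ∏ i, ψ i ⬝ᵥ f i := by
  simp only [pvec, dotProduct, ← Finset.prod_mul_distrib]
  rw [Fintype.prod_sum]

theorem nf_mulVec_pvec (σ : Equiv.Perm (Fin t)) (a : Fin t → GL (Fin m) F) (f : Fin t → Fin m → F) :
    (permGL σ * pureGL a).val *ᵥ pvec f = pvec fun i => (a (σ.symm i)).val *ᵥ f (σ.symm i) := by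
  rw [Units.val_mul, ← mulVec_mulVec, pureGL_coe, pure_mulVec_pvec]
  funext x
  simp only [mulVec, dotProduct, permGL_apply, ite_mul, one_mul, zero_mul, Finset.sum_ite_eq', Finset.mem_univ, if_true]
  exact Fintype.prod_equiv σ _ _ fun i => by simp

theorem exists_dual_one {u : Fin m → F} (hu : u ≠ 0) : ∃ ψ : Fin m → F, ψ ⬝ᵥ u = 1 := by
  obtain ⟨p, hp⟩ := Function.ne_iff.1 hu
  exact ⟨Pi.single p (u p)⁻¹, by rw [single_dotProduct, inv_mul_cancel₀ hp]⟩

theorem exists_fixed_pair (hm : 0 < m) {N : Matrix (Fin m) (Fin m) F} {n : ℕ} (hN : N ^ n = 0) :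
    ∃ f ψ : Fin m → F, N *ᵥ f = 0 ∧ ψ ⬝ᵥ f = 1 := by
  obtain ⟨f, hf0, hf⟩ : ∃ f : Fin m → F, f ≠ 0 ∧ N *ᵥ f = 0 := by
    haveI : Nonempty (Fin m) := ⟨⟨0, hm⟩⟩
    refine Matrix.exists_mulVec_eq_zero_iff.2 ?_
    rcases Nat.eq_zero_or_pos n with rfl | hn
    · rw [pow_zero] at hN; exact absurd hN one_ne_zero
    · have := congrArg Matrix.det hN
      rw [Matrix.det_pow, Matrix.det_zero] at this
      exact eq_zero_of_pow_eq_zero this
  obtain ⟨ψ, hψ⟩ := exists_dual_one hf0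
  exact ⟨f, ψ, hf, hψ⟩

theorem exists_moved_pair {N : Matrix (Fin m) (Fin m) F} {n : ℕ} (hN : N ^ n = 0) (hne : N ≠ 0) :
    ∃ f ψ : Fin m → F, ψ ⬝ᵥ f = 0 ∧ ψ ⬝ᵥ (N *ᵥ f) = 1 ∧ N *ᵥ (N *ᵥ f) = 0 := by
  classical
  have hex : ∃ r, N ^ (r + 1) = 0 := ⟨n, by rw [pow_succ, hN, zero_mul]⟩
  obtain ⟨r, hr, hmin⟩ : ∃ r, N ^ (r + 1) = 0 ∧ ∀ q < r, N ^ (q + 1) ≠ 0 :=
    ⟨Nat.find hex, Nat.find_spec hex, fun q hq => Nat.find_min hex hq⟩
  have hr0 : r ≠ 0 := fun e => hne (by rwa [e, zero_add, pow_one] at hr)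
  obtain ⟨s, rfl⟩ : ∃ s, r = s + 1 := ⟨r - 1, by omega⟩
  obtain ⟨w, hw⟩ : ∃ w, N ^ (s + 1) *ᵥ w ≠ 0 := by
    by_contra h
    push Not at h
    exact hmin s (Nat.lt_succ_self s) (Matrix.ext_iff_mulVec.2 fun x => by rw [h, Matrix.zero_mulVec])
  set f := N ^ s *ᵥ w with hf
  have h1 : N *ᵥ f ≠ 0 := by rwa [hf, mulVec_mulVec, ← pow_succ']
  have h2 : N *ᵥ (N *ᵥ f) = 0 := by rw [hf, mulVec_mulVec, mulVec_mulVec, mul_assoc, ← pow_succ', ← pow_succ', hr, zero_mulVec]
  have hli : N *ᵥ f ∉ Submodule.span F {f} := by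
    intro h
    obtain ⟨c, hc⟩ := Submodule.mem_span_singleton.1 h
    rw [← hc, mulVec_smul, ← hc, smul_smul, smul_eq_zero, mul_eq_zero, or_self] at h2
    rcases h2 with h2 | h2
    · exact h1 (by rw [← hc, h2, zero_smul])
    · exact h1 (by rw [h2, mulVec_zero])
  obtain ⟨φ, hφ, hφ0⟩ := Submodule.exists_dual_map_eq_bot_of_notMem hli inferInstance
  have hdot : ∀ x, (fun p => φ (Pi.single p 1)) ⬝ᵥ x = φ x := fun x => by
    conv_rhs => rw [pi_eq_sum_univ' x]
    simp [map_sum, map_smul, dotProduct, mul_comm]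
  refine ⟨f, fun p => (φ (N *ᵥ f))⁻¹ * φ (Pi.single p 1), ?_, ?_, h2⟩
  · rw [show (fun p => (φ (N *ᵥ f))⁻¹ * φ (Pi.single p 1)) = (φ (N *ᵥ f))⁻¹ • fun p => φ (Pi.single p 1) from rfl,
      smul_dotProduct, hdot]
    have : φ f ∈ (Submodule.span F {f}).map φ := Submodule.mem_map_of_mem (Submodule.mem_span_singleton_self f)
    rw [hφ0, Submodule.mem_bot] at this
    rw [this, smul_zero]
  · rw [show (fun p => (φ (N *ᵥ f))⁻¹ * φ (Pi.single p 1)) = (φ (N *ᵥ f))⁻¹ • fun p => φ (Pi.single p 1) from rfl,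
      smul_dotProduct, hdot, smul_eq_mul, inv_mul_cancel₀ hφ]

variable [Fintype F]

/-- quadratic wreath elements of small displacement -/
theorem classify_odd (hm : 2 ≤ m) (ht : 0 < t) (h2 : (2 : F) ≠ 0) {g : GL (Fin t → Fin m) F} (hg : g ∈ Wr F m t)
    (hsq : (g.val - 1) * (g.val - 1) = 0) (hr : (g.val - 1).rank ≤ m ^ (t - 1)) :
    ∃ (i : Fin t) (v φ : Fin m → F) (h : φ ⬝ᵥ v = 0), g = sgl i (trv v φ h) := by
  classical
  obtain ⟨p, hp⟩ := CharP.exists F
  haveI : Fact p.Prime := ⟨(CharP.char_is_prime_or_zero F p).resolve_right (CharP.char_ne_zero_of_finite F p)⟩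
  have hm0 : 0 < m := by omega
  haveI : Nonempty (Fin m) := ⟨⟨0, hm0⟩⟩
  haveI : Nonempty (Fin t → Fin m) := ⟨fun _ => ⟨0, hm0⟩⟩
  have hp2 : p ≠ 2 := fun e => h2 (by subst e; exact CharTwo.two_eq_zero)
  have hp1 : g ^ p = 1 := Units.ext (by
    have h1 : (g.val - 1) ^ p = 0 := pow_eq_zero_of_le (Fact.out : p.Prime).two_le (by rw [sq, hsq])
    rwa [sub_pow_char_of_commute _ (Commute.one_right _), one_pow, sub_eq_zero, ← Units.val_pow_eq_pow_val] at h1)
  have hquad : ∀ (ψ f : (Fin t → Fin m) → F),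
      ψ ⬝ᵥ (g.val *ᵥ (g.val *ᵥ f)) - 2 * (ψ ⬝ᵥ (g.val *ᵥ f)) + ψ ⬝ᵥ f = 0 := by
    intro ψ f
    have := congrArg (fun M => ψ ⬝ᵥ (M *ᵥ f)) hsq
    simp only [zero_mulVec, dotProduct_zero, ← mulVec_mulVec, sub_mulVec, one_mulVec, mulVec_sub, dotProduct_sub] at this
    linear_combination this
  obtain ⟨σ, a, rfl⟩ := exists_nf hg
  obtain rfl : σ = 1 := by
    by_contra hσ
    obtain ⟨i, hi⟩ : ∃ i, σ i ≠ i := by
      by_contra h
      push Not at h
      exact hσ (Equiv.ext h)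
    obtain ⟨b, hb⟩ := pow_nf σ a p
    rw [hp1] at hb
    have hσp := perm_eq_one hm hb.symm
    obtain ⟨r, hr2⟩ := (Fact.out : p.Prime).odd_of_ne_two hp2
    set i1 := σ.symm i with hi1
    set i2 := σ.symm i1 with hi2
    have h10 : i1 ≠ i := fun e => hi (by conv_lhs => rw [← e, hi1, σ.apply_symm_apply])
    have h21 : i2 ≠ i1 := fun e => h10 (σ.symm.injective e)
    have h20 : i2 ≠ i := by
      intro e
      have hss : (σ * σ) i = i := by
        conv_lhs => rw [← e, Equiv.Perm.mul_apply, hi2, σ.apply_symm_apply, hi1, σ.apply_symm_apply]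
      have hfix : ∀ q : ℕ, ((σ * σ) ^ q) i = i := fun q => by
        induction q with
        | zero => simp
        | succ q ih => rw [pow_succ, Equiv.Perm.mul_apply, hss, ih]
      rw [hr2, pow_succ', pow_mul, sq] at hσp
      have h4 := congrArg (fun π => π i) hσp
      simp only [Equiv.Perm.mul_apply, Equiv.Perm.one_apply, hfix] at h4
      exact hi h4
    let z0 : Fin m := ⟨0, hm0⟩
    let z1 : Fin m := ⟨1, by omega⟩
    have hz : z1 ≠ z0 := fun e => absurd (congrArg Fin.val e) one_ne_zero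
    let f : Fin t → Fin m → F := Function.update (Function.update (Function.update (fun _ => Pi.single z0 1) i (Pi.single z1 1))
      i1 ((a i1)⁻¹.val *ᵥ Pi.single z0 1)) i2 ((a i2)⁻¹.val *ᵥ ((a i1)⁻¹.val *ᵥ Pi.single z0 1))
    have hf0 : ∀ j, f j ≠ 0 := fun j => by
      have hs : ∀ q : Fin m, (Pi.single q 1 : Fin m → F) ≠ 0 := fun q e => by simpa using congrFun e q
      have hinv : ∀ (A : GL (Fin m) F) (v : Fin m → F), v ≠ 0 → A.val *ᵥ v ≠ 0 := fun A v hv e => hv (by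
        have := congrArg (fun w => (A⁻¹).val *ᵥ w) e
        simpa [mulVec_mulVec] using this)
      simp only [f, Function.update_apply]
      split_ifs
      exacts [hinv _ _ (hinv _ _ (hs z0)), hinv _ _ (hs z0), hs z1, hs z0]
    choose ψ hψ using fun j => exists_dual_one (hf0 j)
    let Ψ : Fin t → Fin m → F := Function.update ψ i (Pi.single z1 1)
    have hΨi : Ψ i = Pi.single z1 1 := Function.update_self ..
    have hfi1 : (a i1).val *ᵥ f i1 = Pi.single z0 1 := by
      simp only [f, Function.update_of_ne h21.symm, Function.update_self]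
      rw [mulVec_mulVec, ← Units.val_mul, mul_inv_cancel, Units.val_one, one_mulVec]
    have hfi2 : (a i1).val *ᵥ ((a i2).val *ᵥ f i2) = Pi.single z0 1 := by
      simp only [f, Function.update_self]
      rw [mulVec_mulVec (Pi.single z0 (1 : F)), mulVec_mulVec, ← Units.val_mul, ← Units.val_mul, mulVec_mulVec,
        ← Units.val_mul, show a i1 * a i2 * ((a i2)⁻¹ * (a i1)⁻¹) = 1 by group, Units.val_one, one_mulVec]
    have h3 := hquad (pvec Ψ) (pvec f)
    simp only [nf_mulVec_pvec, pvec_dot] at h3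
    rw [Finset.prod_eq_zero (Finset.mem_univ i) (show Ψ i ⬝ᵥ _ = 0 by rw [← hi1, ← hi2, hfi2, hΨi]; simp [hz]),
      Finset.prod_eq_zero (Finset.mem_univ i) (show Ψ i ⬝ᵥ _ = 0 by rw [← hi1, hfi1, hΨi]; simp [hz]),
      Finset.prod_eq_one fun j _ => ?_] at h3
    · rw [mul_zero, sub_zero, zero_add] at h3
      exact one_ne_zero h3
    · rcases eq_or_ne j i with rfl | hj
      · simp [hΨi, f, Function.update_of_ne h20.symm, Function.update_of_ne h10.symm]
      · simp only [Ψ, Function.update_of_ne hj, hψ]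
  rw [permGL_one, one_mul] at hp1 hsq hr hquad ⊢
  obtain ⟨b, hba, hb⟩ := pure_unipotent p hm0 hp1
  rw [← hba] at hsq hr hquad ⊢
  obtain ⟨t, rfl⟩ : ∃ s, t = s + 1 := ⟨t - 1, by omega⟩
  rw [Nat.add_sub_cancel] at hr
  by_cases hall : ∀ i, b i = 1
  · refine ⟨0, 0, 0, by simp, ?_⟩
    rw [show b = 1 from funext hall, pureGL_one]
    refine Units.ext ?_
    simp [sgl_coe, trv_coe]
  push Not at hall
  obtain ⟨i, hi⟩ := hall
  have hone : ∀ l, l ≠ i → b l = 1 := by
    intro l hl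
    by_contra hbl
    choose f0 ψ0 hf0 hψ0 using fun j => exists_fixed_pair hm0 (hb j)
    obtain ⟨fi, ψi, hi1, hi2, hi3⟩ := exists_moved_pair (hb i) (sub_ne_zero.2 fun e => hi (Units.ext e))
    obtain ⟨fl, ψl, hl1, hl2, hl3⟩ := exists_moved_pair (hb l) (sub_ne_zero.2 fun e => hbl (Units.ext e))
    let f := Function.update (Function.update f0 i fi) l fl
    let ψ := Function.update (Function.update ψ0 i ψi) l ψl
    have hv : ∀ j v, (b j).val *ᵥ v = v + ((b j).val - 1) *ᵥ v := fun j v => by rw [sub_mulVec, one_mulVec]; abel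
    have key : ∀ (n : F) (w : Fin (t + 1) → Fin m → F),
        (∀ j, j ≠ i → j ≠ l → w j = f0 j) → w i = fi + n • (((b i).val - 1) *ᵥ fi) →
        w l = fl + n • (((b l).val - 1) *ᵥ fl) → pvec ψ ⬝ᵥ pvec w = n * n := by
      intro n w hw hwi hwl
      rw [pvec_dot, ← Finset.mul_prod_erase _ _ (Finset.mem_univ i),
        ← Finset.mul_prod_erase _ _ (Finset.mem_erase.2 ⟨hl, Finset.mem_univ l⟩), Finset.prod_eq_one fun j hj => ?_]
      · simp only [ψ, Function.update_self, Function.update_of_ne hl.symm, hwi, hwl, dotProduct_add, dotProduct_smul,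
          hi1, hi2, hl1, hl2, smul_eq_mul, zero_add, mul_one]
      · simp only [Finset.mem_erase] at hj
        simp only [ψ, Function.update_of_ne hj.1, Function.update_of_ne hj.2.1, hw j hj.2.1 hj.1, hψ0]
    have h3 := hquad (pvec ψ) (pvec f)
    simp only [pureGL_coe, pure_mulVec_pvec] at h3
    rw [key 2 _ (fun j hji hjl => ?_) ?_ ?_, key 1 _ (fun j hji hjl => ?_) ?_ ?_,
      key 0 _ (fun j hji hjl => ?_) ?_ ?_] at h3
    · exact h2 (by linear_combination h3)
    all_goals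
      first
      | simp [f, hji, hjl, hv, hf0]
      | simp [f, hl.symm, hv, hi3, hl3, two_smul, mulVec_add, add_assoc]
  have hbi : pureGL b = sgl i (b i) := by
    rw [sgl_eq]
    congr 1
    funext l
    rcases eq_or_ne l i with rfl | hl
    · simp
    · simp [hone l hl, Pi.mulSingle_eq_of_ne hl]
  rw [hbi] at hr ⊢
  set α := (b i).val - 1 with hα
  obtain ⟨f, hf⟩ : ∃ f, α *ᵥ f ≠ 0 := by
    by_contra h
    push Not at h
    exact hi (Units.ext (sub_eq_zero.1 (Matrix.ext_iff_mulVec.2 fun x => by rw [Matrix.zero_mulVec]; exact h x)))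
  have hspan : ∀ x, α *ᵥ x ∈ Submodule.span F {α *ᵥ f} := by
    intro x
    by_contra hx
    have hr' : (S (0 : Fin (t + 1)) α).rank ≤ m ^ t := by
      rw [← Equiv.swap_apply_right (0 : Fin (t + 1)) i, ← conj_perm_S, rank_conjMat, hα, map_sub, map_one, ← sgl_coe]
      exact hr
    have h2 := rank_S0_ge (t := t) α ![f, x] (Fintype.linearIndependent_iff.2 fun c hc => by
      simp only [Fin.sum_univ_two, Matrix.cons_val_zero, Matrix.cons_val_one] at hc
      have hc1 : c 1 = 0 := by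
        by_contra h
        refine hx (Submodule.mem_span_singleton.2 ⟨-((c 1)⁻¹ * c 0), ?_⟩)
        rw [neg_smul, ← smul_smul, eq_neg_of_add_eq_zero_left hc, smul_neg, neg_neg, inv_smul_smul₀ h]
      rw [hc1, zero_smul, add_zero] at hc
      have hc0 := (smul_eq_zero.1 hc).resolve_right hf
      intro j; fin_cases j <;> assumption)
    have := pow_pos hm0 t
    omega
  choose φ hφ using fun y => Submodule.mem_span_singleton.1 (hspan (Pi.single y 1))
  have hαv : α = vecMulVec (α *ᵥ f) φ := Matrix.ext fun x y => by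
    have h1 := congrFun (hφ y) x
    simp only [Matrix.mulVec_single_one, Pi.smul_apply, smul_eq_mul, Matrix.col_apply] at h1
    rw [vecMulVec_apply, ← h1, mul_comm]
  set v := α *ᵥ f with hv
  have hαv' : α *ᵥ v = (φ ⬝ᵥ v) • v := by
    conv_lhs => rw [hαv]
    exact vecMulVec_mulVec' _ _ _
  have hk : ∀ n : ℕ, α ^ n *ᵥ v = (φ ⬝ᵥ v) ^ n • v := by
    intro n
    induction n with
    | zero => simp
    | succ n ih => rw [pow_succ, ← Matrix.mulVec_mulVec, hαv', Matrix.mulVec_smul, ih, smul_smul, pow_succ, mul_comm]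
  have h0 : φ ⬝ᵥ v = 0 := by
    have := hk p
    rw [hα, hb i, Matrix.zero_mulVec] at this
    exact eq_zero_of_pow_eq_zero ((smul_eq_zero.1 this.symm).resolve_right hf)
  refine ⟨i, v, φ, h0, ?_⟩
  congr 1
  exact Units.ext (by rw [trv_coe, ← hαv, hα]; abel)

end Cfsg.Agent.TensorWreath.Sy
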