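import Cfsg.Agent.Lib.Forms.Max.TensorWreath.Elements
import Cfsg.Agent.Lib.Forms.Max.Tensor.SympTools

/-!
# A symplectic space with a hyperbolic pair of basis vectors
-/

set_option autoImplicit false
set_option linter.unusedSectionVars false

namespace Cfsg.Agent.TensorWreath.Sy

open Matrix Cfsg.Agent.Aschbacher Cfsg.Agent.Forms.Max Cfsg.Agent.Forms.Max.SympTools

variable {F : Type*} [Field F] {k : ℕ} {J : Matrix (Fin k) (Fin k) F} {a b : Fin k}

/-- the bilinear form with Gram matrix `J` -/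
def frm (J : Matrix (Fin k) (Fin k) F) (x y : Fin k → F) : F := x ⬝ᵥ (J *ᵥ y)

/-- a Gram matrix adapted to the hyperbolic pair `a`, `b` -/
structure Hyp (J : Matrix (Fin k) (Fin k) F) (a b : Fin k) : Prop where
  sp : Symp (frm J)
  ch : (2 : F) ≠ 0 ∨ 6 ≤ k
  hk : k = 2 ∨ 4 ≤ k
  hab : a ≠ b
  ja : ∀ p, J p a = if p = b then -1 else 0
  jb : ∀ p, J p b = if p = a then 1 else 0

/-- enough scalars when the middle space vanishes -/
def Big (F : Type*) [Field F] (k : ℕ) : Prop := 4 ≤ k ∨ ∃ l : F, l ≠ 0 ∧ l * l ≠ 1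

/-- the linear functional of a vector -/
def phi (J : Matrix (Fin k) (Fin k) F) (u : Fin k → F) : Fin k → F := J *ᵥ u

theorem frm_eq (x u : Fin k → F) : frm J x u = phi J u ⬝ᵥ x := dotProduct_comm _ _

/-- the root operator of a vector -/
def Nm (J : Matrix (Fin k) (Fin k) F) (e : Fin k → F) : Matrix (Fin k) (Fin k) F := vecMulVec e (phi J e)

theorem Nm_mulVec (e x : Fin k → F) : Nm J e *ᵥ x = frm J x e • e := by
  rw [Nm, vecMulVec_mulVec, frm_eq, op_smul_eq_smul]

theorem phi_add (x y : Fin k → F) : phi J (x + y) = phi J x + phi J y := mulVec_add J x y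

theorem phi_smul (c : F) (e : Fin k → F) : phi J (c • e) = c • phi J e := mulVec_smul J c e

theorem Nm_smul (c : F) (e : Fin k → F) : Nm J (c • e) = (c * c) • Nm J e := by
  rw [Nm, Nm, phi_smul, smul_vecMulVec, vecMulVec_smul, smul_smul]

variable (hd : Hyp J a b)
include hd

theorem frm_a (x : Fin k → F) : frm J x (Pi.single a 1) = -x b := by
  simp [frm, mulVec_single_one, dotProduct, hd.ja]

theorem frm_b (x : Fin k → F) : frm J x (Pi.single b 1) = x a := by
  simp [frm, mulVec_single_one, dotProduct, hd.jb]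

theorem frm_ab : frm J (Pi.single a 1) (Pi.single b 1) = 1 := by rw [frm_b hd, Pi.single_eq_same]

theorem frm_ba : frm J (Pi.single b 1) (Pi.single a 1) = -1 := by rw [frm_a hd, Pi.single_eq_same]

theorem phi_a : phi J (Pi.single a 1) = -Pi.single b 1 := by
  funext p
  simp [phi, mulVec_single_one, hd.ja, Pi.single_apply, neg_ite]

theorem phi_b : phi J (Pi.single b 1) = Pi.single a 1 := by
  funext p
  simp [phi, mulVec_single_one, hd.jb, Pi.single_apply]

theorem J_row : (∀ q, J a q = if q = b then 1 else 0) ∧ (∀ q, J b q = if q = a then -1 else 0) := by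
  have h : ∀ p q, J p q = frm J (Pi.single p 1) (Pi.single q 1) := fun p q => by
    simp [frm, mulVec_single_one]
  refine ⟨fun q => ?_, fun q => ?_⟩
  · rw [h, hd.sp.skew, ← h, hd.ja, neg_ite, neg_neg, neg_zero]
  · rw [h, hd.sp.skew, ← h, hd.jb, neg_ite, neg_zero]

theorem phi_at_a (u : Fin k → F) : phi J u a = u b := by
  simp [phi, mulVec, dotProduct, (J_row hd).1]

theorem phi_at_b (u : Fin k → F) : phi J u b = -u a := by
  simp [phi, mulVec, dotProduct, (J_row hd).2]

theorem Nm_a : Nm J (Pi.single a 1) = -Matrix.single a b 1 := by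
  rw [Nm, phi_a hd, vecMulVec_neg, single_eq_single_vecMulVec_single]

theorem Nm_b : Nm J (Pi.single b 1) = Matrix.single b a 1 := by
  rw [Nm, phi_b hd, single_eq_single_vecMulVec_single]

theorem Nm_mul_self (e : Fin k → F) : Nm J e * Nm J e = 0 := by
  rw [Nm]
  exact vecMulVec_sq (by rw [← frm_eq]; exact hd.sp.alt e)

theorem phi_dot (e : Fin k → F) : phi J e ⬝ᵥ e = 0 := by rw [← frm_eq]; exact hd.sp.alt e

omit hd

/-- the isometries of one slot -/
def Sl (J : Matrix (Fin k) (Fin k) F) : Subgroup (GL (Fin k) F) where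
  carrier := {g | ∀ x y, frm J (g.val *ᵥ x) (g.val *ᵥ y) = frm J x y}
  one_mem' x y := by simp
  mul_mem' {g h} hg hh x y := by rw [Units.val_mul, ← mulVec_mulVec, ← mulVec_mulVec, hg, hh]
  inv_mem' {g} hg x y := by
    conv_rhs => rw [← mulVec_inv_cancel g x, ← mulVec_inv_cancel g y, hg]

/-- the transvection with centre `e` and parameter `c` -/
def tvS (hd : Hyp J a b) (e : Fin k → F) (c : F) : GL (Fin k) F :=
  trv e (c • phi J e) (by rw [smul_dotProduct, phi_dot hd, smul_zero])

include hd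

theorem tvS_coe (e : Fin k → F) (c : F) : (tvS hd e c).val = 1 + c • Nm J e := by
  show 1 + vecMulVec e (c • phi J e) = _
  rw [vecMulVec_smul, Nm]

theorem tvS_mulVec (e : Fin k → F) (c : F) (x : Fin k → F) :
    (tvS hd e c).val *ᵥ x = x + (c * frm J x e) • e := by
  rw [tvS_coe, add_mulVec, one_mulVec, smul_mulVec, Nm_mulVec, smul_smul]

theorem tvS_add (e : Fin k → F) (c d : F) : tvS hd e c * tvS hd e d = tvS hd e (c + d) := by
  refine Units.ext ?_
  rw [Units.val_mul, tvS_coe, tvS_coe, tvS_coe, mul_add, mul_one, add_mul, one_mul, smul_mul_smul_comm, Nm_mul_self hd,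
    smul_zero, add_zero, add_smul]
  abel

theorem tvS_zero (e : Fin k → F) : tvS hd e 0 = 1 :=
  Units.ext (by rw [tvS_coe, zero_smul, add_zero, Units.val_one])

theorem tvS_inv (e : Fin k → F) (c : F) : (tvS hd e c)⁻¹ = tvS hd e (-c) :=
  inv_eq_of_mul_eq_one_right (by rw [tvS_add, add_neg_cancel, tvS_zero])

variable [Finite F]

theorem tvS_mem (e : Fin k → F) (c : F) : tvS hd e c ∈ Sl J := fun x y =>
  tv_isometry hd.sp ⟨e, c, tvS_mulVec hd e c⟩ x y

theorem tvGroup_le : tvGroup (frm J) ≤ Sl J := fun _ hg => group_isometry hd.sp hg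

theorem exists_moveS {u v : Fin k → F} (hu : u ≠ 0) (hv : v ≠ 0) : ∃ g ∈ Sl J, g.val *ᵥ u = v := by
  obtain ⟨g, hg, e⟩ := exists_move hd.sp hu hv
  exact ⟨g, tvGroup_le hd hg, e⟩

theorem Nm_ne_zero {e : Fin k → F} (he : e ≠ 0) : Nm J e ≠ 0 := by
  intro h
  obtain ⟨x, hx⟩ := exists_value_one hd.sp he
  have := Nm_mulVec (J := J) e x
  rw [h, zero_mulVec, hx, one_smul] at this
  exact he this.symm

theorem iso_inv_frm {g : GL (Fin k) F} (hg : g ∈ Sl J) (x e : Fin k → F) :
    frm J ((g⁻¹).val *ᵥ x) e = frm J x (g.val *ᵥ e) := by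
  rw [← hg ((g⁻¹).val *ᵥ x) e, mulVec_inv_cancel]

theorem conj_Nm {g : GL (Fin k) F} (hg : g ∈ Sl J) (e : Fin k → F) :
    conjMat g (Nm J e) = Nm J (g.val *ᵥ e) := by
  refine Matrix.ext_of_mulVec_single fun i => ?_
  rw [conjMat_apply, ← mulVec_mulVec, ← mulVec_mulVec, Nm_mulVec, Nm_mulVec, mulVec_smul, iso_inv_frm hd hg]

omit hd

/-- orthogonal to both basis vectors of the pair -/
def mid (F : Type*) [Field F] {k : ℕ} (a b : Fin k) : Submodule F (Fin k → F) :=
  LinearMap.ker (LinearMap.proj a : (Fin k → F) →ₗ[F] F) ⊓ LinearMap.ker (LinearMap.proj b : (Fin k → F) →ₗ[F] F)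

theorem mem_mid {u : Fin k → F} : u ∈ mid F a b ↔ u a = 0 ∧ u b = 0 := Iff.rfl

theorem single_mem_mid {d : Fin k} (ha : d ≠ a) (hb : d ≠ b) : (Pi.single d 1 : Fin k → F) ∈ mid F a b :=
  mem_mid.2 ⟨Pi.single_eq_of_ne ha.symm _, Pi.single_eq_of_ne hb.symm _⟩

include hd

theorem mid_nondeg : ∀ x ∈ mid F a b, (∀ y ∈ mid F a b, frm J x y = 0) → x = 0 := by
  intro x hx h
  refine hd.sp.nd x fun z => ?_
  have := h (z - z a • Pi.single a 1 - z b • Pi.single b 1) (mem_mid.2 (by simp [hd.hab, hd.hab.symm]))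
  rwa [sub_right hd.sp, sub_right hd.sp, smul_right hd.sp, smul_right hd.sp, frm_a hd, frm_b hd, (mem_mid.1 hx).1,
    (mem_mid.1 hx).2, neg_zero, mul_zero, mul_zero, sub_zero, sub_zero] at this

/-- two middle vectors of product one -/
theorem exists_mid_pair (h4 : 4 ≤ k) :
    ∃ e ∈ mid F a b, ∃ f ∈ mid F a b, e ≠ 0 ∧ frm J e f = 1 ∧ frm J f e = -1 := by
  obtain ⟨d, hda, hdb⟩ : ∃ d, d ≠ a ∧ d ≠ b := by
    by_contra h
    push Not at h
    have hs : (Finset.univ : Finset (Fin k)) ⊆ {a, b} := fun x _ => by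
      rcases eq_or_ne x a with rfl | hx
      · simp
      · simp [h x hx]
    have := (Finset.card_le_card hs).trans Finset.card_le_two
    simp only [Finset.card_univ, Fintype.card_fin] at this
    omega
  set e : Fin k → F := Pi.single d 1
  have he : e ∈ mid F a b := single_mem_mid hda hdb
  have he0 : e ≠ 0 := fun h => one_ne_zero (by simpa [e] using congrFun h d : (1 : F) = 0)
  obtain ⟨y, hy, hey⟩ : ∃ y ∈ mid F a b, frm J e y ≠ 0 := by
    by_contra hc
    push Not at hc
    exact he0 (mid_nondeg hd e he hc)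
  refine ⟨e, he, (frm J e y)⁻¹ • y, (mid F a b).smul_mem _ hy, he0, ?_, ?_⟩
  · rw [smul_right hd.sp, inv_mul_cancel₀ hey]
  · rw [hd.sp.skew, smul_right hd.sp, inv_mul_cancel₀ hey]

/-- Siegel elements of `a` and a middle vector, with their entries -/
theorem exists_sg {u : Fin k → F} (hu : u ∈ mid F a b) :
    ∃ g ∈ Sl J, ∀ x y, (g.val - 1) x y = (if y = b then -u x else 0) + phi J u y * (if x = a then 1 else 0) := by
  obtain ⟨hua, hub⟩ := mem_mid.1 hu
  obtain ⟨g, hg, hgx⟩ := exists_siegel hd.sp (a := Pi.single a 1) (b := u)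
    (by rw [hd.sp.skew, frm_a hd, hub]; simp)
  refine ⟨g, tvGroup_le hd hg, fun x y => ?_⟩
  have h := congrFun (hgx (Pi.single y 1)) x
  rw [mulVec_single_one] at h
  rw [Matrix.sub_apply, show g.val x y = _ from h, frm_a hd, frm_eq _ u, dotProduct_single, mul_one]
  simp only [Pi.add_apply, Pi.smul_apply, smul_eq_mul, Pi.single_apply, Matrix.one_apply, eq_comm (a := b)]
  split_ifs <;> ring

/-- torus elements -/
theorem exists_torus {l : F} (hl : l ≠ 0) :
    ∃ h ∈ Sl J, h.val *ᵥ Pi.single a 1 = l • Pi.single a 1 ∧ h.val *ᵥ Pi.single b 1 = l⁻¹ • Pi.single b 1 ∧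
      ∀ z ∈ mid F a b, h.val *ᵥ z = z := by
  classical
  set d : Fin k → F := fun p => if p = a then l else if p = b then l⁻¹ else 1 with hdd
  have hd0 : ∀ p, d p ≠ 0 := fun p => by
    simp only [hdd]; split_ifs
    exacts [hl, inv_ne_zero hl, one_ne_zero]
  let h : GL (Fin k) F := ⟨Matrix.diagonal d, Matrix.diagonal fun p => (d p)⁻¹,
    by rw [Matrix.diagonal_mul_diagonal, ← Matrix.diagonal_one]; congr 1; funext p; exact mul_inv_cancel₀ (hd0 p),
    by rw [Matrix.diagonal_mul_diagonal, ← Matrix.diagonal_one]; congr 1; funext p; exact inv_mul_cancel₀ (hd0 p)⟩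
  have happ : ∀ x, h.val *ᵥ x = fun p => d p * x p := fun x => funext fun p => Matrix.mulVec_diagonal d x p
  obtain ⟨hJa, hJb⟩ := J_row hd
  refine ⟨h, fun x y => ?_, ?_, ?_, fun z hz => ?_⟩
  · rw [happ, happ]
    simp only [frm, dotProduct, mulVec, Finset.mul_sum]
    refine Finset.sum_congr rfl fun p _ => Finset.sum_congr rfl fun q _ => ?_
    have hpq : J p q = 0 ∨ d p * d q = 1 := by
      rcases eq_or_ne p a with rfl | hpa
      · rcases eq_or_ne q b with rfl | hqb
        · right; simp [hdd, hd.hab.symm, hl]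
        · left; rw [hJa, if_neg hqb]
      rcases eq_or_ne p b with rfl | hpb
      · rcases eq_or_ne q a with rfl | hqa
        · right; simp [hdd, hd.hab.symm, hl]
        · left; rw [hJb, if_neg hqa]
      rcases eq_or_ne q a with rfl | hqa
      · left; rw [hd.ja, if_neg hpb]
      rcases eq_or_ne q b with rfl | hqb
      · left; rw [hd.jb, if_neg hpa]
      right; simp [hdd, hpa, hpb, hqa, hqb]
    rcases hpq with e | e
    · rw [e]; ring
    · linear_combination (x p * (J p q * y q)) * e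
  · rw [happ]
    funext p
    rcases eq_or_ne p a with rfl | hp
    · simp [hdd]
    · simp [hp]
  · rw [happ]
    funext p
    rcases eq_or_ne p b with rfl | hp
    · simp [hdd, hd.hab.symm]
    · simp [hp]
  · rw [happ]
    obtain ⟨hza, hzb⟩ := mem_mid.1 hz
    funext p
    rcases eq_or_ne p a with rfl | hpa
    · simp [hza]
    rcases eq_or_ne p b with rfl | hpb
    · simp [hzb]
    · simp [hdd, hpa, hpb]

end Cfsg.Agent.TensorWreath.Sy
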