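import Cfsg.Agent.Lib.Forms.Max.TensorWreath.Symp.Slots
import Cfsg.Agent.Lib.Forms.Max.TensorWreath.Spread

/-!
# Descending in a space stable under the slot isometries
-/

set_option autoImplicit false
set_option linter.unusedSectionVars false

namespace Cfsg.Agent.TensorWreath.Sy

open Matrix Cfsg.Agent.Aschbacher Cfsg.Agent.Forms.Max Cfsg.Agent.Forms.Max.SympTools

variable {F : Type*} [Field F] [Fintype F] {k t : ℕ} {J : Matrix (Fin k) (Fin k) F} {a b : Fin k}

/-- subspaces stable under the slot isometries -/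
structure Spc (J : Matrix (Fin k) (Fin k) F) (V : Submodule F (Matrix (Fin t → Fin k) (Fin t → Fin k) F)) : Prop where
  conj : ∀ (j : Fin t) (h : GL (Fin k) F), h ∈ Sl J → ∀ Y ∈ V, conjMat (sgl j h) Y ∈ V

/-- the coefficients of a matrix of the first slot -/
def down (z : Matrix (Fin k) (Fin k) F) (V : Submodule F (Matrix (Fin (t + 1) → Fin k) (Fin (t + 1) → Fin k) F)) :
    Submodule F (Matrix (Fin t → Fin k) (Fin t → Fin k) F) :=
  V.comap ((LinearMap.mulLeft F (S 0 z)).comp (lift (F := F) (m := k) (t := t)).toLinearMap)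

theorem mem_down {z : Matrix (Fin k) (Fin k) F}
    {V : Submodule F (Matrix (Fin (t + 1) → Fin k) (Fin (t + 1) → Fin k) F)}
    {Y : Matrix (Fin t → Fin k) (Fin t → Fin k) F} : Y ∈ down z V ↔ S 0 z * lift Y ∈ V := Iff.rfl

theorem Spc.down {V : Submodule F (Matrix (Fin (t + 1) → Fin k) (Fin (t + 1) → Fin k) F)} (hV : Spc J V)
    (z : Matrix (Fin k) (Fin k) F) : Spc J (Sy.down z V) := by
  refine ⟨fun j h hh Y hY => ?_⟩
  have h1 := hV.conj j.succ h hh _ hY
  have e1 : conjMat (sgl j.succ h) (S 0 z) = S (0 : Fin (t + 1)) z :=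
    (conjMat_eq_iff_mul ..).2 (by rw [sgl_coe]; exact S_comm (Fin.succ_ne_zero j) _ _)
  have e2 : conjMat (sgl j.succ h) (lift Y) = lift (conjMat (sgl j h) Y) := by
    rw [conjMat_apply, conjMat_apply, map_mul, map_mul, ← liftW_sgl, ← map_inv, liftW_coe, liftW_coe]
  change conjMat (sgl j.succ h) (S 0 z * lift Y) ∈ V at h1
  rw [map_mul (conjMat _), e1] at h1
  rw [mem_down, ← e2]
  exact h1

theorem sandwich (x y : Fin k → F) (Y : Matrix (Fin (t + 1) → Fin k) (Fin (t + 1) → Fin k) F) :
    S 0 (Nm J x) * Y * S 0 (Nm J y) = S 0 (vecMulVec x (phi J y)) * lift (cblk (phi J x) y Y) := by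
  refine (blk (F := F) (m := k) (t := t)).injective (Matrix.ext fun i j => ?_)
  rw [slot_mul_blk, blk_S0_lift, cblk, Finset.smul_sum]
  refine Finset.sum_congr rfl fun p _ => ?_
  rw [Finset.smul_sum]
  refine Finset.sum_congr rfl fun q _ => ?_
  rw [smul_smul, Nm, Nm, vecMulVec_apply, vecMulVec_apply, vecMulVec_apply]
  congr 1
  ring


theorem S_mul_pure (j : Fin t) (z : Matrix (Fin k) (Fin k) F) (X : Fin t → Matrix (Fin k) (Fin k) F) :
    S j z * pureTensor X = pureTensor (Function.update X j (z * X j)) ∧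
    pureTensor X * S j z = pureTensor (Function.update X j (X j * z)) := by
  constructor <;> rw [slotHom_apply, ← map_mul] <;> congr 1 <;> funext i <;> rcases eq_or_ne i j with rfl | hi
  all_goals first
    | (simp; done)
    | simp [Pi.mulSingle_eq_of_ne hi, Function.update_of_ne hi]

theorem ad_pure (j : Fin t) (z : Matrix (Fin k) (Fin k) F) (X : Fin t → Matrix (Fin k) (Fin k) F) :
    S j z * pureTensor X - pureTensor X * S j z = pureTensor (Function.update X j (z * X j - X j * z)) := by
  rw [(S_mul_pure j z X).1, (S_mul_pure j z X).2, sub_eq_iff_eq_add, ← pure_update_add, sub_add_cancel]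

/-- replacing a set of slots -/
def put (C : Finset (Fin t)) (Z : Matrix (Fin k) (Fin k) F) (W : Fin t → Matrix (Fin k) (Fin k) F) :
    Fin t → Matrix (Fin k) (Fin k) F := fun i => if i ∈ C then Z else W i

variable (hd : Hyp J a b)
include hd

variable {V : Submodule F (Matrix (Fin t → Fin k) (Fin t → Fin k) F)} [NeZero (2 : F)]

theorem Spc.roots (hV : Spc J V) (j : Fin t) (e : Fin k → F) {Y : Matrix (Fin t → Fin k) (Fin t → Fin k) F}
    (hY : Y ∈ V) : S j (Nm J e) * Y - Y * S j (Nm J e) ∈ V ∧ S j (Nm J e) * Y * S j (Nm J e) ∈ V := by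
  set N := S j (Nm J e)
  have hd' : ∀ c : F, c • (N * Y) - c • (Y * N) - (c * c) • (N * Y * N) ∈ V := by
    intro c
    have h1 := sub_mem (hV.conj j _ (tvS_mem hd e c) _ hY) hY
    rw [conjMat_apply, ← map_inv, tvS_inv hd, sgl_coe, sgl_coe, tvS_coe, tvS_coe, map_add, map_add, map_one, map_smul,
      map_smul] at h1
    convert h1 using 1
    simp only [N, add_mul, mul_add, one_mul, mul_one, smul_mul_assoc, mul_smul_comm, smul_smul, neg_smul, neg_mul, mul_neg, smul_neg]
    module
  have h2 : N * Y * N ∈ V := by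
    have h := V.smul_mem (-(2 : F)⁻¹) (add_mem (hd' 1) (hd' (-1)))
    convert h using 1
    rw [show (1 : F) • (N * Y) - (1 : F) • (Y * N) - ((1 : F) * 1) • (N * Y * N) +
      ((-1 : F) • (N * Y) - (-1 : F) • (Y * N) - ((-1 : F) * -1) • (N * Y * N)) = -((2 : F) • (N * Y * N)) by
        simp only [one_smul, neg_smul, mul_neg, mul_one, neg_neg, two_smul]; abel,
      neg_smul, smul_neg, neg_neg, inv_smul_smul₀ (two_ne_zero (α := F))]
  refine ⟨?_, h2⟩
  have h := add_mem (hd' 1) h2
  simpa using h

/-- mixtures of two projector patterns give roots -/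
theorem mix (hV : Spc J V) :
    ∀ (C : Finset (Fin t)) (W : Fin t → Matrix (Fin k) (Fin k) F) (x y : F),
      x • pureTensor (put C (Matrix.single a a 1) W) + y • pureTensor (put C (Matrix.single b b 1) W) ∈ V →
      ((-1) ^ C.card * x + y) • pureTensor (put C (Matrix.single a b 1) W) ∈ V := by
  classical
  intro C
  induction C using Finset.induction with
  | empty =>
    intro W x y h
    have e : ∀ Z : Matrix (Fin k) (Fin k) F, put (∅ : Finset (Fin t)) Z W = W := fun Z => funext fun i => by simp [put]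
    simp only [e, ← add_smul] at h ⊢
    simpa using h
  | @insert j C hj ih =>
    intro W x y h
    set E := Matrix.single a b (1 : F) with hE
    have h1 := V.smul_mem (-1 : F) (hV.roots hd j (Pi.single a 1) h).1
    rw [Nm_a hd, map_neg, ← hE, neg_mul, mul_neg, neg_sub_neg, neg_one_smul, neg_sub, mul_add, add_mul, mul_smul_comm,
      mul_smul_comm, smul_mul_assoc, smul_mul_assoc, add_sub_add_comm, ← smul_sub, ← smul_sub, ad_pure, ad_pure] at h1
    have hv : ∀ Z, put (insert j C) Z W j = Z := fun Z => by simp [put]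
    have hu : ∀ Z Z', Function.update (put (insert j C) Z W) j Z' = put C Z (Function.update W j Z') := fun Z Z' => by
      funext i
      rcases eq_or_ne i j with rfl | hi
      · simp [put, hj]
      · simp [put, hi]
    rw [hu, hu, hv, hv, hE, Matrix.single_mul_single_same, Matrix.single_mul_single_of_ne _ _ _ _ hd.hab.symm,
      Matrix.single_mul_single_of_ne _ _ _ _ hd.hab.symm, Matrix.single_mul_single_same, mul_one, zero_sub, sub_zero,
      ← hE] at h1
    have hn : pureTensor (put C (Matrix.single a a 1) (Function.update W j (-E))) =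
        (-1 : F) • pureTensor (put C (Matrix.single a a 1) (Function.update W j E)) := by
      have h3 := pure_sign ({j} : Finset (Fin t)) (put C (Matrix.single a a (1 : F)) (Function.update W j E))
      rw [Finset.card_singleton, pow_one] at h3
      rw [← h3]
      congr 1
      funext i
      rcases eq_or_ne i j with rfl | hi
      · simp [put, hj]
      · simp [put, hi]
    rw [hn, smul_smul] at h1
    have h2 := ih _ _ _ h1
    have e : put C E (Function.update W j E) = put (insert j C) E W := by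
      funext i
      rcases eq_or_ne i j with rfl | hi
      · simp [put, hj]
      · simp [put, hi]
    rw [e] at h2
    convert h2 using 2
    rw [Finset.card_insert_of_notMem hj, pow_succ]
    ring

variable {f : Fin k → F} (hf : Mv a b f)
include hf

/-- descending along the first slot -/
theorem descend {V : Submodule F (Matrix (Fin (t + 1) → Fin k) (Fin (t + 1) → Fin k) F)} (hV : Spc J V)
    {Y : Matrix (Fin (t + 1) → Fin k) (Fin (t + 1) → Fin k) F} (hY : Y ∈ V) (hl : ¬∃ h, Y = lift h) :
    ∃ s : Fin 3, s ≠ 0 ∧ (s = 2 → f ≠ 0) ∧ ∃ h, h ≠ 0 ∧ S 0 (sm J a b f s) * lift h ∈ V := by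
  classical
  have hh := hd.sp
  have hA0 : (Pi.single a 1 : Fin k → F) ≠ 0 := fun e => one_ne_zero (by simpa using congrFun e a : (1 : F) = 0)
  set β : (Fin k → F) → (Fin k → F) → Matrix (Fin t → Fin k) (Fin t → Fin k) F := fun x y => cblk (phi J x) y Y with hβ
  have hmove : ∀ (g : GL (Fin k) F), g ∈ Sl J → ∀ (z : Matrix (Fin k) (Fin k) F) (M : Matrix (Fin t → Fin k) (Fin t → Fin k) F),
      S 0 z * lift M ∈ V → S 0 (conjMat g z) * lift M ∈ V := by
    intro g hg z M h
    have h1 := hV.conj 0 g hg _ h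
    rwa [map_mul (conjMat _), show conjMat (sgl (0 : Fin (t + 1)) g) (S 0 z) = S 0 (conjMat g z) by
        rw [conjMat_apply, ← map_inv, sgl_coe, sgl_coe, ← map_mul, ← map_mul, ← conjMat_apply],
      show conjMat (sgl (0 : Fin (t + 1)) g) (lift M) = lift M from
        (conjMat_eq_iff_mul ..).2 (by rw [sgl_coe]; exact S0_lift_comm _ _)] at h1
  by_cases hne : ∃ e, β e e ≠ 0
  · obtain ⟨e, hne⟩ := hne
    have he0 : e ≠ 0 := fun h => hne (by simp [hβ, h, cblk])
    have h1 := (hV.roots hd 0 e hY).2
    rw [sandwich, ← Nm] at h1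
    obtain ⟨g, hg, hge⟩ := exists_moveS hd (v := Pi.single a 1) he0 hA0
    have h2 := hmove g hg _ _ h1
    rw [conj_Nm hd hg, hge, Nm_a hd, map_neg, neg_mul, neg_mem_iff] at h2
    exact ⟨1, one_ne_zero, fun h => absurd h (by decide), _, hne, h2⟩
  push Not at hne
  have hadd : ∀ x y z, β (x + y) z = β x z + β y z := fun x y z => by
    simp [hβ, cblk, phi_add, add_mul, add_smul, Finset.sum_add_distrib]
  have hadd' : ∀ x y z, β x (y + z) = β x y + β x z := fun x y z => by
    simp [hβ, cblk, mul_add, add_smul, Finset.sum_add_distrib]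
  have hsm : ∀ (r : F) x z, β x (r • z) = r • β x z := fun r x z => by
    simp [hβ, cblk, Finset.smul_sum, smul_smul, mul_left_comm]
  have hskew : ∀ x y, β x y = -β y x := fun x y => by
    have h := hne (x + y)
    rw [hadd, hadd', hadd', hne x, hne y, zero_add, add_zero] at h
    exact eq_neg_of_add_eq_zero_left h
  obtain ⟨u, v, huv, hβuv⟩ : ∃ u v, frm J u v = 0 ∧ β u v ≠ 0 := by
    by_contra hc
    push Not at hc
    set A : Fin k → F := Pi.single a 1 with hA
    set ρ := β A (Pi.single b 1)
    set γ := fun x y => β x y - frm J x y • ρ with hγ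
    have g0 : ∀ x y, frm J x y = 0 → γ x y = 0 := fun x y h => by simp [hγ, h, hc x y h]
    have gsm : ∀ (r : F) x z, γ x (r • z) = r • γ x z := fun r x z => by
      simp [hγ, hsm, smul_right hh, smul_sub, smul_smul]
    have gadd : ∀ x y z, γ x (y + z) = γ x y + γ x z := fun x y z => by
      simp only [hγ, hadd', add_right hh, add_smul]; abel
    have gA : ∀ y, γ A y = 0 := fun y => by
      have h := g0 A (y - frm J A y • Pi.single b 1) (by
        rw [sub_right hh, smul_right hh, hA, frm_ab hd, mul_one, sub_self])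
      have e : γ A y = γ A ((y - frm J A y • Pi.single b 1) + frm J A y • Pi.single b 1) := by rw [sub_add_cancel]
      rw [e, gadd, h, gsm, show γ A (Pi.single b 1) = 0 by simp [hγ, ρ, hA, frm_ab hd], smul_zero, add_zero]
    have gA' : ∀ x, γ x A = 0 := fun x => by
      have := gA x
      simp only [hγ] at this ⊢
      rw [hskew x A, hh.skew x A, neg_smul, ← neg_sub', neg_eq_zero]
      exact this
    have gne : ∀ x y, frm J x A ≠ 0 → γ x y = 0 := fun x y hx => by
      set r := frm J x y / frm J x A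
      have h := g0 x (y - r • A) (by rw [sub_right hh, smul_right hh, div_mul_cancel₀ _ hx, sub_self])
      have e : γ x y = γ x ((y - r • A) + r • A) := by rw [sub_add_cancel]
      rw [e, gadd, h, gsm, gA', smul_zero, add_zero]
    have gall : ∀ x y, γ x y = 0 := fun x y => by
      by_cases hx : frm J x A = 0
      · have hb : frm J (Pi.single b 1) A ≠ 0 := by rw [hA, frm_ba hd]; exact neg_ne_zero.2 one_ne_zero
        have h1 := gne (x + Pi.single b 1) y (by rw [hh.add, hx, zero_add]; exact hb)
        have h2 := gne (Pi.single b 1) y hb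
        simp only [hγ, hadd, hh.add, add_smul] at h1 h2 ⊢
        rw [← h1, ← sub_eq_zero]
        rw [show β x y - frm J x y • ρ - (β x y + β (Pi.single b 1) y - (frm J x y • ρ + frm J (Pi.single b 1) y • ρ)) =
          -(β (Pi.single b 1) y - frm J (Pi.single b 1) y • ρ) by abel, h2, neg_zero]
      · exact gne x y hx
    refine hl ⟨-ρ, (blk (F := F) (m := k) (t := t)).injective (Matrix.ext fun p q => ?_)⟩
    obtain ⟨x, hx⟩ := exists_repr hh (LinearMap.proj p : (Fin k → F) →ₗ[F] F)
    have hphi : phi J x = Pi.single p 1 := dotProduct_eq _ _ fun z => by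
      rw [← frm_eq, hx, LinearMap.proj_apply, single_dotProduct, one_mul]
    have h1 := gall x (Pi.single q 1)
    simp only [hγ, hβ, hphi, cblk_single, sub_eq_zero] at h1
    rw [h1, blk_lift, Matrix.diagonal_apply, hh.skew, hx, LinearMap.proj_apply, Pi.single_apply]
    split_ifs <;> simp
  have h4 : 4 ≤ k ∧ u ≠ 0 ∧ v ∉ Submodule.span F {u} := by
    have hu0 : u ≠ 0 := fun h => hβuv (by simp [hβ, h, cblk, phi])
    have hvu : v ∉ Submodule.span F {u} := fun h => by
      obtain ⟨r, rfl⟩ := Submodule.mem_span_singleton.1 h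
      exact hβuv (by rw [hsm, hne, smul_zero])
    refine ⟨?_, hu0, hvu⟩
    rcases hd.hk with h2 | h
    · exfalso
      refine hvu ?_
      have hker : LinearMap.ker (form hh u) = Submodule.span F {u} := by
        refine (Submodule.eq_of_le_of_finrank_le ?_ ?_).symm
        · rw [Submodule.span_le, Set.singleton_subset_iff]; exact hh.alt u
        · obtain ⟨x, hx⟩ := exists_value_one hh hu0
          have h1 := LinearMap.finrank_range_add_finrank_ker (form hh u)
          have h3 : LinearMap.range (form hh u) = ⊤ := eq_top_iff.2 fun r _ => ⟨r • x, by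
            rw [map_smul, form_apply, hx, smul_eq_mul, mul_one]⟩
          rw [h3, finrank_top, Module.finrank_self, Module.finrank_fintype_fun_eq_card, Fintype.card_fin] at h1
          rw [finrank_span_singleton hu0]
          omega
      rw [← hker]
      exact comm_zero hh huv
    · exact h
  obtain ⟨h4, hu0, hvu⟩ := h4
  have h1 := (hV.roots hd 0 u (hV.roots hd 0 v hY).1).1
  have hmul : S (0 : Fin (t + 1)) (Nm J u) * S 0 (Nm J v) = 0 ∧ S (0 : Fin (t + 1)) (Nm J v) * S 0 (Nm J u) = 0 := by
    constructor <;> rw [← map_mul, Nm, Nm, vecMulVec_mul_vecMulVec, ← frm_eq] <;>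
      simp [huv, comm_zero hh huv]
  have e1 : S (0 : Fin (t + 1)) (Nm J u) * (S 0 (Nm J v) * Y - Y * S 0 (Nm J v)) -
      (S 0 (Nm J v) * Y - Y * S 0 (Nm J v)) * S 0 (Nm J u) = -(S 0 (Qm J u v) * lift (β u v)) := by
    rw [mul_sub, sub_mul, ← mul_assoc, hmul.1, zero_mul, mul_assoc Y, hmul.2, mul_zero, zero_sub, sub_zero, ← mul_assoc,
      sandwich, sandwich, Qm, map_sub, sub_mul, neg_sub]
    show -(S 0 (vecMulVec u (phi J v)) * lift (β u v)) - S 0 (vecMulVec v (phi J u)) * lift (β v u) = _
    rw [hskew v u, map_neg, mul_neg]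
    abel
  rw [e1, neg_mem_iff] at h1
  -- normalising the pair
  obtain ⟨g, hg, hgu⟩ := exists_moveS hd (v := Pi.single a 1) hu0 hA0
  have h2 := hmove g hg _ _ h1
  rw [conj_Qm hd hg, hgu] at h2
  set v' := g.val *ᵥ v
  have hv'b : v' b = 0 := by
    have := hg u v
    rwa [hgu, huv, frm_a_left hd] at this
  set m := v' - v' a • Pi.single a 1 with hm
  have hmm : m ∈ mid F a b := mem_mid.2 ⟨by simp [hm], by simp [hm, hv'b, hd.hab.symm]⟩
  have hm0 : m ≠ 0 := by
    intro h
    rw [hm, sub_eq_zero] at h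
    refine hvu (Submodule.mem_span_singleton.2 ⟨v' a, mulVec_inj g ?_⟩)
    rw [mulVec_smul, hgu]
    exact h.symm
  have hQ : Qm J (Pi.single a 1) v' = Qm J (Pi.single a 1) m := by
    have e : v' = m + v' a • Pi.single a 1 := by rw [hm]; abel
    rw [e, Qm_add_right hd, Qm_smul_right, Qm_self hd, smul_zero, add_zero]
  rw [hQ] at h2
  obtain ⟨g', hg', ha', -, hm'⟩ := exists_mid_move hd hmm hf.mem hm0 (hf.ne h4)
  have h3 := hmove g' hg' _ _ h2
  rw [conj_Qm hd hg', ha', hm'] at h3
  exact ⟨2, by decide, fun _ => hf.ne h4, _, hβuv, h3⟩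

/-- every non-zero element gives a pattern -/
theorem exists_pattern :
    ∀ (t : ℕ) (V : Submodule F (Matrix (Fin t → Fin k) (Fin t → Fin k) F)), Spc J V → ∀ Y, Y ∈ V → Y ≠ 0 →
      ∃ T : Fin t → Fin 3, (∀ i, T i = 2 → f ≠ 0) ∧ pat J a b f T ∈ V ∧
        ((∀ r : F, Y ≠ r • 1) → ∃ i, T i ≠ 0) := by
  intro t
  induction t with
  | zero =>
    intro V _ Y hY hY0
    have e1 : (pat J a b f (fun i : Fin 0 => (0 : Fin 3)) : Matrix (Fin 0 → Fin k) (Fin 0 → Fin k) F) = 1 := by
      rw [pat]; exact (congrArg pureTensor (funext fun i => i.elim0)).trans (map_one _)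
    have eY : Y = Y (fun i => i.elim0) (fun i => i.elim0) • (1 : Matrix _ _ F) := by
      ext p q
      obtain rfl : p = fun i => i.elim0 := funext fun i => i.elim0
      obtain rfl : q = fun i => i.elim0 := funext fun i => i.elim0
      simp
    refine ⟨fun _ => 0, fun i => i.elim0, ?_, fun h => absurd eY (h _)⟩
    rw [e1]
    have hc : Y (fun i => i.elim0) (fun i => i.elim0) ≠ 0 := fun h => hY0 (by rw [eY, h, zero_smul])
    have := V.smul_mem (Y (fun i => i.elim0) (fun i => i.elim0))⁻¹ (eY ▸ hY)
    rwa [inv_smul_smul₀ hc] at this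
  | succ t ih =>
    intro V hV Y hY hY0
    by_cases hl : ∃ h, Y = lift h
    · obtain ⟨h, rfl⟩ := hl
      obtain ⟨T, hT, hmem, hne⟩ := ih _ (hV.down 1) h (mem_down.2 (by rwa [map_one, one_mul]))
        (fun e => hY0 (by rw [e, map_zero]))
      refine ⟨Fin.cons 0 T, Fin.cases (by simp) (by simpa using hT), ?_, fun hns => ?_⟩
      · rw [pat_cons]; exact hmem
      · obtain ⟨i, hi⟩ := hne fun r hr => hns r (by rw [hr, map_smul, map_one])
        exact ⟨i.succ, by rw [Fin.cons_succ]; exact hi⟩
    · obtain ⟨s, hs, hs2, h, hh0, hh⟩ := descend hd hf hV hY hl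
      obtain ⟨T, hT, hmem, -⟩ := ih _ (hV.down _) h (mem_down.2 hh) hh0
      refine ⟨Fin.cons s T, Fin.cases (by simpa using hs2) (by simpa using hT), ?_, fun _ => ⟨0, by simpa using hs⟩⟩
      rw [pat_cons]; exact hmem

end Cfsg.Agent.TensorWreath.Sy
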