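import Cfsg.Agent.Lib.Forms.Max.TensorWreath.Symp.Good
import Cfsg.Agent.Lib.Forms.Max.TensorWreath.Fixed
import Cfsg.Agent.Lib.Forms.Max.TensorWreath.Contract

/-!
# Tame overgroups of the slot isometries lie in the wreath group
-/

set_option autoImplicit false
set_option linter.unusedSectionVars false

namespace Cfsg.Agent.TensorWreath.Sy

open Matrix Cfsg.Agent.Aschbacher Cfsg.Agent.Forms.Max Cfsg.Agent.Forms.Max.SympTools

/-- invariant functions without fixed points have vanishing sums -/
theorem sum_no_fix {A α M : Type*} [AddCommGroup A] [Fintype A] [AddCommGroup M] [DecidableEq α] [DecidableEq M]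
    (p : ℕ) [Fact p.Prime] (hA : ∀ x : A, p • x = 0) (hM : ∀ m : M, p • m = 0) (e : A → α → α)
    (he0 : ∀ x, e 0 x = x) (hadd : ∀ a b x, e (a + b) x = e a (e b x)) (f : α → M) (s : Finset α)
    (hinv : ∀ a, ∀ x ∈ s, e a x ∈ s) (hf : ∀ a, ∀ x ∈ s, f (e a x) = f x) (hno : ∀ x ∈ s, ∃ a, e a x ≠ x) :
    ∑ x ∈ s, f x = 0 := by
  classical
  rw [show ∑ x ∈ s, f x = ∑ x ∈ s, id (f x) from rfl, Finset.sum_comp]
  simp only [id]
  refine Finset.sum_eq_zero fun c _ => ?_
  set T := s.filter fun x => f x = c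
  letI : MulAction (Multiplicative A) T :=
    { smul := fun a x => ⟨e a.toAdd x.1, Finset.mem_filter.2 ⟨hinv _ _ (Finset.mem_filter.1 x.2).1,
        (hf _ _ (Finset.mem_filter.1 x.2).1).trans (Finset.mem_filter.1 x.2).2⟩⟩
      one_smul := fun x => Subtype.ext (he0 x.1)
      mul_smul := fun a b x => Subtype.ext (hadd _ _ x.1) }
  have hP : IsPGroup p (Multiplicative A) := fun g => ⟨1, by
    rw [pow_one]
    exact Multiplicative.toAdd.injective (by rw [toAdd_pow, toAdd_one]; exact hA _)⟩
  have h0 : Nat.card (MulAction.fixedPoints (Multiplicative A) T) = 0 := by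
    rw [Nat.card_eq_zero]
    left
    exact ⟨fun x => by
      obtain ⟨a, ha⟩ := hno x.1.1 (Finset.mem_filter.1 x.1.2).1
      exact ha (congrArg Subtype.val (x.2 (Multiplicative.ofAdd a)))⟩
  have h1 := hP.card_modEq_card_fixedPoints T
  rw [h0, Nat.card_eq_fintype_card, Fintype.card_coe, Nat.modEq_zero_iff_dvd] at h1
  obtain ⟨r, hr⟩ := h1
  rw [hr, mul_nsmul, hM, nsmul_zero]

variable {F : Type*} [Field F] [Fintype F] {k t : ℕ} {J : Matrix (Fin k) (Fin k) F} {a b : Fin k}

/-- the slot transvection with parameter in the group -/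
def uel (hd : Hyp J a b) (e : Fin k → F) (c : F) : GL (Fin (t + 1) → Fin k) F :=
  sgl 0 (tvS hd e c)

theorem uel_add (hd : Hyp J a b) (e : Fin k → F) (c d : F) :
    (uel (t := t) hd e (c + d)) = uel hd e c * uel hd e d := by
  rw [uel, uel, uel, ← map_mul, tvS_add]

theorem uel_zero (hd : Hyp J a b) (e : Fin k → F) : (uel (t := t) hd e (0 : F)) = 1 := by
  rw [uel, tvS_zero, map_one]

theorem uel_inv (hd : Hyp J a b) (e : Fin k → F) (c : F) :
    (uel (t := t) hd e c)⁻¹ = uel hd e (-c) :=
  inv_eq_of_mul_eq_one_right (by rw [← uel_add, add_neg_cancel, uel_zero])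

theorem uel_val (hd : Hyp J a b) (e : Fin k → F) (c : F) :
    (uel (t := t) hd e c).val = 1 + c • S 0 (Nm J e) := by
  rw [uel, sgl_coe, tvS_coe, map_add, map_one, map_smul]

theorem conj_uel (hd : Hyp J a b) (e : Fin k → F) (c : F) (M : Matrix (Fin (t + 1) → Fin k) (Fin (t + 1) → Fin k) F) :
    conjMat (uel hd e c) M = M + c • (S 0 (Nm J e) * M - M * S 0 (Nm J e)) -
      (c * c) • (S 0 (Nm J e) * M * S 0 (Nm J e)) := by
  rw [conjMat_apply, uel_inv, uel_val, uel_val]
  simp only [neg_smul, mul_add, add_mul, one_mul, mul_one, mul_neg, smul_mul_assoc, mul_smul_comm, smul_sub, smul_add, smul_smul]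
  abel

theorem comm_of_uel_fix (hd : Hyp J a b) (e : Fin k → F) {c : F} (hc : c ≠ 0)
    {M : Matrix (Fin (t + 1) → Fin k) (Fin (t + 1) → Fin k) F} (h : conjMat (uel hd e c) M = M) :
    S 0 (Nm J e) * M = M * S 0 (Nm J e) := by
  rw [conjMat_eq_iff_mul, uel_val, add_mul, mul_add, one_mul, mul_one, add_right_inj, smul_mul_assoc, mul_smul_comm] at h
  exact smul_right_injective _ hc h

theorem uel_fix_of_comm (hd : Hyp J a b) (e : Fin k → F) (c : F)
    {M : Matrix (Fin (t + 1) → Fin k) (Fin (t + 1) → Fin k) F} (h : S 0 (Nm J e) * M = M * S 0 (Nm J e)) :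
    conjMat (uel hd e c) M = M := by
  rw [conjMat_eq_iff_mul, uel_val, add_mul, mul_add, one_mul, mul_one, smul_mul_assoc, mul_smul_comm, h]

/-- the sum over the group -/
theorem sum_uel (hd : Hyp J a b) (e : Fin k → F) (M : Matrix (Fin (t + 1) → Fin k) (Fin (t + 1) → Fin k) F) :
    ∃ Y Y', ∑ c : F, conjMat (uel hd e c) M = S 0 (Nm J e) * Y + Y' * S 0 (Nm J e) ∧
      ((2 : F) ≠ 0 → Y' = 0 ∧ ((∃ l : F, l ≠ 0 ∧ l * l ≠ 1) → Y = 0)) := by
  set N := S (0 : Fin (t + 1)) (Nm J e)
  set s1 := ∑ c : F, c with hs1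
  set s2 := ∑ c : F, c * c with hs2
  refine ⟨s1 • M - s2 • (M * N), -(s1 • M), ?_, fun h2 => ?_⟩
  · simp only [conj_uel, Finset.sum_sub_distrib, Finset.sum_add_distrib, ← Finset.sum_smul, Finset.sum_const,
      Finset.card_univ, ← Nat.cast_smul_eq_nsmul F, FiniteField.cast_card_eq_zero, zero_smul, zero_add, ← hs1,
      mul_sub, mul_smul_comm, neg_mul, smul_mul_assoc, smul_sub, ← mul_assoc]
    simp only [N]
    abel
  have h1 : s1 = 0 := by
    have e1 : s1 = 2 * s1 := by
      rw [hs1, Finset.mul_sum]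
      exact (Equiv.sum_comp (Equiv.mulLeft₀ (2 : F) h2) id).symm
    linear_combination -e1
  refine ⟨by rw [h1, zero_smul, neg_zero], fun ⟨l, hl0, hl⟩ => ?_⟩
  have e2 : s2 = (l * l) * s2 := by
    rw [hs2, Finset.mul_sum]
    refine (Equiv.sum_comp (Equiv.mulLeft₀ l hl0) fun c => c * c).symm.trans (Finset.sum_congr rfl fun c _ => ?_)
    simp only [Equiv.mulLeft₀_apply]; ring
  have : s2 = 0 := by
    by_contra hne
    exact hl ((mul_eq_right₀ hne).1 e2.symm)
  rw [h1, this, zero_smul, zero_smul, sub_zero]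

/-- an equivariant extension agrees on the centraliser of a transvection up to the orbit sums -/
theorem err_spec (hd : Hyp J a b) (hbig : Big F k) (IH : LevelS J a b t)
    {G : Subgroup (GL (Fin (t + 2) → Fin k) F)} (hB : BaseU J G) (hI : G ≤ Iso J (t + 2)) (hT : TameU J a b G) :
    ∃ ρ : Matrix (Fin (t + 2) → Fin k) (Fin (t + 2) → Fin k) F →ₗ[F] Matrix (Fin (t + 2) → Fin k) (Fin (t + 2) → Fin k) F,
      (∀ g ∈ G, ∀ v, ρ (conjMat g v) = conjMat g (ρ v)) ∧
      ∀ (e : Fin k → F), e ≠ 0 → ∀ v, S 0 (Nm J e) * v = v * S 0 (Nm J e) →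
        ∃ Y Y', ρ v - ctr (swSum F k (t + 2)) v = S 0 (Nm J e) * Y + Y' * S 0 (Nm J e) ∧
          ((2 : F) ≠ 0 → Y' = 0 ∧ ((∃ l : F, l ≠ 0 ∧ l * l ≠ 1) → Y = 0)) := by
  classical
  obtain ⟨p, hp⟩ := CharP.exists F
  haveI : Fact p.Prime := ⟨(CharP.char_is_prime_or_zero F p).resolve_right (CharP.char_ne_zero_of_finite F p)⟩
  set R := ctr (swSum F k (t + 2))
  have hR : ∀ h ∈ Wr F k (t + 2), ∀ v, R (conjMat h v) = conjMat h (R v) := fun h hh v =>
    ctr_equiv (swSum_fixed hh) v
  let H : Subgroup G := (Wr F k (t + 2)).subgroupOf G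
  let L : G → (Matrix (Fin (t + 2) → Fin k) (Fin (t + 2) → Fin k) F →ₗ[F] Matrix (Fin (t + 2) → Fin k) (Fin (t + 2) → Fin k) F) :=
    fun g => (conjMat g.1).toLinearMap ∘ₗ R ∘ₗ (conjMat g.1⁻¹).toLinearMap
  have hL : ∀ g v, L g v = conjMat g.1 (R (conjMat g.1⁻¹ v)) := fun g v => rfl
  let Lq : G ⧸ H → _ := fun x => L x.out
  have hLq : ∀ (g : G) v, Lq (QuotientGroup.mk g) v = L g v := fun g v => by
    obtain ⟨h, hh⟩ := QuotientGroup.mk_out_eq_mul H g
    show L (QuotientGroup.mk g : G ⧸ H).out v = _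
    rw [hh, hL, hL, Subgroup.coe_mul, _root_.mul_inv_rev, conjMat_mul, conjMat_mul,
      hR ((h : G).1)⁻¹ ((Wr F k (t + 2)).inv_mem (Subgroup.mem_subgroupOf.1 h.2)), ← conjMat_mul (h : G).1, mul_inv_cancel]
    simp [conjMat_apply]
  have hsm : ∀ (g : G) (x : G ⧸ H) v, Lq (g • x) (conjMat g.1 v) = conjMat g.1 (Lq x v) := fun g x v => by
    induction x using QuotientGroup.induction_on with
    | H r =>
      rw [MulAction.Quotient.smul_mk, smul_eq_mul, hLq, hLq, hL, hL, Subgroup.coe_mul, _root_.mul_inv_rev,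
        ← conjMat_mul (g := g.1), ← conjMat_mul (r.1⁻¹ * g.1⁻¹), inv_mul_cancel_right]
  refine ⟨∑ x, Lq x, fun g hg v => ?_, fun e he0 v hv => ?_⟩
  · rw [LinearMap.sum_apply, LinearMap.sum_apply, map_sum]
    exact (Fintype.sum_equiv (MulAction.toPerm (⟨g, hg⟩ : G)) _ _ fun x => (hsm ⟨g, hg⟩ x v).symm).symm
  set x₀ : G ⧸ H := QuotientGroup.mk 1
  let u : F → G := fun c => ⟨uel hd e c, hB 0 _ (tvS_mem hd e c)⟩
  let f : G ⧸ H → Matrix (Fin (t + 2) → Fin k) (Fin (t + 2) → Fin k) F := fun x => Lq x v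
  have hu0 : ∀ x : G ⧸ H, u 0 • x = x := fun x => by
    rw [show u 0 = 1 from Subtype.ext (uel_zero hd e)]; exact one_smul _ _
  have huadd : ∀ c d (x : G ⧸ H), u (c + d) • x = u c • u d • x := fun c d x => by
    rw [show u (c + d) = u c * u d from Subtype.ext (uel_add hd e c d), mul_smul]
  have hf : ∀ c x, f (u c • x) = conjMat (uel hd e c) (f x) := fun c x => by
    have h1 := hsm (u c) x v
    rw [show conjMat (u c).1 v = v from uel_fix_of_comm hd e c hv] at h1
    exact h1
  have hfix0 : ∀ c, u c • x₀ = x₀ := fun c => by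
    rw [MulAction.Quotient.smul_mk, smul_eq_mul, mul_one]
    refine QuotientGroup.eq.2 ?_
    rw [mul_one, Subgroup.inv_mem_iff, Subgroup.mem_subgroupOf]
    exact sgl_mem _ _
  have hne0 : ∀ c (x : G ⧸ H), x ≠ x₀ → u c • x ≠ x₀ := fun c x hx h => hx (smul_left_cancel _ (h.trans (hfix0 c).symm))
  set T := (Finset.univ.erase x₀).filter fun x => ∃ c, c ≠ 0 ∧ u c • x = x
  set T' := (Finset.univ.erase x₀).filter fun x => ¬∃ c, c ≠ 0 ∧ u c • x = x
  have hinvQ : ∀ c (x : G ⧸ H), (∃ d, d ≠ 0 ∧ u d • x = x) → ∃ d, d ≠ 0 ∧ u d • (u c • x) = u c • x := by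
    rintro c x ⟨d, hd0, hdx⟩
    exact ⟨d, hd0, by rw [← huadd, add_comm d c, huadd, hdx]⟩
  have h1 : ∑ x ∈ T, f x = 0 := by
    refine sum_no_fix p (fun c => by rw [nsmul_eq_mul, CharP.cast_eq_zero, zero_mul]) (fun M => by rw [← Nat.cast_smul_eq_nsmul F, CharP.cast_eq_zero, zero_smul])
      (fun c x => u c • x) hu0 huadd f T (fun c x hx => ?_) (fun c x hx => ?_) fun x hx => ?_
    · obtain ⟨hx1, hx2⟩ := Finset.mem_filter.1 hx
      exact Finset.mem_filter.2 ⟨Finset.mem_erase.2 ⟨hne0 c x (Finset.mem_erase.1 hx1).1, Finset.mem_univ _⟩, hinvQ c x hx2⟩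
    · obtain ⟨-, d, hd0, hdx⟩ := Finset.mem_filter.1 hx
      rw [hf]
      refine uel_fix_of_comm hd e c (comm_of_uel_fix hd e hd0 ?_)
      rw [← hf, hdx]
    · obtain ⟨hx1, -⟩ := Finset.mem_filter.1 hx
      by_contra hno
      push Not at hno
      refine (Finset.mem_erase.1 hx1).1 ?_
      obtain ⟨g, rfl⟩ := QuotientGroup.mk_surjective x
      refine QuotientGroup.eq.2 ?_
      rw [mul_one, Subgroup.inv_mem_iff, Subgroup.mem_subgroupOf]
      refine goodU hd hbig IH hB hI hT g.2 0 e he0 ?_
      have h := hno 1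
      rw [MulAction.Quotient.smul_mk, smul_eq_mul, QuotientGroup.eq, Subgroup.mem_subgroupOf] at h
      have := inv_mem h
      simpa [u, uel, mul_assoc] using this
  obtain ⟨w, h2⟩ := sum_free (A := F) (fun c x => u c • x) hu0 huadd f
    (fun c => (conjMat (uel (t := t + 1) hd e c)).toLinearMap.toAddMonoidHom) hf T'
    (fun c x hx => by
      obtain ⟨hx1, hx2⟩ := Finset.mem_filter.1 hx
      refine Finset.mem_filter.2 ⟨Finset.mem_erase.2 ⟨hne0 c x (Finset.mem_erase.1 hx1).1, Finset.mem_univ _⟩, fun h => hx2 ?_⟩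
      obtain ⟨d, hd0, hd'⟩ := hinvQ (-c) _ h
      rw [show u (-c) • (u c • x) = x by rw [← huadd, neg_add_cancel, hu0]] at hd'
      exact ⟨d, hd0, hd'⟩)
    (fun c x hx h => by
      by_contra hc
      exact (Finset.mem_filter.1 hx).2 ⟨c, hc, h⟩)
  obtain ⟨Y, Y', hY, hY'⟩ := sum_uel (t := t + 1) hd e w
  refine ⟨Y, Y', ?_, hY'⟩
  have hx0 : f x₀ = R v := by
    show Lq (QuotientGroup.mk 1) v = _
    rw [hLq, hL]
    simp [conjMat_apply]
  have hsplit : ∑ x, f x = f x₀ + (∑ x ∈ T, f x + ∑ x ∈ T', f x) := by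
    rw [← Finset.add_sum_erase _ _ (Finset.mem_univ x₀), Finset.sum_filter_add_sum_filter_not]
  rw [LinearMap.sum_apply]
  show (∑ x, f x) - R v = _
  rw [hsplit, hx0, h1, h2, zero_add, add_sub_cancel_left, ← hY]
  rfl

/-- contraction of blocks with a row and a column -/
def cblk (ψ z : Fin k → F) (M : Matrix (Fin (t + 1) → Fin k) (Fin (t + 1) → Fin k) F) :
    Matrix (Fin t → Fin k) (Fin t → Fin k) F :=
  ∑ x, ∑ y, (ψ x * z y) • blk M x y

theorem cblk_left (ψ z e : Fin k → F) (h : ψ ⬝ᵥ e = 0) (Y : Matrix (Fin (t + 1) → Fin k) (Fin (t + 1) → Fin k) F) :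
    cblk ψ z (S 0 (Nm J e) * Y) = 0 := by
  rw [cblk, Finset.sum_comm]
  refine Finset.sum_eq_zero fun y _ => ?_
  simp only [map_mul, blk_S_zero, Matrix.mul_apply, Matrix.map_apply, ← Algebra.smul_def, Finset.smul_sum, smul_smul]
  rw [Finset.sum_comm]
  refine Finset.sum_eq_zero fun p _ => ?_
  rw [← Finset.sum_smul]
  simp only [Nm, vecMulVec_apply]
  have : ∑ x, ψ x * z y * (e x * phi J e p) = (ψ ⬝ᵥ e) * (z y * phi J e p) := by
    rw [dotProduct, Finset.sum_mul]
    exact Finset.sum_congr rfl fun x _ => by ring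
  rw [this, h, zero_mul, zero_smul]

theorem cblk_right (ψ z e : Fin k → F) (h : frm J z e = 0) (Y : Matrix (Fin (t + 1) → Fin k) (Fin (t + 1) → Fin k) F) :
    cblk ψ z (Y * S 0 (Nm J e)) = 0 := by
  rw [cblk]
  refine Finset.sum_eq_zero fun x _ => ?_
  simp only [map_mul, blk_S_zero, Matrix.mul_apply, Matrix.map_apply, ← Algebra.commutes, ← Algebra.smul_def,
    Finset.smul_sum, smul_smul]
  rw [Finset.sum_comm]
  refine Finset.sum_eq_zero fun p _ => ?_
  rw [← Finset.sum_smul]
  simp only [Nm, vecMulVec_apply]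
  have : ∑ y, ψ x * z y * (e p * phi J e y) = (phi J e ⬝ᵥ z) * (ψ x * e p) := by
    rw [dotProduct, Finset.sum_mul]
    exact Finset.sum_congr rfl fun x _ => by ring
  rw [this, ← frm_eq, h, zero_mul, zero_smul]

theorem cblk_single (M : Matrix (Fin (t + 1) → Fin k) (Fin (t + 1) → Fin k) F) (x y : Fin k) :
    cblk (Pi.single x 1) (Pi.single y 1) M = blk M x y := by
  simp [cblk, Pi.single_apply]

theorem cblk_lin (ψ ψ' z z' : Fin k → F) (c : F) (M : Matrix (Fin (t + 1) → Fin k) (Fin (t + 1) → Fin k) F) :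
    cblk (ψ + c • ψ') z M = cblk ψ z M + c • cblk ψ' z M ∧ cblk ψ (z + c • z') M = cblk ψ z M + c • cblk ψ z' M := by
  constructor <;>
    simp only [cblk, Pi.add_apply, Pi.smul_apply, smul_eq_mul, add_mul, mul_add, add_smul, Finset.sum_add_distrib,
      Finset.smul_sum, smul_smul, mul_assoc, mul_left_comm]

/-- a matrix in two left ideals vanishes -/
theorem eq_zero_of_two {e f : Fin k → F} (he : e ≠ 0) (hf : f ∉ Submodule.span F {e})
    {M : Matrix (Fin (t + 1) → Fin k) (Fin (t + 1) → Fin k) F}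
    (h1 : ∃ Y, M = S 0 (Nm J e) * Y) (h2 : ∃ Y, M = S 0 (Nm J f) * Y) : M = 0 := by
  classical
  obtain ⟨Y1, hY1⟩ := h1
  obtain ⟨Y2, hY2⟩ := h2
  obtain ⟨ψ0, hψe, hψf⟩ := exists_row_of_not_mem hf
  have hψe' : ψ0 ⬝ᵥ e = 0 := hψe e (Submodule.mem_span_singleton_self e)
  refine (blk (F := F) (m := k) (t := t)).injective (Matrix.ext fun x y => ?_)
  rw [← cblk_single, map_zero, Matrix.zero_apply]
  set ψ : Fin k → F := Pi.single x 1
  have e1 : ψ = (ψ - (ψ ⬝ᵥ f) • ψ0) + (ψ ⬝ᵥ f) • ψ0 := by abel
  rw [e1, (cblk_lin _ _ (Pi.single y 1) (Pi.single y 1) _ M).1]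
  nth_rewrite 1 [hY2]
  rw [hY1, cblk_left ψ0 _ e hψe', cblk_left _ _ f (by rw [sub_dotProduct, smul_dotProduct, hψf, smul_eq_mul, mul_one, sub_self]),
    smul_zero, add_zero]

/-- a matrix in three sums of ideals vanishes -/
theorem eq_zero_of_three (hd : Hyp J a b) {e : Fin 3 → Fin k → F} (he : LinearIndependent F e)
    {M : Matrix (Fin (t + 1) → Fin k) (Fin (t + 1) → Fin k) F}
    (h : ∀ i, ∃ Y Y', M = S 0 (Nm J (e i)) * Y + Y' * S 0 (Nm J (e i))) : M = 0 := by
  classical
  have hB : ∀ ψ z, (∃ i, ψ ⬝ᵥ e i = 0 ∧ frm J z (e i) = 0) → cblk ψ z M = 0 := by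
    rintro ψ z ⟨i, h1, h2⟩
    obtain ⟨Y, Y', hM⟩ := h i
    rw [hM]
    have hadd : ∀ A B : Matrix (Fin (t + 1) → Fin k) (Fin (t + 1) → Fin k) F, cblk ψ z (A + B) = cblk ψ z A + cblk ψ z B :=
      fun A B => by simp only [cblk, map_add, Matrix.add_apply, smul_add, Finset.sum_add_distrib]
    rw [hadd, cblk_left ψ z (e i) h1, cblk_right ψ z (e i) h2, add_zero]
  have hdual : ∀ i, ∃ ψ : Fin k → F, ∀ j, ψ ⬝ᵥ e j = if j = i then 1 else 0 := fun i => by
    have hn : e i ∉ Submodule.span F (e '' {j | j ≠ i}) := he.notMem_span_image fun h => h rfl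
    obtain ⟨ψ, h0, h1⟩ := exists_row_of_not_mem hn
    refine ⟨ψ, fun j => ?_⟩
    split_ifs with hj
    · rw [hj, h1]
    · exact h0 _ (Submodule.subset_span ⟨j, hj, rfl⟩)
  choose ψd hψd using hdual
  have hz : ∀ i, ∃ z : Fin k → F, ∀ j, frm J z (e j) = if j = i then 1 else 0 := fun i => by
    obtain ⟨z, hz⟩ := exists_repr hd.sp
      { toFun := fun x => ψd i ⬝ᵥ x
        map_add' := fun p q => dotProduct_add _ p q
        map_smul' := fun c p => dotProduct_smul c _ p }
    refine ⟨-z, fun j => ?_⟩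
    rw [hd.sp.skew, neg_right hd.sp, neg_neg, show frm J (e j) z = ψd i ⬝ᵥ e j from hz _, hψd]
  choose zd hzd using hz
  have third : ∀ i j : Fin 3, ∃ l, l ≠ i ∧ l ≠ j := by decide
  have hexp : ∀ (ψ z : Fin k → F), cblk ψ z M = 0 := by
    intro ψ z
    obtain ⟨ψ0, hψ0, eψ⟩ : ∃ ψ0, (∀ j, ψ0 ⬝ᵥ e j = 0) ∧ ψ = ψ0 + ∑ i, (ψ ⬝ᵥ e i) • ψd i :=
      ⟨ψ - ∑ i, (ψ ⬝ᵥ e i) • ψd i, fun j => by simp [sub_dotProduct, sum_dotProduct, hψd], by abel⟩
    obtain ⟨z0, hz0, ez⟩ : ∃ z0, (∀ j, frm J z0 (e j) = 0) ∧ z = z0 + ∑ i, frm J z (e i) • zd i :=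
      ⟨z - ∑ i, frm J z (e i) • zd i, fun j => by
        rw [frm_eq, dotProduct_sub, dotProduct_sum]
        simp [dotProduct_smul, ← frm_eq, hzd], by abel⟩
    have key : ∀ χ, (∀ i, ∃ l, χ ⬝ᵥ e l = 0 ∧ l ≠ i) → cblk χ z M = 0 := by
      intro χ hχ
      rw [ez, Fin.sum_univ_three, ← add_assoc, ← add_assoc]
      rw [(cblk_lin χ χ _ _ _ M).2, (cblk_lin χ χ _ _ _ M).2, (cblk_lin χ χ _ _ _ M).2]
      have hi : ∀ i, cblk χ (zd i) M = 0 := fun i => by
        obtain ⟨l, hl, hli⟩ := hχ i
        exact hB _ _ ⟨l, hl, by rw [hzd, if_neg hli]⟩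
      obtain ⟨l, hl, -⟩ := hχ 0
      rw [hi, hi, hi, hB _ _ ⟨l, hl, hz0 l⟩]
      simp
    rw [eψ, Fin.sum_univ_three, ← add_assoc, ← add_assoc]
    rw [(cblk_lin _ _ z z _ M).1, (cblk_lin _ _ z z _ M).1, (cblk_lin _ _ z z _ M).1]
    have hi : ∀ j, cblk (ψd j) z M = 0 := fun j => key _ fun i => by
      obtain ⟨l, hlj, hli⟩ := third j i
      exact ⟨l, by rw [hψd, if_neg hlj], hli⟩
    rw [hi, hi, hi, key ψ0 fun i => by obtain ⟨l, hl, -⟩ := third i i; exact ⟨l, hψ0 l, hl⟩]
    simp
  refine (blk (F := F) (m := k) (t := t)).injective (Matrix.ext fun x y => ?_)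
  rw [← cblk_single, hexp, map_zero, Matrix.zero_apply]

/-- a matrix orthogonal to all matrices of trace zero is scalar -/
theorem scalar_of_trace {x : Matrix (Fin k) (Fin k) F} (p : Fin k)
    (h : ∀ w : Matrix (Fin k) (Fin k) F, w.trace = 0 → (x * w).trace = 0) : x = x p p • 1 := by
  ext i j
  rw [Matrix.smul_apply, Matrix.one_apply, smul_eq_mul]
  rcases eq_or_ne i j with rfl | hij
  · rw [if_pos rfl, mul_one]
    have := h (Matrix.single i i 1 - Matrix.single p p 1) (by simp [Matrix.trace_single_eq_same])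
    rw [Matrix.mul_sub, Matrix.trace_sub, Matrix.trace_mul_comm, Matrix.trace_mul_comm x] at this
    simpa [Matrix.trace, Matrix.mul_apply, Matrix.single_apply, ite_and, sub_eq_zero] using this
  · rw [if_neg hij, mul_zero]
    have := h (Matrix.single j i 1) (mem_sl.1 (single_mem_sl (Ne.symm hij) 1))
    rw [Matrix.trace_mul_comm] at this
    simpa [Matrix.trace, Matrix.mul_apply, Matrix.single_apply, ite_and] using this

/-- a square zero sum of slot matrices of trace zero is one slot -/
theorem single_slot (hd : Hyp J a b) (h2 : (2 : F) ≠ 0) {X : Matrix (Fin t → Fin k) (Fin t → Fin k) F} (hX : X ∈ L0 F k t)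
    (hXX : X * X = 0) : X = 0 ∨ ∃ (j : Fin t) (y : Matrix (Fin k) (Fin k) F), X = S j y ∧ y * y = 0 := by
  classical
  haveI : Nonempty (Fin t → Fin k) := ⟨fun _ => a⟩
  obtain ⟨x, hx, hXe⟩ : ∃ x : Fin t → Matrix (Fin k) (Fin k) F, (∀ j, (x j).trace = 0) ∧ X = ∑ j, S j (x j) := by
    clear hXX
    induction hX using Submodule.iSup_induction' with
    | zero => exact ⟨0, by simp, by simp⟩
    | add u v _ _ hu hv =>
      obtain ⟨x, hx, rfl⟩ := hu
      obtain ⟨y, hy, rfl⟩ := hv
      exact ⟨x + y, fun j => by simp [hx, hy], by simp [Finset.sum_add_distrib]⟩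
    | mem j v hv =>
      obtain ⟨w, hw, rfl⟩ := hv
      refine ⟨Pi.single j w, fun l => ?_, ?_⟩
      · rcases eq_or_ne l j with rfl | h
        · rw [Pi.single_eq_same]; exact mem_sl.1 hw
        · rw [Pi.single_eq_of_ne h, trace_zero]
      · rw [Finset.sum_eq_single j (fun l _ hl => by rw [Pi.single_eq_of_ne hl, map_zero]) (by simp), Pi.single_eq_same]
        rfl
  have htest : ∀ j l, j ≠ l → ∀ w w' : Matrix (Fin k) (Fin k) F, w.trace = 0 → w'.trace = 0 →
      (x j * w).trace * (x l * w').trace = 0 := by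
    intro j l hjl w w' hw hw'
    let W : Fin t → Matrix (Fin k) (Fin k) F := Function.update (Function.update (fun _ => Matrix.single a a 1) j w) l w'
    have hWj : W j = w := by simp [W, hjl]
    have hWl : W l = w' := by simp [W]
    have hWo : ∀ s, s ≠ j → s ≠ l → (W s).trace = 1 := fun s h1 h2 => by simp [W, h1, h2, Matrix.trace_single_eq_same]
    have hterm : ∀ p q, (S p (x p) * S q (x q) * pureTensor W).trace =
        if (p = j ∧ q = l) ∨ (p = l ∧ q = j) then (x j * w).trace * (x l * w').trace else 0 := by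
      intro p q
      rw [slotHom_apply, slotHom_apply, ← map_mul, ← map_mul, trace_pureTensor]
      split_ifs with hpq
      · rw [← Finset.mul_prod_erase _ _ (Finset.mem_univ j),
          ← Finset.mul_prod_erase _ _ (Finset.mem_erase.2 ⟨hjl.symm, Finset.mem_univ l⟩), Finset.prod_eq_one fun s hs => ?_]
        · rcases hpq with ⟨rfl, rfl⟩ | ⟨rfl, rfl⟩ <;>
            simp [Pi.mulSingle_eq_of_ne hjl, Pi.mulSingle_eq_of_ne hjl.symm, hWj, hWl]
        · simp only [Finset.mem_erase] at hs
          have h1 := hWo s hs.2.1 hs.1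
          rcases hpq with ⟨rfl, rfl⟩ | ⟨rfl, rfl⟩ <;>
            simp [Pi.mulSingle_eq_of_ne hs.1, Pi.mulSingle_eq_of_ne hs.2.1, h1]
      · have hmiss : (p ≠ j ∧ q ≠ j) ∨ (p ≠ l ∧ q ≠ l) := by grind
        rcases hmiss with ⟨h1, h2⟩ | ⟨h1, h2⟩
        · exact Finset.prod_eq_zero (Finset.mem_univ j) (by
            simp [Pi.mulSingle_eq_of_ne h1.symm, Pi.mulSingle_eq_of_ne h2.symm, hWj, hw])
        · exact Finset.prod_eq_zero (Finset.mem_univ l) (by
            simp [Pi.mulSingle_eq_of_ne h1.symm, Pi.mulSingle_eq_of_ne h2.symm, hWl, hw'])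
    have h0 := congrArg (fun M => (M * pureTensor W).trace) hXX
    simp only [zero_mul, trace_zero, hXe, Finset.sum_mul, Finset.mul_sum, trace_sum, hterm] at h0
    have e : ∀ p q : Fin t, (if (p = j ∧ q = l) ∨ (p = l ∧ q = j) then (x j * w).trace * (x l * w').trace else 0) =
        (if p = j then (if q = l then (x j * w).trace * (x l * w').trace else 0) else 0) +
          (if p = l then (if q = j then (x j * w).trace * (x l * w').trace else 0) else 0) := by
      intro p q; split_ifs <;> grind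
    simp only [e, Finset.sum_add_distrib, Finset.sum_ite_eq', Finset.mem_univ, if_true, Finset.sum_ite_irrel,
      Finset.sum_const_zero] at h0
    refine (mul_eq_zero.1 ?_).resolve_left h2
    linear_combination h0
  by_cases hall : ∀ j, x j = x j a a • 1
  · left
    have e : X = (∑ j, x j a a) • 1 := by
      rw [hXe, Finset.sum_smul]
      exact Finset.sum_congr rfl fun j _ => by conv_lhs => rw [hall j, map_smul, map_one]
    rw [e, smul_mul_smul_comm, one_mul, smul_eq_zero] at hXX
    rcases hXX with h | h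
    · rw [e, mul_self_eq_zero.1 h, zero_smul]
    · exact absurd h one_ne_zero
  · right
    push Not at hall
    obtain ⟨j, hj⟩ := hall
    obtain ⟨w, hw, hjw⟩ : ∃ w, w.trace = 0 ∧ (x j * w).trace ≠ 0 := by
      by_contra hc
      push Not at hc
      exact hj (scalar_of_trace a hc)
    have hsc : ∀ l, l ≠ j → x l = x l a a • 1 := fun l hl =>
      scalar_of_trace a fun w' hw' => (mul_eq_zero.1 (htest j l hl.symm w w' hw hw')).resolve_left hjw
    obtain ⟨y, hy⟩ : ∃ y, X = S j y := by
      refine ⟨x j + (∑ l ∈ Finset.univ.erase j, x l a a) • 1, ?_⟩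
      rw [map_add, map_smul, map_one, Finset.sum_smul, hXe, ← Finset.add_sum_erase _ _ (Finset.mem_univ j)]
      refine congrArg _ (Finset.sum_congr rfl fun l hl => ?_)
      conv_lhs => rw [hsc l (Finset.ne_of_mem_erase hl), map_smul, map_one]
    refine ⟨j, y, hy, algHom_matrix_injective (S (F := F) (m := k) j) ?_⟩
    rw [map_mul, ← hy, hXX, map_zero]

/-- tame overgroups lie in the wreath group -/
theorem levelS (hd : Hyp J a b) (hbig : Big F k) (t : ℕ) : LevelS J a b t := by
  induction t with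
  | zero => exact levelS_zero
  | succ t IH =>
    classical
    intro G hB hI hT g hg
    obtain ⟨ρ, hρ, herr⟩ := err_spec hd hbig IH hB hI hT
    set R := ctr (swSum F k (t + 2))
    let E : Matrix (Fin k) (Fin k) F → Prop := fun z => ∀ M, ρ (S 0 z * lift M) = R (S 0 z * lift M)
    have hEadd : ∀ {y z}, E y → E z → E (y + z) := fun hy hz M => by rw [map_add, add_mul, map_add, map_add, hy, hz]
    have hEsmul : ∀ (c : F) {z}, E z → E (c • z) := fun c z hz M => by rw [map_smul, smul_mul_assoc, map_smul, map_smul, hz]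
    have hEsub : ∀ {y z}, E y → E z → E (y - z) := fun {y z} hy hz => by
      rw [sub_eq_add_neg, ← neg_one_smul F z]; exact hEadd hy (hEsmul _ hz)
    have hcomm : ∀ (e : Fin k → F) (z : Matrix (Fin k) (Fin k) F), Nm J e * z = z * Nm J e → ∀ M,
        S (0 : Fin (t + 2)) (Nm J e) * (S 0 z * lift M) = S 0 z * lift M * S 0 (Nm J e) := fun e z h M => by
      rw [← mul_assoc, ← map_mul, h, map_mul, mul_assoc, S0_lift_comm, mul_assoc]
    have hEz : ∀ z, E z := by
      by_cases h4 : 4 ≤ k
      · have hone : ∀ x y, E (vecMulVec x (phi J y)) := by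
          intro x y M
          refine sub_eq_zero.1 ?_
          let L : (Fin k → F) →ₗ[F] F × F := (form hd.sp x).prod (form hd.sp y)
          have hker : 2 ≤ Module.finrank F (LinearMap.ker L) := by
            have h1 := LinearMap.finrank_range_add_finrank_ker L
            have h2 := Submodule.finrank_le (LinearMap.range L)
            rw [Module.finrank_prod, Module.finrank_self] at h2
            rw [Module.finrank_fintype_fun_eq_card, Fintype.card_fin] at h1
            omega
          obtain ⟨e, he, he0⟩ := Submodule.exists_mem_ne_zero_of_ne_bot (p := LinearMap.ker L) fun h => by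
            rw [h, finrank_bot] at hker; omega
          obtain ⟨f, hf, hfe⟩ : ∃ f ∈ LinearMap.ker L, f ∉ Submodule.span F {e} := by
            by_contra hc
            push Not at hc
            have h1 := Submodule.finrank_mono (show LinearMap.ker L ≤ Submodule.span F {e} from hc)
            rw [finrank_span_singleton he0] at h1; omega
          have hf0 : f ≠ 0 := fun h => hfe (by rw [h]; exact zero_mem _)
          have key : ∀ v ∈ LinearMap.ker L, v ≠ 0 → ∃ Y Y', ρ (S 0 (vecMulVec x (phi J y)) * lift M) -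
              R (S 0 (vecMulVec x (phi J y)) * lift M) = S 0 (Nm J v) * Y + Y' * S 0 (Nm J v) ∧
              ((2 : F) ≠ 0 → Y' = 0) := by
            intro v hv hv0
            obtain ⟨h1, h2⟩ : frm J v x = 0 ∧ frm J v y = 0 := by
              simpa [L, form_apply] using hv
            obtain ⟨Y, Y', hZ, hZ'⟩ := herr v hv0 _ (hcomm v (vecMulVec x (phi J y)) (by
              rw [Nm, vecMulVec_mul_vecMulVec, vecMulVec_mul_vecMulVec, ← frm_eq, ← frm_eq, h2, comm_zero hd.sp h1,
                zero_smul, zero_smul, vecMulVec_zero, vecMulVec_zero]) M)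
            exact ⟨Y, Y', hZ, fun h => (hZ' h).1⟩
          by_cases h2 : (2 : F) = 0
          · have h6 := hd.ch.resolve_left (not_not.2 h2)
            have hker' : 4 ≤ Module.finrank F (LinearMap.ker L) := by
              have h1 := LinearMap.finrank_range_add_finrank_ker L
              have h3 := Submodule.finrank_le (LinearMap.range L)
              rw [Module.finrank_prod, Module.finrank_self] at h3
              rw [Module.finrank_fintype_fun_eq_card, Fintype.card_fin] at h1
              omega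
            let bas := Module.finBasis F (LinearMap.ker L)
            let ev : Fin 3 → Fin k → F := fun i => (bas ⟨i.val, by omega⟩ : Fin k → F)
            have hli : LinearIndependent F ev :=
              (bas.linearIndependent.map' (LinearMap.ker L).subtype (Submodule.ker_subtype _)).comp
                (fun i : Fin 3 => (⟨i.val, by omega⟩ : Fin _)) fun i j h => Fin.ext (by simpa using congrArg Fin.val h)
            exact eq_zero_of_three hd hli fun i => by
              obtain ⟨Y, Y', hY, -⟩ := key (ev i) (bas ⟨i.val, by omega⟩).2 (hli.ne_zero i)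
              exact ⟨Y, Y', hY⟩
          · refine eq_zero_of_two (e := e) (f := f) (J := J) he0 hfe ?_ ?_
            · obtain ⟨Y, Y', hY, hY'⟩ := key e he he0
              exact ⟨Y, by rw [hY, hY' h2, zero_mul, add_zero]⟩
            · obtain ⟨Y, Y', hY, hY'⟩ := key f hf hf0
              exact ⟨Y, by rw [hY, hY' h2, zero_mul, add_zero]⟩
        intro z
        rw [Matrix.matrix_eq_sum_single z]
        refine Finset.sum_induction _ E (fun _ _ => hEadd) (fun M => by simp) fun p _ => ?_
        refine Finset.sum_induction _ E (fun _ _ => hEadd) (fun M => by simp) fun q _ => ?_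
        obtain ⟨g', hg'⟩ := exists_repr hd.sp (LinearMap.proj q : (Fin k → F) →ₗ[F] F)
        have e : Matrix.single p q (z p q) = z p q • vecMulVec (Pi.single p 1) (phi J g') := by
          have : phi J g' = Pi.single q 1 := dotProduct_eq _ _ fun x => by
            rw [← frm_eq, hg', LinearMap.proj_apply, single_dotProduct, one_mul]
          rw [this]
          ext u v
          simp [Matrix.single_apply, vecMulVec_apply, Pi.single_apply]
          aesop
        rw [e]
        exact hEsmul _ (hone _ _)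
      · have hl := hbig.resolve_left h4
        have hk2 : k = 2 := hd.hk.resolve_right h4
        have h2 : (2 : F) ≠ 0 := hd.ch.resolve_right (by omega)
        have hNE : ∀ e, e ≠ 0 → E (Nm J e) := fun e he M => by
          obtain ⟨Y, Y', hZ, hZ0⟩ := herr e he _ (hcomm e _ rfl M)
          rwa [(hZ0 h2).1, (hZ0 h2).2 hl, mul_zero, zero_mul, add_zero, sub_eq_zero] at hZ
        have hA0 : (Pi.single a 1 : Fin k → F) ≠ 0 := fun e => by simpa using congrFun e a
        have h1 : E 1 := fun M => by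
          obtain ⟨Y, Y', hZ, hZ0⟩ := herr _ hA0 _ (hcomm (Pi.single a 1) 1 (by rw [mul_one, one_mul]) M)
          rwa [(hZ0 h2).1, (hZ0 h2).2 hl, mul_zero, zero_mul, add_zero, sub_eq_zero] at hZ
        have hab' : ∀ p : Fin k, p = a ∨ p = b := fun p => by
          subst hk2; have := hd.hab; fin_cases p <;> fin_cases a <;> fin_cases b <;> simp_all
        have hAB : E (Matrix.single a b 1) := by
          have := hEsmul (-1) (hNE _ hA0)
          rwa [Nm_a hd, neg_one_smul, neg_neg] at this
        have hBA : E (Matrix.single b a 1) := by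
          have := hNE (Pi.single b 1) fun e => by simpa using congrFun e b
          rwa [Nm_b hd] at this
        have hD : E (Matrix.single a a 1 - Matrix.single b b 1) := by
          have h3 := hEsub (hEadd (hNE (Pi.single a 1 + Pi.single b 1) fun e => by simpa [hd.hab] using congrFun e a) hAB) hBA
          convert h3 using 1
          rw [Nm, phi_add, phi_a hd, phi_b hd]
          simp only [add_vecMulVec, vecMulVec_add, vecMulVec_neg, single_eq_single_vecMulVec_single]
          abel
        have hsum : (1 : Matrix (Fin k) (Fin k) F) = Matrix.single a a 1 + Matrix.single b b 1 := by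
          ext p q
          rcases hab' p with rfl | rfl <;> rcases hab' q with rfl | rfl <;>
            simp [hd.hab, hd.hab.symm]
        have hAA : E (Matrix.single a a 1) := by
          have := hEsmul (2 : F)⁻¹ (hEadd h1 hD)
          rwa [hsum, show Matrix.single a a (1 : F) + Matrix.single b b 1 + (Matrix.single a a 1 - Matrix.single b b 1) =
            (2 : F) • Matrix.single a a 1 by rw [two_smul]; abel, inv_smul_smul₀ h2] at this
        have hBB : E (Matrix.single b b 1) := by
          have := hEsub h1 hAA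
          rwa [hsum, add_sub_cancel_left] at this
        intro z
        rw [Matrix.matrix_eq_sum_single z]
        refine Finset.sum_induction _ E (fun _ _ => hEadd) (fun M => by simp) fun p _ => ?_
        refine Finset.sum_induction _ E (fun _ _ => hEadd) (fun M => by simp) fun q _ => ?_
        rw [show Matrix.single p q (z p q) = z p q • Matrix.single p q (1 : F) by rw [Matrix.smul_single, smul_eq_mul, mul_one]]
        refine hEsmul _ ?_
        rcases hab' p with rfl | rfl <;> rcases hab' q with rfl | rfl <;> assumption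
    have hρR : ρ = R := by
      refine LinearMap.ext fun v => ?_
      have e : v = ∑ p, ∑ q, S 0 (Matrix.single p q (1 : F)) * lift (blk v p q) := by
        refine (blk (F := F) (m := k) (t := t + 1)).injective (Matrix.ext fun x y => ?_)
        simp [Matrix.sum_apply, blk_S0_lift, Matrix.single_apply, ite_and, -map_mul]
      rw [e, map_sum, map_sum]
      refine Finset.sum_congr rfl fun p _ => ?_
      rw [map_sum, map_sum]
      exact Finset.sum_congr rfl fun q _ => hEz _ _
    by_cases hk3 : 3 ≤ k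
    · refine mem_of_root hk3 (Nat.succ_pos _) fun i x y hxy c => ?_
      let X : Fin (t + 2) → Matrix (Fin k) (Fin k) F := Function.update (fun _ => Matrix.single x x 1) i (Matrix.single x y c)
      have htr : (pureTensor X).trace = 0 := by
        rw [trace_pureTensor]
        refine Finset.prod_eq_zero (Finset.mem_univ i) ?_
        simp only [X, Function.update_self]
        exact mem_sl.1 (single_mem_sl hxy c)
      have e : S i (Matrix.single x y c) = R (pureTensor X) := by
        show _ = ctr (swSum F k (t + 2)) (pureTensor X)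
        rw [swSum, ctr_sum, Finset.sum_eq_single i (fun j _ hj => ?_) (by simp)]
        · rw [ctr_kp_pure, slotHom_apply]
          congr 1
          funext l
          rcases eq_or_ne l i with rfl | hl
          · simp [X, ctr_sw]
          · simp [X, Function.update_of_ne hl, Pi.mulSingle_eq_of_ne hl, ctr_one, Matrix.trace_single_eq_same]
        · rw [ctr_kp_pure]
          refine pure_zero _ i ?_
          rw [Function.update_of_ne hj.symm, Pi.one_apply, ctr_one]
          simp [X, mem_sl.1 (single_mem_sl hxy c)]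
      rw [e, ← hρR, ← hρ g hg, hρR]
      refine ctr_swSum_mem ?_
      rw [conjMat_apply, Matrix.trace_mul_comm, ← mul_assoc, ← Units.val_mul, inv_mul_cancel, Units.val_one, one_mul, htr]
    have h2 : (2 : F) ≠ 0 := hd.ch.resolve_right (by omega)
    refine mem_of_conj_roots hd fun i e => ⟨?_, mul_mem (mul_mem (hI hg) (sgl_iso _ (tvS_mem hd e 1))) (inv_mem (hI hg))⟩
    let P : Fin (t + 2) → Matrix (Fin k) (Fin k) F := Function.update (fun _ => Matrix.single a a 1) i (Nm J e)
    have hN : (Nm J e).trace = 0 := by rw [Nm, trace_vecMulVec, dotProduct_comm, phi_dot hd]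
    have htr : (pureTensor P).trace = 0 := by
      rw [trace_pureTensor]
      refine Finset.prod_eq_zero (Finset.mem_univ i) ?_
      simp only [P, Function.update_self]
      exact hN
    have eR : S i (Nm J e) = R (pureTensor P) := by
      show _ = ctr (swSum F k (t + 2)) (pureTensor P)
      rw [swSum, ctr_sum, Finset.sum_eq_single i (fun j _ hj => ?_) (by simp)]
      · rw [ctr_kp_pure, slotHom_apply]
        congr 1
        funext l
        rcases eq_or_ne l i with rfl | hl
        · simp [P, ctr_sw]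
        · simp [P, Function.update_of_ne hl, Pi.mulSingle_eq_of_ne hl, ctr_one, Matrix.trace_single_eq_same]
      · rw [ctr_kp_pure]
        refine pure_zero _ i ?_
        rw [Function.update_of_ne hj.symm, Pi.one_apply, ctr_one]
        simp [P, hN]
    have hX : conjMat g (S i (Nm J e)) ∈ L0 F k (t + 2) := by
      rw [eR, ← hρR, ← hρ g hg, hρR]
      refine ctr_swSum_mem ?_
      rw [conjMat_apply, Matrix.trace_mul_comm, ← mul_assoc, ← Units.val_mul, inv_mul_cancel, Units.val_one, one_mul, htr]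
    have hval : (g * sgl i (tvS hd e 1) * g⁻¹).val = 1 + conjMat g (S i (Nm J e)) := by
      rw [← sub_eq_iff_eq_add', conj_val_sub, sgl_tv_sub, one_smul]
    rcases single_slot hd h2 hX (by rw [← map_mul, ← map_mul (S i), Nm_mul_self hd, map_zero, map_zero]) with h0 | ⟨j, y, hy, hyy⟩
    · rw [show g * sgl i (tvS hd e 1) * g⁻¹ = 1 from Units.ext (by rw [hval, h0, add_zero, Units.val_one])]
      exact one_mem _
    · let h1 : GL (Fin k) F := ⟨1 + y, 1 - y,
        by rw [mul_sub, mul_one, add_mul, one_mul, hyy, add_zero]; abel,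
        by rw [mul_add, mul_one, sub_mul, one_mul, hyy, sub_zero]; abel⟩
      rw [show g * sgl i (tvS hd e 1) * g⁻¹ = sgl j h1 from Units.ext (by
        rw [hval, hy, sgl_coe]; show _ = S j (1 + y); rw [map_add, map_one])]
      exact sgl_mem _ _

end Cfsg.Agent.TensorWreath.Sy
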