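import Cfsg.Agent.Lib.Forms.Max.TensorWreath.Symp.Grow

/-!
# Overgroups are in the wreath group or contain all transvections
-/

set_option autoImplicit false
set_option linter.unusedSectionVars false

namespace Cfsg.Agent.TensorWreath.Sy

open Matrix Cfsg.Agent.Aschbacher Cfsg.Agent.Forms.Max Cfsg.Agent.Forms.Max.SympTools

variable {F : Type*} [Field F] [Fintype F] [NeZero (2 : F)] {k t : ℕ} {J : Matrix (Fin k) (Fin k) F} {a b : Fin k}

/-- the tensor power of the form -/
def Phi (J : Matrix (Fin k) (Fin k) F) (t : ℕ) (x y : (Fin t → Fin k) → F) : F := x ⬝ᵥ (gram t J *ᵥ y)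

theorem Phi_pvec (u w : Fin t → Fin k → F) : Phi J t (pvec u) (pvec w) = ∏ i, frm J (u i) (w i) := by
  rw [Phi, gram, pure_mulVec_pvec, pvec_dot]
  rfl

theorem iso_Phi {g : GL (Fin t → Fin k) F} (hg : g ∈ Iso J t) (x y : (Fin t → Fin k) → F) :
    Phi J t (g.val *ᵥ x) (g.val *ᵥ y) = Phi J t x y := by
  have e := mem_Iso.1 hg
  conv_rhs => rw [Phi, ← e]
  rw [Phi, ← mulVec_mulVec, ← mulVec_mulVec, dotProduct_mulVec x g.valᵀ, vecMul_transpose]

theorem mulVec_cancel (g : GL (Fin t → Fin k) F) (x : (Fin t → Fin k) → F) : (g⁻¹).val *ᵥ (g.val *ᵥ x) = x := by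
  rw [mulVec_mulVec, ← Units.val_mul, inv_mul_cancel, Units.val_one, one_mulVec]

theorem mulVec_cancel' (g : GL (Fin t → Fin k) F) (x : (Fin t → Fin k) → F) : g.val *ᵥ ((g⁻¹).val *ᵥ x) = x := by
  rw [mulVec_mulVec, ← Units.val_mul, mul_inv_cancel, Units.val_one, one_mulVec]

theorem pvec_single (y : Fin t → Fin k) : (Pi.single y 1 : (Fin t → Fin k) → F) = pvec fun i => Pi.single (y i) 1 := by
  funext x
  by_cases h : x = y
  · subst h; simp [pvec]
  · obtain ⟨i, hi⟩ := Function.ne_iff.1 h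
    rw [Pi.single_eq_of_ne h, pvec]
    exact (Finset.prod_eq_zero (Finset.mem_univ i) (Pi.single_eq_of_ne hi _)).symm

theorem pure_vecMulVec (u φ : Fin t → Fin k → F) :
    pureTensor (fun i => vecMulVec (u i) (φ i)) = vecMulVec (pvec u) (pvec φ) := by
  ext x y
  simp [pureTensor_apply, vecMulVec_apply, pvec, Finset.prod_mul_distrib]

theorem gl_ext' {g h : GL (Fin t → Fin k) F} (e : ∀ x, g.val *ᵥ x = h.val *ᵥ x) : g = h :=
  Units.ext (Matrix.ext_iff_mulVec.2 e)

variable (hd : Hyp J a b)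
include hd

/-- an odd tensor power is symplectic -/
theorem phi_symp (ht : Odd t) : Symp (Phi J t) := by
  have hJ : ∀ p q, J p q = -J q p := fun p q => by
    have h : ∀ p q, frm J (Pi.single p 1) (Pi.single q 1) = J p q := fun p q => by simp [frm, mulVec_single_one]
    rw [← h p q, hd.sp.skew, h]
  have hskew : ∀ v w, Phi J t v w = -Phi J t w v := by
    intro v w
    simp only [Phi, dotProduct, mulVec, Finset.mul_sum, ← Finset.sum_neg_distrib]
    rw [Finset.sum_comm]
    refine Finset.sum_congr rfl fun x _ => Finset.sum_congr rfl fun y _ => ?_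
    have e : gram t J y x = -gram t J x y := by
      simp only [gram, pureTensor_apply]
      rw [Finset.prod_congr rfl (fun i _ => show J (y i) (x i) = -1 * J (x i) (y i) by rw [hJ]; ring),
        Finset.prod_mul_distrib, Finset.prod_const, Finset.card_univ, Fintype.card_fin, ht.neg_one_pow, neg_one_mul]
    rw [e]; ring
  refine ⟨fun x y v => by simp [Phi, add_dotProduct], fun c x v => by simp [Phi], fun v => ?_, hskew, fun v hv => ?_⟩
  · have h := hskew v v
    have h2 : (2 : F) * Phi J t v v = 0 := by linear_combination h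
    exact (mul_eq_zero.1 h2).resolve_left (two_ne_zero (α := F))
  · have h : gram t J *ᵥ v = 0 := funext fun y => by
      have h1 := hskew (Pi.single y 1) v
      rw [hv, neg_zero] at h1
      simpa [Phi] using h1
    exact Matrix.mulVec_injective_of_isUnit (gram_unit hd) (h.trans (mulVec_zero _).symm)

omit hd

variable {G : Subgroup (GL (Fin t → Fin k) F)}

/-- the vectors all whose transvections are in the group -/
def ctrs (J : Matrix (Fin k) (Fin k) F) (G : Subgroup (GL (Fin t → Fin k) F)) : Set ((Fin t → Fin k) → F) :=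
  {v | ∀ (g : GL (Fin t → Fin k) F) (c : F), (∀ x, g.val *ᵥ x = x + (c * Phi J t x v) • v) → g ∈ G}

theorem ctrs_zero : (0 : (Fin t → Fin k) → F) ∈ ctrs J G := fun g c hg => by
  have e : g = 1 := gl_ext' fun x => by rw [hg, smul_zero, add_zero, Units.val_one, one_mulVec]
  rw [e]; exact one_mem G

theorem ctrs_map (hG : Over J G) {g : GL (Fin t → Fin k) F} (hg : g ∈ G) {v : (Fin t → Fin k) → F}
    (hv : v ∈ ctrs J G) : g.val *ᵥ v ∈ ctrs J G := by
  intro h c hhx
  have h1 := hv (g⁻¹ * h * g) c fun x => by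
    rw [Units.val_mul, Units.val_mul, ← mulVec_mulVec, ← mulVec_mulVec, hhx, mulVec_add, mulVec_smul, mulVec_cancel,
      mulVec_cancel, iso_Phi (hG.iso hg)]
  have h2 := mul_mem (mul_mem hg h1) (inv_mem hg)
  rwa [show g * (g⁻¹ * h * g) * g⁻¹ = h by group] at h2

include hd

/-- adding a multiple of a non-orthogonal centre -/
theorem ctrs_add (hG : Over J G) (ht : Odd t) {v w : (Fin t → Fin k) → F} (hv : v ∈ ctrs J G) (hw : w ∈ ctrs J G)
    (hne : Phi J t w v ≠ 0) (s : F) : w + s • v ∈ ctrs J G := by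
  obtain ⟨g, -, hgx⟩ := exists_tv (phi_symp hd ht) v (s * (Phi J t w v)⁻¹)
  have hg : g ∈ G := hv g _ hgx
  have := ctrs_map hG hg hw
  rwa [hgx, inv_mul_cancel_right₀ hne] at this

/-- the pure vectors are centres -/
theorem pure_centre {G : Subgroup (GL (Fin (t + 1) → Fin k) F)} (hG : Over J G) (ht : Odd (t + 1))
    (hall : Has G fun _ => Matrix.single a b (1 : F)) (u : Fin (t + 1) → Fin k → F) : pvec u ∈ ctrs J G := by
  classical
  have hP := phi_symp hd ht
  set A : Fin (t + 1) → Fin k → F := fun _ => Pi.single a 1 with hA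
  obtain ⟨g, hg, c, hc, hgv⟩ := hall
  have hgx : ∀ x, g.val *ᵥ x = x + (-c * Phi J (t + 1) x (pvec A)) • pvec A := fun x => by
    rw [hgv, show (fun _ : Fin (t + 1) => Matrix.single a b (1 : F)) = fun _ : Fin (t + 1) =>
        vecMulVec (Pi.single a (1 : F)) (Pi.single b 1) from funext fun _ => single_eq_single_vecMulVec_single ..,
      pure_vecMulVec, add_mulVec, one_mulVec, smul_mulVec, vecMulVec_mulVec, op_smul_eq_smul, smul_smul]
    congr 2
    have e : gram (t + 1) J *ᵥ pvec A = -pvec (fun _ => Pi.single b 1) := by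
      rw [gram, pure_mulVec_pvec]
      funext y
      simp only [pvec, A, Pi.neg_apply]
      rw [Finset.prod_congr rfl (fun i _ => show (J *ᵥ Pi.single a (1 : F)) (y i) =
        -1 * (Pi.single b (1 : F) : Fin k → F) (y i) by
          have := congrFun (phi_a hd) (y i)
          rw [phi] at this
          rw [this, Pi.neg_apply, neg_one_mul]),
        Finset.prod_mul_distrib, Finset.prod_const, Finset.card_univ, Fintype.card_fin, ht.neg_one_pow, neg_one_mul]
    rw [Phi, e, dotProduct_neg, dotProduct_comm]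
    ring
  have htv : ∀ l : F, ∃ g' ∈ G, ∀ x, g'.val *ᵥ x = x + ((-c * (l * l)) * Phi J (t + 1) x (pvec A)) • pvec A := by
    intro l
    rcases eq_or_ne l 0 with rfl | hl
    · exact ⟨1, one_mem G, fun x => by simp⟩
    obtain ⟨h, hh, hha, -, -⟩ := exists_torus hd hl
    set s := sgl (0 : Fin (t + 1)) h
    have hs : s ∈ G := hG.base 0 _ hh
    have hsA : s.val *ᵥ pvec A = l • pvec A := by
      rw [sgl_coe, slotHom_apply, pure_mulVec_pvec]
      funext x
      simp only [pvec, Pi.smul_apply, smul_eq_mul, A]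
      rw [← Finset.mul_prod_erase _ _ (Finset.mem_univ (0 : Fin (t + 1))),
        ← Finset.mul_prod_erase _ _ (Finset.mem_univ (0 : Fin (t + 1))), Pi.mulSingle_eq_same, hha, Pi.smul_apply,
        smul_eq_mul, mul_assoc]
      refine congrArg _ (congrArg _ (Finset.prod_congr rfl fun i hi => ?_))
      rw [Pi.mulSingle_eq_of_ne (Finset.ne_of_mem_erase hi), one_mulVec]
    refine ⟨s * g * s⁻¹, mul_mem (mul_mem hs hg) (inv_mem hs), fun x => ?_⟩
    rw [Units.val_mul, Units.val_mul, ← mulVec_mulVec, ← mulVec_mulVec, hgx, mulVec_add, mulVec_smul, hsA,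
      mulVec_cancel', smul_smul]
    congr 2
    have h1 : Phi J (t + 1) ((s⁻¹).val *ᵥ x) (pvec A) = l * Phi J (t + 1) x (pvec A) := by
      rw [← iso_Phi (hG.iso hs), mulVec_cancel', hsA, smul_right hP]
    rw [h1]; ring
  have hcA : pvec A ∈ ctrs J G := by
    intro g' d hg'x
    set r := d / -c
    obtain ⟨h1, hh1, e1⟩ := htv ((r + 1) / 2)
    obtain ⟨h2, hh2, e2⟩ := htv ((r - 1) / 2)
    have e : g' * h2 = h1 := gl_ext' fun x => by
      rw [Units.val_mul, ← mulVec_mulVec, hg'x, e2, e1, hP.add, hP.smul, hP.alt, mul_zero, add_zero, add_assoc, ← add_smul]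
      congr 2
      have hr : d = -c * r := by simp only [r]; field_simp
      rw [hr]; field_simp [(two_ne_zero (α := F))]; ring
    rw [show g' = h1 * h2⁻¹ by rw [← e, mul_inv_cancel_right]]
    exact mul_mem hh1 (inv_mem hh2)
  by_cases hz : ∀ i, u i ≠ 0
  swap
  · push Not at hz
    obtain ⟨i, hi⟩ := hz
    rw [show pvec u = 0 from funext fun x => Finset.prod_eq_zero (Finset.mem_univ i) (by rw [hi]; rfl)]
    exact ctrs_zero
  have ha0 : (Pi.single a (1 : F) : Fin k → F) ≠ 0 := fun e => one_ne_zero (by simpa using congrFun e a : (1 : F) = 0)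
  choose x hx hxl using fun i => exists_moveS hd (u := Pi.single a 1) ha0 (hz i)
  have h1 := ctrs_map hG (hG.pure_mem hx) hcA
  rwa [pureGL_coe, pure_mulVec_pvec, show (fun i => (x i).val *ᵥ A i) = u from funext hxl] at h1

/-- a vector not orthogonal to two pure vectors -/
theorem exists_neighbour (u u' : Fin t → Fin k → F) (hu : pvec u ≠ 0) (hu' : pvec u' ≠ 0) :
    ∃ w, Phi J t (pvec u) (pvec w) ≠ 0 ∧ Phi J t (pvec u') (pvec w) ≠ 0 := by
  have hne : ∀ {v : Fin t → Fin k → F}, pvec v ≠ 0 → ∀ i, v i ≠ 0 := fun {v} hv i e =>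
    hv (funext fun x => Finset.prod_eq_zero (Finset.mem_univ i) (by rw [e]; rfl))
  have h : ∀ i, ∃ z, frm J (u i) z ≠ 0 ∧ frm J (u' i) z ≠ 0 := fun i => by
    obtain ⟨z1, hz1⟩ := exists_value_one hd.sp (hne hu i)
    obtain ⟨z2, hz2⟩ := exists_value_one hd.sp (hne hu' i)
    have e1 : frm J (u i) z1 ≠ 0 := by rw [hd.sp.skew, hz1]; exact neg_ne_zero.2 one_ne_zero
    have e2 : frm J (u' i) z2 ≠ 0 := by rw [hd.sp.skew, hz2]; exact neg_ne_zero.2 one_ne_zero
    by_cases h1 : frm J (u' i) z1 = 0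
    · by_cases h2 : frm J (u i) z2 = 0
      · exact ⟨z1 + z2, by rw [add_right hd.sp, h2, add_zero]; exact e1, by rw [add_right hd.sp, h1, zero_add]; exact e2⟩
      · exact ⟨z2, h2, e2⟩
    · exact ⟨z1, e1, h1⟩
  choose w hw1 hw2 using h
  exact ⟨w, by rw [Phi_pvec]; exact Finset.prod_ne_zero_iff.2 fun i _ => hw1 i,
    by rw [Phi_pvec]; exact Finset.prod_ne_zero_iff.2 fun i _ => hw2 i⟩

/-- all vectors are centres once the pure vectors are -/
theorem all_centres (hG : Over J G) (ht : Odd t) (hpure : ∀ u, pvec u ∈ ctrs J G) (v : (Fin t → Fin k) → F) :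
    v ∈ ctrs J G := by
  classical
  have hP := phi_symp hd ht
  have hexP : ∀ z : (Fin t → Fin k) → F, z ≠ 0 → ∃ u, Phi J t z (pvec u) ≠ 0 := by
    intro z hz
    by_contra hc
    push Not at hc
    refine hz (hP.nd z fun x => ?_)
    rw [Phi, dotProduct_mulVec, pi_eq_sum_univ' x, dotProduct_sum]
    refine Finset.sum_eq_zero fun y _ => ?_
    rw [dotProduct_smul, ← dotProduct_mulVec, pvec_single]
    rw [show z ⬝ᵥ gram t J *ᵥ pvec (fun i => Pi.single (y i) (1 : F)) = 0 from hc _, smul_zero]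
  have hpne : ∀ {z : (Fin t → Fin k) → F} {u}, Phi J t z (pvec u) ≠ 0 → pvec u ≠ 0 := fun h e => h (by rw [e, zero_right hP])
  -- a centre with three prescribed non-zero products
  have side : ∀ (α β : (Fin t → Fin k) → F) (z : Fin t → Fin k → F), α ≠ 0 → Phi J t α (pvec z) = 0 →
      Phi J t β (pvec z) ≠ 0 → ∃ y ∈ ctrs J G, Phi J t α y ≠ 0 ∧ Phi J t β y ≠ 0 ∧ Phi J t (α + β) y ≠ 0 := by
    intro α β z hα h0 hγ
    obtain ⟨y0, hy0⟩ := hexP α hα
    obtain ⟨w, hw1, hw2⟩ := exists_neighbour hd y0 z (hpne hy0) (hpne hγ)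
    obtain ⟨v1, hv1, hαv, hzv⟩ : ∃ v1 ∈ ctrs J G, Phi J t α v1 ≠ 0 ∧ Phi J t (pvec z) v1 ≠ 0 := by
      by_cases h : Phi J t (pvec z) (pvec y0) = 0
      swap
      · exact ⟨_, hpure y0, hy0, h⟩
      have key : ∀ s : F, s ≠ 0 → Phi J t α (pvec y0) + s * Phi J t α (pvec w) ≠ 0 →
          ∃ v1 ∈ ctrs J G, Phi J t α v1 ≠ 0 ∧ Phi J t (pvec z) v1 ≠ 0 := fun s hs hne =>
        ⟨_, ctrs_add hd hG ht (hpure w) (hpure y0) hw1 s, by rwa [add_right hP, smul_right hP],
          by rw [add_right hP, smul_right hP, h, zero_add]; exact mul_ne_zero hs hw2⟩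
      by_cases h1 : Phi J t α (pvec y0) + 1 * Phi J t α (pvec w) = 0
      · refine key (-1) (neg_ne_zero.2 one_ne_zero) fun h2 => ?_
        exact mul_ne_zero (two_ne_zero (α := F)) hy0 (by linear_combination h1 + h2)
      · exact key 1 one_ne_zero h1
    have key : ∀ s : F, s ≠ 0 → Phi J t β (pvec z) + s * Phi J t β v1 ≠ 0 →
        Phi J t β (pvec z) + s * (Phi J t α v1 + Phi J t β v1) ≠ 0 →
        ∃ y ∈ ctrs J G, Phi J t α y ≠ 0 ∧ Phi J t β y ≠ 0 ∧ Phi J t (α + β) y ≠ 0 := fun s hs h1 h2 =>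
      ⟨_, ctrs_add hd hG ht hv1 (hpure z) hzv s,
        by rw [add_right hP, smul_right hP, h0, zero_add]; exact mul_ne_zero hs hαv,
        by rwa [add_right hP, smul_right hP],
        by rw [hP.add, add_right hP, smul_right hP, add_right hP, smul_right hP, h0]; convert h2 using 1; ring⟩
    by_cases hg : Phi J t β v1 ≠ 0 ∧ Phi J t α v1 + Phi J t β v1 ≠ 0
    · exact ⟨v1, hv1, hαv, hg.1, by rw [hP.add]; exact hg.2⟩
    rw [not_and_or, not_not, not_not] at hg
    have hone : ∀ δ : F, Phi J t β (pvec z) + 1 * δ ≠ 0 ∨ Phi J t β (pvec z) + -1 * δ ≠ 0 := fun δ => by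
      by_contra hc
      push Not at hc
      exact mul_ne_zero (two_ne_zero (α := F)) hγ (by linear_combination hc.1 + hc.2)
    rcases hg with hg | hg
    · rcases hone (Phi J t α v1 + Phi J t β v1) with h | h
      · exact key 1 one_ne_zero (by rw [hg, mul_zero, add_zero]; exact hγ) h
      · exact key (-1) (neg_ne_zero.2 one_ne_zero) (by rw [hg, mul_zero, add_zero]; exact hγ) h
    · rcases hone (Phi J t β v1) with h | h
      · exact key 1 one_ne_zero h (by rw [hg, mul_zero, add_zero]; exact hγ)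
      · exact key (-1) (neg_ne_zero.2 one_ne_zero) h (by rw [hg, mul_zero, add_zero]; exact hγ)
  have hadd : ∀ (x : (Fin t → Fin k) → F) (u : Fin t → Fin k → F), x ∈ ctrs J G → x + pvec u ∈ ctrs J G := by
    intro x u hx
    set p := pvec u
    by_cases hxp : Phi J t x p = 0
    swap
    · simpa using ctrs_add hd hG ht (hpure u) hx hxp 1
    by_cases hx0 : x = 0
    · rw [hx0, zero_add]; exact hpure u
    by_cases hp0 : p = 0
    · rwa [hp0, add_zero]
    by_cases hs0 : x + p = 0
    · rw [hs0]; exact ctrs_zero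
    obtain ⟨z, hz⟩ := hexP _ hs0
    obtain ⟨y, hy, h1, h2, h3⟩ :
        ∃ y ∈ ctrs J G, Phi J t x y ≠ 0 ∧ Phi J t p y ≠ 0 ∧ Phi J t (x + p) y ≠ 0 := by
      by_cases h1 : Phi J t x (pvec z) = 0
      · exact side x p z hx0 h1 (by rw [hP.add, h1, zero_add] at hz; exact hz)
      by_cases h2 : Phi J t p (pvec z) = 0
      · obtain ⟨y, hy, e1, e2, e3⟩ := side p x z hp0 h2 h1
        exact ⟨y, hy, e2, e1, by rwa [add_comm]⟩
      exact ⟨_, hpure z, h1, h2, hz⟩
    have e1 := ctrs_add hd hG ht hy hx h1 1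
    rw [one_smul] at e1
    have e2 := ctrs_add hd hG ht (hpure u) e1 (by
      rw [hP.add, hxp, zero_add]; exact fun e => h2 (comm_zero hP e)) 1
    rw [one_smul] at e2
    have e3 := ctrs_add hd hG ht hy e2 (by
      rw [show x + y + p = (x + p) + y by abel, hP.add, hP.alt, add_zero]; exact h3) (-1)
    rwa [neg_one_smul, show x + y + p + -y = x + p by abel] at e3
  have hsum : ∀ s : Finset (Fin t → Fin k), ∑ y ∈ s, v y • (Pi.single y 1 : (Fin t → Fin k) → F) ∈ ctrs J G := by
    intro s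
    induction s using Finset.induction with
    | empty => rw [Finset.sum_empty]; exact ctrs_zero
    | @insert y s hy ih =>
      obtain ⟨i0⟩ : Nonempty (Fin t) := ⟨⟨0, ht.pos⟩⟩
      rw [Finset.sum_insert hy, add_comm, show v y • (Pi.single y 1 : (Fin t → Fin k) → F) =
        pvec (Function.update (fun i => Pi.single (y i) 1) i0 (v y • Pi.single (y i0) 1)) by
        rw [pvec_single]
        funext x
        simp only [pvec, Pi.smul_apply, smul_eq_mul]
        rw [← Finset.mul_prod_erase _ _ (Finset.mem_univ i0), ← Finset.mul_prod_erase _ _ (Finset.mem_univ i0),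
          Function.update_self, Pi.smul_apply, smul_eq_mul, mul_assoc]
        refine congrArg _ (congrArg _ (Finset.prod_congr rfl fun i hi => ?_))
        rw [Function.update_of_ne (Finset.ne_of_mem_erase hi)]]
      exact hadd _ _ ih
  have := hsum Finset.univ
  rwa [← pi_eq_sum_univ' v] at this

/-- overgroups of the wreath isometries are in the wreath group or contain all transvections -/
theorem wr_or_all (hbig : Big F k) (ht : Even t) {G : Subgroup (GL (Fin (t + 1) → Fin k) F)} (hG : Over J G) :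
    G ≤ Wr F k (t + 1) ∨ ∀ (g : GL (Fin (t + 1) → Fin k) F) (v : (Fin (t + 1) → Fin k) → F) (c : F),
      (∀ x, g.val *ᵥ x = x + (c * Phi J (t + 1) x v) • v) → g ∈ G := by
  by_cases hT : TameU J a b G
  · exact Or.inl (levelS hd hbig t G hG.base hG.iso hT)
  refine Or.inr fun g v c hgx => ?_
  obtain ⟨f, hf⟩ := exists_mv hd
  have hall := has_of_not_tame hd hf hG ht hT
  exact all_centres hd hG ht.add_one (pure_centre hd hG ht.add_one hall) v g c hgx

end Cfsg.Agent.TensorWreath.Sy
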