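import Cfsg.Agent.Lib.Forms.Max.TensorWreath.Symp.Roots

/-!
# Conjugates of transvection groups inside the wreath group come from the wreath group
-/

set_option autoImplicit false
set_option linter.unusedSectionVars false

namespace Cfsg.Agent.TensorWreath.Sy

open Matrix Cfsg.Agent.Aschbacher Cfsg.Agent.Forms.Max Cfsg.Agent.Forms.Max.SympTools

variable {F : Type*} [Field F] [Fintype F] {k t : ℕ} {J : Matrix (Fin k) (Fin k) F} {a b : Fin k}

/-- tame overgroups lie in the wreath group -/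
def LevelS (J : Matrix (Fin k) (Fin k) F) (a b : Fin k) (t : ℕ) : Prop :=
  ∀ G : Subgroup (GL (Fin (t + 1) → Fin k) F), BaseU J G → G ≤ Iso J (t + 1) → TameU J a b G →
    G ≤ Wr F k (t + 1)

theorem levelS_zero : LevelS J a b 0 := by
  intro G _ _ _ g _
  classical
  let A : Matrix (Fin k) (Fin k) F := Matrix.of fun i j => g.val (fun _ => i) fun _ => j
  let B : Matrix (Fin k) (Fin k) F := Matrix.of fun i j => (g⁻¹).val (fun _ => i) fun _ => j
  have hmul : ∀ (u v : GL (Fin 1 → Fin k) F) (i j : Fin k),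
      ((u * v : GL (Fin 1 → Fin k) F)).val (fun _ => i) (fun _ => j) =
        ∑ l, u.val (fun _ => i) (fun _ => l) * v.val (fun _ => l) (fun _ => j) := by
    intro u v i j
    rw [Units.val_mul, Matrix.mul_apply]
    exact Fintype.sum_equiv (Equiv.funUnique (Fin 1) (Fin k)) _ _ fun z => by
      have e : (fun _ : Fin 1 => z default) = z := funext fun l => congrArg z (Subsingleton.elim _ _)
      simp only [Equiv.funUnique_apply, e]
  have h1 : ∀ u v : GL (Fin 1 → Fin k) F, u * v = 1 → Matrix.of (fun i j => u.val (fun _ => i) fun _ => j) *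
      Matrix.of (fun i j => v.val (fun _ => i) fun _ => j) = (1 : Matrix (Fin k) (Fin k) F) := by
    intro u v huv
    ext i j
    rw [Matrix.mul_apply]
    simp only [Matrix.of_apply]
    rw [← hmul, huv, Units.val_one, Matrix.one_apply, Matrix.one_apply]
    exact if_congr ⟨fun h => congrFun h 0, fun h => by rw [h]⟩ rfl rfl
  let c : GL (Fin k) F := ⟨A, B, h1 _ _ (mul_inv_cancel g), h1 _ _ (inv_mul_cancel g)⟩
  have e : g = pureGL fun _ => c := Units.ext (by
    rw [pureGL_coe]
    ext x y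
    rw [pureTensor_apply, Fin.prod_univ_one]
    show g.val x y = g.val (fun _ => x 0) fun _ => y 0
    have hx : (fun _ : Fin 1 => x 0) = x := funext fun l => congrArg x (Subsingleton.elim (α := Fin 1) _ _)
    have hy : (fun _ : Fin 1 => y 0) = y := funext fun l => congrArg y (Subsingleton.elim (α := Fin 1) _ _)
    rw [hx, hy])
  rw [e]
  exact pureGL_mem _

/-- elements preserving the slice are wreath elements -/
theorem PairS.mem (hd : Hyp J a b) (hbig : Big F k) (IH : LevelS J a b t)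
    {G G' : Subgroup (GL (Fin (t + 2) → Fin k) F)} {g : GL (Fin (t + 2) → Fin k) F} (hG' : G' ≤ Iso J (t + 2))
    (h : PairS J a b G G' g) : g ∈ Wr F k (t + 2) := by
  classical
  obtain ⟨h0, w, hg⟩ := h.split hd hbig
  obtain ⟨hJa, hJb⟩ := J_row hd
  have hJ0 : J ≠ 0 := fun e => by
    have := hJa b
    rw [e, if_pos rfl, Matrix.zero_apply] at this
    exact zero_ne_one this
  have hwr : w ∈ Wr F k (t + 1) := by
    refine mem_of_conj_roots hd fun i e => ?_
    obtain ⟨s, hs, hse⟩ : ∃ s ∈ Sl J, s = tvS hd e 1 := ⟨_, tvS_mem hd e 1, rfl⟩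
    rw [← hse]
    have hcm : w * sgl i s * w⁻¹ ∈ G'.comap liftW := by
      rw [Subgroup.mem_comap, map_mul, map_mul, map_inv, liftW_sgl]
      have hm := h.maps _ (h.base i.succ s hs)
      have hc0 : sgl (0 : Fin (t + 2)) h0 * (liftW w * sgl i.succ s * (liftW w)⁻¹) * (sgl 0 h0)⁻¹ =
          liftW w * sgl i.succ s * (liftW w)⁻¹ := by
        rw [mul_inv_eq_iff_eq_mul, ← liftW_sgl, ← map_inv, ← map_mul, ← map_mul]
        exact Units.ext (by simp only [Units.val_mul, sgl_coe, liftW_coe]; exact S0_lift_comm _ _)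
      rw [hg] at hm
      have e2 : sgl (0 : Fin (t + 2)) h0 * liftW w * sgl i.succ s * (sgl 0 h0 * liftW w)⁻¹ =
          sgl (0 : Fin (t + 2)) h0 * (liftW w * sgl i.succ s * (liftW w)⁻¹) * (sgl 0 h0)⁻¹ := by group
      rw [e2, hc0] at hm
      exact hm
    exact ⟨IH _ h.base'.comap (comap_iso hJ0 hG') h.tame'.comap hcm, comap_iso hJ0 hG' hcm⟩
  rw [hg]
  exact mul_mem (sgl_mem _ _) (liftW_mem hwr)

/-- a slot transvection is carried to the normal position -/
theorem normalize_root (hd : Hyp J a b) (j : Fin (t + 1)) (e : Fin k → F) (he0 : e ≠ 0) (c : F) :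
    ∃ W ∈ W0 J (t + 1), W * sgl j (tvS hd e c) * W⁻¹ = sgl 0 (tvS hd (Pi.single a 1) c) := by
  obtain ⟨h, hh, hl⟩ := exists_moveS hd (v := Pi.single a 1) he0 fun e => by simpa using congrFun e a
  refine ⟨sgl 0 h * permGL (Equiv.swap 0 j), mul_mem (sgl_mem_W0 _ hh) (perm_mem_W0 _), Units.ext ?_⟩
  rw [← conjMat_units, sgl_coe, conjMat_mul, conj_perm_S, Equiv.swap_apply_right, sgl_eq, conj_pure_S, sgl_coe,
    Pi.mulSingle_eq_same, tvS_coe, tvS_coe, map_add (conjMat h), map_one, map_smul, conj_Nm hd hh, hl]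

/-- conjugates of transvection groups inside the wreath group are conjugates by wreath elements -/
theorem goodU (hd : Hyp J a b) (hbig : Big F k) (IH : LevelS J a b t)
    {G : Subgroup (GL (Fin (t + 2) → Fin k) F)} (hB : BaseU J G) (hI : G ≤ Iso J (t + 2)) (hT : TameU J a b G)
    {g : GL (Fin (t + 2) → Fin k) F} (hg : g ∈ G) (j : Fin (t + 2)) (e : Fin k → F) (he0 : e ≠ 0)
    (hy : g⁻¹ * sgl j (tvS hd e 1) * g ∈ Wr F k (t + 2)) : g ∈ Wr F k (t + 2) := by
  classical
  obtain ⟨l, f, dy, hf0, hdy, e1⟩ := conj_root hd g⁻¹ j e he0 one_ne_zero (by rwa [inv_inv])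
    (by rw [inv_inv]; exact mul_mem (mul_mem (inv_mem (hI hg)) (sgl_iso _ (tvS_mem hd e 1))) (hI hg))
  rw [inv_inv] at e1
  obtain ⟨Wu, hWu, eu⟩ := normalize_root hd j e he0 1
  obtain ⟨Wy, hWy, ey⟩ := normalize_root hd l f hf0 dy
  have hdu : (1 : F) ≠ 0 := one_ne_zero
  obtain ⟨g', hg'⟩ : ∃ g', g' = Wu * g * Wy⁻¹ := ⟨_, rfl⟩
  have hcomm : sgl 0 (tvS hd (Pi.single a 1) (1 : F)) * g' =
      g' * sgl 0 (tvS hd (Pi.single a 1) dy) := by
    rw [← eu, ← ey, ← e1, hg']; group
  have hblk : ∀ (d : F) (x y : Fin k), blk (S (0 : Fin (t + 2)) (d • Matrix.single a b 1) * g'.val) x y =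
      (if x = a then d else 0) • blk g'.val b y ∧
      blk (g'.val * S (0 : Fin (t + 2)) (d • Matrix.single a b 1)) x y =
      (if y = b then d else 0) • blk g'.val x a := by
    intro d x y
    constructor
    · rw [map_mul, blk_S_zero, Matrix.mul_apply, Finset.sum_eq_single_of_mem b (Finset.mem_univ b) fun p _ hp => ?_]
      · rw [Matrix.map_apply, ← Algebra.smul_def, Matrix.smul_apply, Matrix.single_apply]
        simp [eq_comm]
      · rw [Matrix.map_apply, Matrix.smul_apply, Matrix.single_apply, if_neg (fun h => hp h.2.symm), smul_zero, map_zero,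
          zero_mul]
    · rw [map_mul, blk_S_zero, Matrix.mul_apply, Finset.sum_eq_single_of_mem a (Finset.mem_univ a) fun p _ hp => ?_]
      · rw [Matrix.map_apply, ← Algebra.commutes, ← Algebra.smul_def, Matrix.smul_apply, Matrix.single_apply]
        simp [eq_comm]
      · rw [Matrix.map_apply, Matrix.smul_apply, Matrix.single_apply, if_neg (fun h => hp h.1.symm), smul_zero, map_zero,
          mul_zero]
  have hval := congrArg Units.val hcomm
  rw [Units.val_mul, Units.val_mul, sgl_coe, sgl_coe, tvS_coe, tvS_coe, Nm_a hd, smul_neg, smul_neg, map_add, map_add,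
    map_one, add_mul, mul_add, one_mul, mul_one, add_right_inj, map_neg, map_neg, neg_mul, mul_neg, neg_inj] at hval
  have hP : PairS J a b (conjSub Wy G) (conjSub Wu G) g' := by
    refine ⟨hB.conjSub hWy, hB.conjSub hWu, hT.conjSub hWy, hT.conjSub hWu,
      (by rw [hg']; exact mul_mem (mul_mem (W0_le_iso hWu) (hI hg)) (inv_mem (W0_le_iso hWy))), fun z hz => ?_, fun z hz => ?_,
      fun x hx => ?_, fun y hy => ?_⟩
    · rw [mem_conjSub] at hz ⊢
      have e2 : Wu⁻¹ * (g' * z * g'⁻¹) * Wu = g * (Wy⁻¹ * z * Wy) * g⁻¹ := by rw [hg']; group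
      rw [e2]
      exact mul_mem (mul_mem hg hz) (inv_mem hg)
    · rw [mem_conjSub] at hz ⊢
      have e2 : Wy⁻¹ * (g'⁻¹ * z * g') * Wy = g⁻¹ * (Wu⁻¹ * z * Wu) * g := by rw [hg']; group
      rw [e2]
      exact mul_mem (mul_mem (inv_mem hg) hz) hg
    · have := congrArg (fun M => blk M x b) hval
      simp only [(hblk (1 : F) x b).1, (hblk dy x b).2, if_neg hx, if_pos, zero_smul] at this
      exact (smul_eq_zero.1 this.symm).resolve_left hdy
    · have := congrArg (fun M => blk M a y) hval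
      simp only [(hblk (1 : F) a y).1, (hblk dy a y).2, if_neg hy, if_pos, zero_smul] at this
      exact (smul_eq_zero.1 this).resolve_left hdu
  have hmem := hP.mem hd hbig IH (conjSub_iso hI hWu)
  have e2 : g = Wu⁻¹ * g' * Wy := by rw [hg']; group
  rw [e2]
  exact mul_mem (mul_mem (inv_mem (W0_le_wr hWu)) hmem) (W0_le_wr hWy)

end Cfsg.Agent.TensorWreath.Sy
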