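import Cfsg.Agent.Lib.Forms.Max.TensorWreath.Symp.NonTame

/-!
# A pattern in two slots spreads to a root in all slots
-/

set_option autoImplicit false
set_option linter.unusedSectionVars false

namespace Cfsg.Agent.TensorWreath.Sy

open Matrix Cfsg.Agent.Aschbacher Cfsg.Agent.Forms.Max Cfsg.Agent.Forms.Max.SympTools

variable {F : Type*} [Field F] [Fintype F] [NeZero (2 : F)] {k t : ℕ} {J : Matrix (Fin k) (Fin k) F} {a b : Fin k}

/-- a pattern in the group, with at least two active slots -/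
structure Act (J : Matrix (Fin k) (Fin k) F) (a b : Fin k) (f : Fin k → F)
    (G : Subgroup (GL (Fin t → Fin k) F)) (T : Fin t → Fin 3) : Prop where
  has : Has G fun i => sm J a b f (T i)
  ne : ∀ i, T i = 2 → f ≠ 0
  two : ∃ i j, i ≠ j ∧ T i ≠ 0 ∧ T j ≠ 0

variable (hd : Hyp J a b)
include hd

theorem vec_transpose_J (x y : Fin k → F) :
    (vecMulVec x (phi J y))ᵀ * J = -vecMulVec (phi J y) (phi J x) ∧
      J * vecMulVec x (phi J y) = vecMulVec (phi J x) (phi J y) := by
  have hJ : ∀ p q, J p q = -J q p := fun p q => by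
    have h : ∀ p q, frm J (Pi.single p 1) (Pi.single q 1) = J p q := fun p q => by simp [frm, mulVec_single_one]
    rw [← h p q, hd.sp.skew, h]
  refine ⟨?_, mul_vecMulVec ..⟩
  rw [transpose_vecMulVec, vecMulVec_mul, ← vecMulVec_neg]
  congr 1
  funext q
  simp only [vecMul, dotProduct, Pi.neg_apply, phi, mulVec, ← Finset.sum_neg_distrib]
  exact Finset.sum_congr rfl fun p _ => by rw [hJ p q]; ring

theorem sm_adjoint (f : Fin k → F) (s : Fin 3) :
    (sm J a b f s)ᵀ * J = (if s = 1 then (-1 : F) else 1) • (J * sm J a b f s) := by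
  fin_cases s
  · show (1 : Matrix (Fin k) (Fin k) F)ᵀ * J = (if (0 : Fin 3) = 1 then (-1 : F) else 1) • (J * 1)
    rw [if_neg (by decide), one_smul, transpose_one, one_mul, mul_one]
  · show (Matrix.single a b (1 : F))ᵀ * J = (if (1 : Fin 3) = 1 then (-1 : F) else 1) • (J * Matrix.single a b 1)
    obtain ⟨h1, h2⟩ := vec_transpose_J hd (Pi.single a 1) (Pi.single a 1)
    rw [← Nm, Nm_a hd, transpose_neg, neg_mul, neg_inj] at h1
    rw [← Nm, Nm_a hd, mul_neg, neg_eq_iff_eq_neg] at h2
    rw [if_pos rfl, neg_one_smul, h1, h2, neg_neg]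
  · show (Qm J (Pi.single a 1) f)ᵀ * J = (if (2 : Fin 3) = 1 then (-1 : F) else 1) • (J * Qm J (Pi.single a 1) f)
    rw [if_neg (by decide), one_smul, Qm, transpose_sub, sub_mul, mul_sub, (vec_transpose_J hd _ _).1,
      (vec_transpose_J hd _ _).1, (vec_transpose_J hd _ _).2, (vec_transpose_J hd _ _).2]
    abel

variable {f : Fin k → F} (hf : Mv a b f) {G : Subgroup (GL (Fin (t + 1) → Fin k) F)}
include hf

/-- an odd number of roots -/
theorem Act.odd (hG : Over J G) {T : Fin (t + 1) → Fin 3} (h : Act J a b f G T) :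
    Odd (Finset.univ.filter fun i => T i = 1).card := by
  classical
  obtain ⟨g, hg, c, hc, hgv⟩ := h.has
  obtain ⟨d, -, -, hd0, -⟩ := h.two
  set X := pureTensor fun i => sm J a b f (T i)
  set Gr := gram (t + 1) J
  set σ : F := (-1) ^ (Finset.univ.filter fun i => T i = 1).card
  have hXG : Xᵀ * Gr = σ • (Gr * X) := by
    simp only [X, Gr, gram]
    rw [pure_transpose, ← map_mul, ← map_mul]
    have e : ((fun i => (sm J a b f (T i))ᵀ) * fun _ => J) =
        fun i => (if T i = 1 then (-1 : F) else 1) • (J * sm J a b f (T i)) := funext fun i => sm_adjoint hd f (T i)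
    rw [e, pure_smul_slot]
    congr 1
    rw [Finset.prod_ite, Finset.prod_const, Finset.prod_const_one, mul_one]
  have hXX : X * X = 0 := by
    rw [← map_mul]
    exact pure_zero _ d (sm_sq hd hf hd0)
  have hiso := mem_Iso.1 (hG.iso hg)
  rw [hgv, transpose_add, transpose_one, transpose_smul, add_mul, one_mul, add_mul, mul_add, mul_one, mul_add,
    mul_one, mul_smul_comm, smul_mul_assoc, hXG, smul_mul_assoc, mul_smul_comm, smul_mul_assoc, mul_assoc, hXX, mul_zero, smul_zero, smul_zero,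
    smul_zero, add_zero] at hiso
  have h0 : (c * (1 + σ)) • (Gr * X) = 0 := by
    have h1 := sub_eq_zero.2 hiso
    rw [← h1]; simp only [Gr]; module
  have hne : Gr * X ≠ 0 := by
    intro e
    refine pure_ne_zero (fun i => sm_ne hd hf (h.ne i)) (?_ : X = 0)
    exact (gram_unit hd).mul_right_eq_zero.1 e
  have h2 := (mul_eq_zero.1 ((smul_eq_zero.1 h0).resolve_right hne)).resolve_left hc
  rcases Nat.even_or_odd (Finset.univ.filter fun i => T i = 1).card with he | ho
  · simp only [σ, he.neg_one_pow] at h2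
    exact absurd (by linear_combination h2) (two_ne_zero (α := F))
  · exact ho

/-- a commutator turns pair slots into roots and moves roots to idle slots -/
theorem combine (hG : Over J G) {T : Fin (t + 1) → Fin 3} (h : Act J a b f G T) (π : Equiv.Perm (Fin (t + 1)))
    (hinv : ∀ i, π (π i) = i) (hπ : ∀ i, π i ≠ i → (T i = 1 ∧ T (π i) = 0) ∨ (T i = 0 ∧ T (π i) = 1))
    (hkill : ∃ d, T d = 2 ∨ (T d = 1 ∧ π d ≠ d))
    (hpar : Odd ((Finset.univ.filter fun i => T i = 1 ∧ π i = i).card + (Finset.univ.filter fun i => T i = 2).card)) :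
    Act J a b f G fun i => if T i ≠ 0 ∨ π i ≠ i then 1 else 0 := by
  classical
  obtain ⟨g1, hg1, r, hr, hg1v⟩ := h.has
  obtain ⟨u1, u2, hu12, hu1, hu2⟩ := h.two
  obtain ⟨x, hx, hxa, -, hxf⟩ := exists_flip hd hf
  set C := Finset.univ.filter fun i => T i = 1 ∧ π i = i with hC
  set K := Finset.univ.filter fun i => T i = 2 with hK
  have hsym : ∀ i, π.symm i = π i := fun i => by rw [Equiv.symm_apply_eq, hinv]
  have hfix : ∀ i, T i = 2 → π i = i := fun i hi => by
    by_contra hne
    rcases hπ i hne with ⟨h1, -⟩ | ⟨h1, -⟩ <;> rw [hi] at h1 <;> exact absurd h1 (by decide)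
  set E := Matrix.single a b (1 : F) with hE
  set E' := Matrix.single b a (1 : F) with hE'
  set QA := Qm J (Pi.single a 1) f with hQA
  set QB := Qm J (Pi.single b 1) f with hQB
  set cx : Fin (t + 1) → GL (Fin k) F := fun i => if T i ≠ 0 ∧ π i = i then x else 1
  have hcx : ∀ i, cx i ∈ Sl J := fun i => by
    simp only [cx]; split_ifs
    exacts [hx, one_mem _]
  set X1 : Fin (t + 1) → Matrix (Fin k) (Fin k) F := fun i => sm J a b f (T i)
  set X2 : Fin (t + 1) → Matrix (Fin k) (Fin k) F := fun i => conjMat (cx i) (X1 (π i)) with hX2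
  obtain ⟨g2, hg2, r', hr', hg2v⟩ : Has G X2 := by
    have := ((h.has).conj_perm hG π).conj_pure hG hcx
    convert this using 1
    funext i
    simp only [hX2, Function.comp_apply, hsym, X1]
  -- the five kinds of slots
  have hval : ∀ i,
      (T i = 1 ∧ π i ≠ i ∧ X1 i = E ∧ X2 i = 1) ∨ (T i = 0 ∧ π i ≠ i ∧ X1 i = 1 ∧ X2 i = E) ∨
      (i ∈ C ∧ X1 i = E ∧ X2 i = -E') ∨ (i ∈ K ∧ X1 i = QA ∧ X2 i = QB) ∨
      (T i = 0 ∧ π i = i ∧ X1 i = 1 ∧ X2 i = 1) := by
    intro i
    by_cases hi : π i = i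
    · rcases (by omega : (T i).val = 0 ∨ (T i).val = 1 ∨ (T i).val = 2) with h0 | h1 | h2
      · have e : T i = 0 := Fin.ext h0
        refine Or.inr (Or.inr (Or.inr (Or.inr ⟨e, hi, by simp [X1, e, sm], ?_⟩)))
        simp [hX2, X1, hi, e, sm, cx]
      · have e : T i = 1 := Fin.ext h1
        refine Or.inr (Or.inr (Or.inl ⟨by simp [hC, e, hi], by simp [X1, e, sm, hE], ?_⟩))
        simp only [hX2, X1, cx, hi, e, ne_eq, one_ne_zero, not_false_eq_true, and_self, if_true]
        exact conj_flip_single hd hf hx hxa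
      · have e : T i = 2 := Fin.ext h2
        refine Or.inr (Or.inr (Or.inr (Or.inl ⟨by simp [hK, e], by simp [X1, e, sm, hQA], ?_⟩)))
        simp only [hX2, X1, cx, hi, e, ne_eq, show (2 : Fin 3) ≠ 0 by decide, not_false_eq_true, and_self, if_true]
        show conjMat x (Qm J (Pi.single a 1) f) = QB
        rw [conj_Qm hd hx, hxa, hxf]
    · have hc1 : cx i = 1 := by simp [cx, hi]
      have hone : ∀ M : Matrix (Fin k) (Fin k) F, conjMat (1 : GL (Fin k) F) M = M := fun M => by simp [conjMat_apply]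
      rcases hπ i hi with ⟨e, e'⟩ | ⟨e, e'⟩
      · exact Or.inl ⟨e, hi, by simp [X1, e, sm, hE], by simp [hX2, X1, hc1, hone, e', sm]⟩
      · exact Or.inr (Or.inl ⟨e, hi, by simp [X1, e, sm], by simp [hX2, X1, hc1, hone, e', sm, hE]⟩)
  have hEE : E * E = 0 := Matrix.single_mul_single_of_ne _ _ _ _ hd.hab.symm _
  have hQQ : QA * QA = 0 := Qaf_sq hd hf
  obtain ⟨hAB, hBA⟩ := Qab_mul hd hf
  rw [← hQA, ← hQB] at hAB hBA
  have hQBB : QB * QB = 0 := by
    have h1 := congrArg (conjMat x) hQQ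
    rwa [map_mul, map_zero, hQA, conj_Qm hd hx, hxa, hxf] at h1
  set A := r • pureTensor X1 with hA
  set B := r' • pureTensor X2 with hB
  have hAA : A * A = 0 := by
    rw [hA, smul_mul_smul_comm, ← map_mul, pure_zero _ u1 (sm_sq hd hf hu1), smul_zero]
  have hBB : B * B = 0 := by
    obtain ⟨v, hv⟩ : ∃ v, X2 v * X2 v = 0 := ⟨π u1, by
      simp only [hX2, hinv]
      rw [← map_mul, sm_sq hd hf hu1, map_zero]⟩
    rw [hB, smul_mul_smul_comm, ← map_mul, pure_zero _ v hv, smul_zero]
  obtain ⟨d, hdd⟩ := hkill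
  obtain ⟨v, hv, hdT, hvT⟩ : ∃ v, (T d = 2 ∧ v = d ∨ T d = 1 ∧ T v = 0 ∧ π d ≠ d ∧ π v ≠ v) ∧
      X1 d * X2 d * X1 d = 0 ∧ X2 v * X1 v * X2 v = 0 := by
    rcases hdd with e | ⟨e, hne⟩
    · have hdK : π d = d := hfix d e
      refine ⟨d, Or.inl ⟨e, rfl⟩, ?_⟩
      rcases hval d with ⟨h, -⟩ | ⟨h, -⟩ | ⟨h, -⟩ | ⟨-, h1, h2⟩ | ⟨h, -⟩
      · exact absurd (h.symm.trans e) (by decide)
      · exact absurd (h.symm.trans e) (by decide)
      · simp [hC, e] at h
      · rw [h1, h2]
        refine ⟨by rw [hAB, hQA, Nm_mul_Qaf hd hf], ?_⟩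
        rw [hBA, neg_mul, neg_eq_zero]
        have h3 := congrArg (conjMat x) (Nm_mul_Qaf hd hf)
        rw [map_mul, map_zero, conj_Nm hd hx, hxf, conj_Qm hd hx, hxa, hxf] at h3
        exact h3
      · exact absurd (h.symm.trans e) (by decide)
    · have hv0 : T (π d) = 0 := by
        rcases hπ d hne with ⟨-, h⟩ | ⟨h, -⟩
        · exact h
        · rw [e] at h; exact absurd h (by decide)
      have hvne : π (π d) ≠ π d := by rw [hinv]; exact fun h => hne h.symm
      refine ⟨π d, Or.inr ⟨e, hv0, hne, hvne⟩, ?_, ?_⟩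
      · rcases hval d with ⟨-, -, h1, h2⟩ | ⟨h, -⟩ | ⟨h, -⟩ | ⟨h, -⟩ | ⟨-, h, -⟩
        · rw [h1, h2, mul_one, hEE]
        · rw [e] at h; exact absurd h (by decide)
        · simp [hC, hne] at h
        · simp [hK, e] at h
        · exact absurd h hne
      · rcases hval (π d) with ⟨h, -⟩ | ⟨-, -, h1, h2⟩ | ⟨h, -⟩ | ⟨h, -⟩ | ⟨-, h, -⟩
        · rw [hv0] at h; exact absurd h (by decide)
        · rw [h1, h2, mul_one, hEE]
        · simp [hC, hv0] at h
        · simp [hK, hv0] at h
        · exact absurd h hvne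
  have hABA : A * B * A = 0 := by
    rw [hA, hB, smul_mul_smul_comm, smul_mul_smul_comm, ← map_mul, ← map_mul, pure_zero _ d hdT, smul_zero]
  have hBAB : B * A * B = 0 := by
    rw [hA, hB, smul_mul_smul_comm, smul_mul_smul_comm, ← map_mul, ← map_mul, pure_zero _ v hvT, smul_zero]
  set gΔ := g1 * g2 * g1⁻¹ * g2⁻¹
  have hΔG : gΔ ∈ G := mul_mem (mul_mem (mul_mem hg1 hg2) (inv_mem hg1)) (inv_mem hg2)
  have hΔ : gΔ.val = 1 + (A * B - B * A) := comm_val hg1v hg2v hAA hBB hABA hBAB
  -- moving the middle vector to the first basis vector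
  obtain ⟨y, hy, hyf⟩ : ∃ y ∈ Sl J, (∃ i, T i = 2) → conjMat y (Nm J f) = -E := by
    by_cases hk : ∃ i, T i = 2
    · obtain ⟨i, hi⟩ := hk
      obtain ⟨y, hy, e⟩ := exists_moveS hd (v := Pi.single a 1) (h.ne i hi)
        fun e => one_ne_zero (by simpa using congrFun e a : (1 : F) = 0)
      exact ⟨y, hy, fun _ => by rw [conj_Nm hd hy, e, Nm_a hd]⟩
    · exact ⟨1, one_mem _, fun h => absurd h hk⟩
  set cy : Fin (t + 1) → GL (Fin k) F := fun i => if T i = 2 then y else 1
  have hcy : ∀ i, cy i ∈ Sl J := fun i => by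
    simp only [cy]; split_ifs
    exacts [hy, one_mem _]
  set W : Fin (t + 1) → Matrix (Fin k) (Fin k) F := fun i => if T i ≠ 0 ∨ π i ≠ i then E else 1 with hW
  have hone : ∀ M : Matrix (Fin k) (Fin k) F, conjMat (1 : GL (Fin k) F) M = M := fun M => by simp [conjMat_apply]
  have hCK : Disjoint C K := by
    rw [Finset.disjoint_left]
    intro i hi hi'
    simp [hC, hK] at hi hi'
    rw [hi'] at hi
    exact absurd hi.1 (by decide)
  have eAB : conjMat (pureGL cy) (pureTensor X1 * pureTensor X2) =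
      (-1 : F) ^ (C ∪ K).card • pureTensor (put C (Matrix.single a a 1) W) := by
    rw [← map_mul, conj_pure_pureT, ← pure_sign]
    congr 1
    funext i
    simp only [Pi.mul_apply, Finset.mem_union]
    rcases hval i with ⟨e, hne, h1, h2⟩ | ⟨e, hne, h1, h2⟩ | ⟨hi, h1, h2⟩ | ⟨hi, h1, h2⟩ | ⟨e, heq, h1, h2⟩
    · simp [h1, h2, cy, e, put, hC, hK, hne, hW, hone]
    · simp [h1, h2, cy, e, put, hC, hK, hne, hW, hone]
    · have h' := hi
      simp only [hC, Finset.mem_filter, Finset.mem_univ, true_and] at h'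
      simp [h1, h2, cy, h'.1, put, hi, hone, hE, hE', Matrix.single_mul_single_same]
    · have h' := hi
      simp only [hK, Finset.mem_filter, Finset.mem_univ, true_and] at h'
      have hnC : i ∉ C := fun hiC => Finset.disjoint_left.1 hCK hiC hi
      simp [h1, h2, cy, h', put, hi, hnC, hAB, hyf ⟨i, h'⟩, hW]
    · simp [h1, h2, cy, e, put, hC, hK, heq, hW, hone]
  have eBA : conjMat (pureGL cy) (pureTensor X2 * pureTensor X1) =
      (-1 : F) ^ C.card • pureTensor (put C (Matrix.single b b 1) W) := by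
    rw [← map_mul, conj_pure_pureT, ← pure_sign]
    congr 1
    funext i
    simp only [Pi.mul_apply]
    rcases hval i with ⟨e, hne, h1, h2⟩ | ⟨e, hne, h1, h2⟩ | ⟨hi, h1, h2⟩ | ⟨hi, h1, h2⟩ | ⟨e, heq, h1, h2⟩
    · simp [h1, h2, cy, e, put, hC, hne, hW, hone]
    · simp [h1, h2, cy, e, put, hC, hne, hW, hone]
    · have h' := hi
      simp only [hC, Finset.mem_filter, Finset.mem_univ, true_and] at h'
      simp [h1, h2, cy, h'.1, put, hi, hone, hE, hE', Matrix.single_mul_single_same]
    · have h' := hi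
      simp only [hK, Finset.mem_filter, Finset.mem_univ, true_and] at h'
      have hnC : i ∉ C := fun hiC => Finset.disjoint_left.1 hCK hiC hi
      simp [h1, h2, cy, h', put, hnC, hBA, hyf ⟨i, h'⟩, hW]
    · simp [h1, h2, cy, e, put, hC, heq, hW, hone]
  have hsgn : (-1 : F) ^ (C ∪ K).card = -1 := by
    rw [Finset.card_union_of_disjoint hCK]
    exact hpar.neg_one_pow
  have hmix := mix_has hd hG C W (d := d) (y := (-1 : F) ^ C.card)
    (by rcases hdd with e | ⟨e, hne⟩ <;> simp [hC, *])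
    (by rcases hdd with e | ⟨e, hne⟩ <;> simp [hW, *])
    (mul_mem (mul_mem (hG.pure_mem hcy) hΔG) (inv_mem (hG.pure_mem hcy))) (c := -(r * r'))
    (neg_ne_zero.2 (mul_ne_zero hr hr'))
    (by rw [← two_mul]; exact mul_ne_zero (two_ne_zero (α := F)) (pow_ne_zero _ (neg_ne_zero.2 one_ne_zero)))
    (by
      rw [← conjMat_units, hΔ, hA, hB, smul_mul_smul_comm, smul_mul_smul_comm, mul_comm r' r, ← smul_sub, map_add, map_one,
        map_smul, map_sub, eAB, eBA, hsgn]
      module)
  have hput : put C E W = fun i => sm J a b f (if T i ≠ 0 ∨ π i ≠ i then 1 else 0) := by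
    funext i
    by_cases hi : i ∈ C
    · have h' := hi
      simp only [hC, Finset.mem_filter, Finset.mem_univ, true_and] at h'
      simp [put, hi, h'.1, sm, hE]
    · simp only [put, hi, if_false, hW]
      split_ifs <;> simp [sm, hE]
  refine ⟨hput ▸ hmix, fun i hi => absurd hi (by split_ifs <;> decide),
    ⟨u1, u2, hu12, by simp [hu1], by simp [hu2]⟩⟩

/-- a pattern in two slots gives a root in all slots -/
theorem act_all (hG : Over J G) (ht : Even t) {T : Fin (t + 1) → Fin 3} (h : Act J a b f G T) :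
    Act J a b f G fun _ => 1 := by
  classical
  -- removing the pair slots
  have hclean : ∃ T', Act J a b f G T' ∧ ∀ i, T' i ≠ 2 := by
    by_cases hk : ∃ i, T i = 2
    swap
    · push Not at hk; exact ⟨T, h, hk⟩
    obtain ⟨d, hd2⟩ := hk
    suffices hπ : ∃ π : Equiv.Perm (Fin (t + 1)), Act J a b f G fun i => if T i ≠ 0 ∨ π i ≠ i then 1 else 0 by
      obtain ⟨π, hπ⟩ := hπ
      exact ⟨_, hπ, fun i => by split_ifs <;> decide⟩
    have hodd := h.odd hd hf hG
    set N := Finset.univ.filter fun i => T i = 1 with hN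
    set K := Finset.univ.filter fun i => T i = 2 with hK
    rcases Nat.even_or_odd K.card with he | ho
    · refine ⟨_, combine hd hf hG h 1 (fun i => rfl) (fun i hi => absurd rfl hi) ⟨d, Or.inl hd2⟩ ?_⟩
      simp only [Equiv.Perm.one_apply, and_true]
      exact hodd.add_even he
    · have hd1 : Disjoint N K := by
        rw [Finset.disjoint_left]
        intro i hi hi'
        simp [hN, hK] at hi hi'
        rw [hi] at hi'; exact absurd hi' (by decide)
      obtain ⟨l, hl⟩ : ∃ l, T l = 0 := by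
        by_contra hc
        push Not at hc
        have e : N ∪ K = Finset.univ := by
          ext i
          have := hc i
          simp only [hN, hK, Finset.mem_union, Finset.mem_filter, Finset.mem_univ, true_and, iff_true]
          rcases (by omega : (T i).val = 0 ∨ (T i).val = 1 ∨ (T i).val = 2) with h | h | h
          · exact absurd (Fin.ext h) this
          · exact Or.inl (Fin.ext h)
          · exact Or.inr (Fin.ext h)
        have h1 := congrArg Finset.card e
        rw [Finset.card_union_of_disjoint hd1, Finset.card_univ, Fintype.card_fin] at h1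
        have := hodd.add_odd ho
        rw [h1] at this
        exact Nat.not_even_iff_odd.2 ht.add_one this
      obtain ⟨i, hi⟩ := Finset.card_pos.1 hodd.pos
      have hi1 : T i = 1 := by simpa [hN] using hi
      have hil : i ≠ l := fun e => by rw [e, hl] at hi1; exact absurd hi1 (by decide)
      refine ⟨_, combine hd hf hG h (Equiv.swap i l) (fun p => Equiv.swap_apply_self ..) (fun p hp => ?_) ⟨d, Or.inl hd2⟩ ?_⟩
      · rcases eq_or_ne p i with rfl | hpi
        · exact Or.inl ⟨hi1, by rw [Equiv.swap_apply_left]; exact hl⟩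
        rcases eq_or_ne p l with rfl | hpl
        · exact Or.inr ⟨hl, by rw [Equiv.swap_apply_right]; exact hi1⟩
        exact absurd (Equiv.swap_apply_of_ne_of_ne hpi hpl) hp
      · have e : (Finset.univ.filter fun p => T p = 1 ∧ Equiv.swap i l p = p) = N.erase i := by
          ext p
          simp only [hN, Finset.mem_filter, Finset.mem_univ, true_and, Finset.mem_erase, and_comm (a := p ≠ i)]
          refine and_congr_right fun hp => ⟨fun hs e => ?_, fun hpi => Equiv.swap_apply_of_ne_of_ne hpi fun e => ?_⟩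
          · subst e
            rw [Equiv.swap_apply_left] at hs
            exact hil hs.symm
          · rw [e, hl] at hp; exact absurd hp (by decide)
        rw [e, Finset.card_erase_of_mem hi]
        exact (Nat.Odd.sub_odd hodd odd_one).add_odd ho
  obtain ⟨T', hT', hT'2⟩ := hclean
  clear h
  -- adding two slots
  induction hn : (Finset.univ.filter fun i => T' i = 0).card using Nat.strong_induction_on generalizing T' with
  | _ n ih =>
  set Z := Finset.univ.filter fun i => T' i = 0 with hZ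
  set N := Finset.univ.filter fun i => T' i = 1 with hN
  have h01 : ∀ i, T' i = 0 ∨ T' i = 1 := fun i => by
    rcases (by omega : (T' i).val = 0 ∨ (T' i).val = 1 ∨ (T' i).val = 2) with h | h | h
    · exact Or.inl (Fin.ext h)
    · exact Or.inr (Fin.ext h)
    · exact absurd (Fin.ext h) (hT'2 i)
  by_cases hz : Z = ∅
  · convert hT' using 1
    funext i
    refine ((h01 i).resolve_left fun e => ?_).symm
    have : i ∈ Z := by simp [hZ, e]
    simp [hz] at this
  have hodd := hT'.odd hd hf hG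
  have hsum : Z.card + N.card = t + 1 := by
    rw [← Finset.card_union_of_disjoint (by
      rw [Finset.disjoint_left]
      intro i hi hi'
      simp [hZ, hN] at hi hi'
      rw [hi] at hi'; exact absurd hi' (by decide)), show Z ∪ N = Finset.univ by
      ext i; simpa [hZ, hN] using h01 i, Finset.card_univ, Fintype.card_fin]
  have hZ2 : 1 < Z.card := by
    have h0 : 0 < Z.card := Finset.card_pos.2 (Finset.nonempty_iff_ne_empty.2 hz)
    obtain ⟨p, hp⟩ := hodd
    obtain ⟨p', hp'⟩ := ht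
    rw [hN] at hsum
    omega
  have hN2 : 1 < N.card := by
    obtain ⟨i, j, hij, hi, hj⟩ := hT'.two
    refine Finset.one_lt_card.2 ⟨i, ?_, j, ?_, hij⟩
    · simpa [hN] using (h01 i).resolve_left hi
    · simpa [hN] using (h01 j).resolve_left hj
  obtain ⟨l1, hl1, l2, hl2, hl⟩ := Finset.one_lt_card.1 hZ2
  obtain ⟨i1, hi1, i2, hi2, hi⟩ := Finset.one_lt_card.1 hN2
  simp only [hZ, Finset.mem_filter, Finset.mem_univ, true_and] at hl1 hl2
  simp only [hN, Finset.mem_filter, Finset.mem_univ, true_and] at hi1 hi2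
  have hne : ∀ {p q}, T' p = 1 → T' q = 0 → p ≠ q := fun h1 h2 e => by rw [e, h2] at h1; exact absurd h1 (by decide)
  set π := Equiv.swap i1 l1 * Equiv.swap i2 l2 with hπ
  have p1 : π i1 = l1 := by
    rw [hπ, Equiv.Perm.mul_apply, Equiv.swap_apply_of_ne_of_ne hi (hne hi1 hl2), Equiv.swap_apply_left]
  have p2 : π l1 = i1 := by
    rw [hπ, Equiv.Perm.mul_apply, Equiv.swap_apply_of_ne_of_ne (hne hi2 hl1).symm hl, Equiv.swap_apply_right]
  have p3 : π i2 = l2 := by
    rw [hπ, Equiv.Perm.mul_apply, Equiv.swap_apply_left, Equiv.swap_apply_of_ne_of_ne (hne hi1 hl2).symm hl.symm]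
  have p4 : π l2 = i2 := by
    rw [hπ, Equiv.Perm.mul_apply, Equiv.swap_apply_right, Equiv.swap_apply_of_ne_of_ne hi.symm (hne hi2 hl1)]
  have p5 : ∀ p, p ≠ i1 → p ≠ i2 → p ≠ l1 → p ≠ l2 → π p = p := fun p a1 a2 a3 a4 => by
    rw [hπ, Equiv.Perm.mul_apply, Equiv.swap_apply_of_ne_of_ne a2 a4, Equiv.swap_apply_of_ne_of_ne a1 a3]
  have hinv : ∀ p, π (π p) = p := fun p => by
    by_cases a1 : p = i1; · rw [a1, p1, p2]
    by_cases a2 : p = i2; · rw [a2, p3, p4]
    by_cases a3 : p = l1; · rw [a3, p2, p1]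
    by_cases a4 : p = l2; · rw [a4, p4, p3]
    rw [p5 p a1 a2 a3 a4, p5 p a1 a2 a3 a4]
  have hnew := combine hd hf hG hT' π hinv (fun p hp => ?_)
    ⟨i1, Or.inr ⟨hi1, by rw [p1]; exact (hne hi1 hl1).symm⟩⟩ ?_
  · refine ih _ ?_ _ hnew (fun i => by split_ifs <;> decide) rfl
    subst hn
    refine Finset.card_lt_card ((Finset.ssubset_iff_of_subset fun p hp => ?_).2 ⟨l1, by simp [hZ, hl1], by
      simp [p2, hne hi1 hl1]⟩)
    simp only [Finset.mem_filter, Finset.mem_univ, true_and, hZ] at hp ⊢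
    by_contra hp0
    simp [hp0] at hp
  · by_cases a1 : p = i1; · exact Or.inl ⟨a1 ▸ hi1, by rw [a1, p1]; exact hl1⟩
    by_cases a2 : p = i2; · exact Or.inl ⟨a2 ▸ hi2, by rw [a2, p3]; exact hl2⟩
    by_cases a3 : p = l1; · exact Or.inr ⟨a3 ▸ hl1, by rw [a3, p2]; exact hi1⟩
    by_cases a4 : p = l2; · exact Or.inr ⟨a4 ▸ hl2, by rw [a4, p4]; exact hi2⟩
    exact absurd (p5 p a1 a2 a3 a4) hp
  · have e : (Finset.univ.filter fun p => T' p = 1 ∧ π p = p) = (N.erase i1).erase i2 := by
      ext p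
      simp only [hN, Finset.mem_filter, Finset.mem_univ, true_and, Finset.mem_erase]
      constructor
      · rintro ⟨hp1, hpp⟩
        exact ⟨fun e => hne hi2 hl2 (by rw [e, p3] at hpp; exact hpp.symm),
          fun e => hne hi1 hl1 (by rw [e, p1] at hpp; exact hpp.symm), hp1⟩
      · rintro ⟨a2, a1, hp1⟩
        exact ⟨hp1, p5 p a1 a2 (hne hp1 hl1) (hne hp1 hl2)⟩
    rw [e, show (Finset.univ.filter fun p => T' p = 2) = ∅ from Finset.filter_eq_empty_iff.2 fun p _ => hT'2 p,
      Finset.card_empty, add_zero, Finset.card_erase_of_mem (by simp [hN, hi2, hi.symm]),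
      Finset.card_erase_of_mem (by simp [hN, hi1])]
    obtain ⟨p, hp⟩ := hodd
    rw [Nat.odd_iff]
    rw [← hN] at hp
    omega

/-- an overgroup which is not tame has a root in all slots -/
theorem has_of_not_tame (hG : Over J G) (ht : Even t) (hT : ¬TameU J a b G) :
    Has G fun _ => Matrix.single a b (1 : F) := by
  classical
  suffices hex : ∃ T, Act J a b f G T by
    obtain ⟨T, hT'⟩ := hex
    exact (act_all hd hf hG ht hT').has
  rcases coeff_of_not_tame hd hG hT with ⟨B, hB, hns⟩ | ⟨e, he, he0, B, hB, hns⟩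
  · obtain ⟨T, hTne, hTm, hex⟩ := exists_pattern hd hf t _ (corners_spc hd hG) B hB fun e => hns 0 (by rw [e, zero_smul])
    obtain ⟨i, hi⟩ := hex hns
    obtain ⟨g, hg, hgv⟩ := (mem_corners hd).1 hTm
    refine ⟨Fin.cons 1 T, ⟨g, hg, -1, neg_ne_zero.2 one_ne_zero, ?_⟩, Fin.cases (by simp) (by simpa using hTne),
      ⟨0, i.succ, (Fin.succ_ne_zero i).symm, by simp, by simpa using hi⟩⟩
    rw [hgv, show (pureTensor fun p => sm J a b f ((Fin.cons 1 T : Fin (t + 1) → Fin 3) p)) = pat J a b f (Fin.cons 1 T)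
      from rfl, pat_cons, Nm_a hd, map_neg, neg_mul, neg_one_smul]
    rfl
  · obtain ⟨T, hTne, hTm, hex⟩ := exists_pattern hd hf t _ (radsp_spc hd hG he) B hB fun e => hns 0 (by rw [e, zero_smul])
    obtain ⟨i, hi⟩ := hex hns
    have hf0 : f ≠ 0 := by
      refine hf.ne ?_
      rcases hd.hk with h2 | h4
      · exfalso
        refine he0 (funext fun p => ?_)
        have : p = a ∨ p = b := by
          subst h2; have := hd.hab; fin_cases p <;> fin_cases a <;> fin_cases b <;> simp_all
        rcases this with rfl | rfl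
        exacts [(mem_mid.1 he.mem).1, (mem_mid.1 he.mem).2]
      · exact h4
    obtain ⟨x, hx, hxa, -, hxe⟩ := exists_mid_move hd he.mem hf.mem he0 hf0
    obtain ⟨g, hg, hgv⟩ := slot_conj hG hx ((mem_radsp hd).1 hTm)
    rw [conj_Qm hd hx, hxa, hxe] at hgv
    refine ⟨Fin.cons 2 T, ⟨g, hg, 1, one_ne_zero, ?_⟩, Fin.cases (fun _ => hf0) (by simpa using hTne),
      ⟨0, i.succ, (Fin.succ_ne_zero i).symm, by simp, by simpa using hi⟩⟩
    rw [hgv, show (pureTensor fun p => sm J a b f ((Fin.cons 2 T : Fin (t + 1) → Fin 3) p)) = pat J a b f (Fin.cons 2 T)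
      from rfl, pat_cons, one_smul]
    rfl

end Cfsg.Agent.TensorWreath.Sy
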