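import Cfsg.Agent.Lib.Forms.Max.TensorWreath.Symp.Escape
import Cfsg.Agent.Lib.Forms.Max.TensorWreath.Maximal
import Cfsg.Agent.Lib.Forms.Max.Factor
import Cfsg.Agent.Lib.Forms.Max.Symp

/-!
# Stabilisers of tensor power decompositions are maximal in the symplectic groups
-/

set_option autoImplicit false
set_option linter.unusedSectionVars false

namespace Cfsg.Agent.TensorWreath.Sy

open Matrix Cfsg.Agent.Forms Cfsg.Agent.Aschbacher Cfsg.Agent.Forms.Max Cfsg.Agent.Forms.Max.SympTools

variable {F : Type*} [Field F] [Fintype F] {k t : ℕ}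

/-- a basis change adapting the Gram matrix to a hyperbolic pair -/
theorem exists_hyp {G : Matrix (Fin k) (Fin k) F} (hh : Symp (frm G)) (h2 : (2 : F) ≠ 0 ∨ 6 ≤ k) (hk : k = 2 ∨ 4 ≤ k) :
    ∃ (B : GL (Fin k) F) (a b : Fin k), Hyp (B.valᵀ * G * B.val) a b := by
  classical
  obtain ⟨m, rfl⟩ : ∃ m, k = m + 2 := ⟨k - 2, by omega⟩
  set e : Fin (m + 2) → F := Pi.single 0 1 with he
  have he0 : e ≠ 0 := fun h => one_ne_zero (by simpa [he] using congrFun h 0 : (1 : F) = 0)
  obtain ⟨f', hef', hfe'⟩ := exists_partner hh he0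
  obtain ⟨f, hef, hfe⟩ : ∃ f, frm G e f = 1 ∧ frm G f e = -1 :=
    ⟨-f', by rw [neg_right hh, hef', neg_neg], by rw [hh.skew, neg_right hh, hef', neg_neg]⟩
  have hee := hh.alt e
  have hff := hh.alt f
  set L := (form hh e).prod (form hh f) with hL
  set S := LinearMap.ker L with hS
  have hr : LinearMap.range L = ⊤ := by
    refine eq_top_iff.2 fun p _ => ⟨(-p.1) • f + p.2 • e, ?_⟩
    refine Prod.ext ?_ ?_
    · show frm G ((-p.1) • f + p.2 • e) e = _
      rw [hh.add, hh.smul, hh.smul, hfe, hee, mul_zero, add_zero]; ring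
    · show frm G ((-p.1) • f + p.2 • e) f = _
      rw [hh.add, hh.smul, hh.smul, hff, hef, mul_one, mul_zero, zero_add]
  have hdim : Module.finrank F S = m := by
    have h1 := LinearMap.finrank_range_add_finrank_ker L
    rw [hr, finrank_top, Module.finrank_prod, Module.finrank_self, Module.finrank_fintype_fun_eq_card,
      Fintype.card_fin] at h1
    rw [hS]; omega
  let bs := Module.finBasisOfFinrankEq F S hdim
  have hse : ∀ i, frm G (bs i : Fin (m + 2) → F) e = 0 ∧ frm G (bs i : Fin (m + 2) → F) f = 0 := fun i => by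
    have := (bs i).2
    simp only [hS, hL, LinearMap.mem_ker, LinearMap.prod_apply, Function.prod, Prod.ext_iff] at this
    exact this
  set v : Fin (m + 2) → Fin (m + 2) → F := Fin.cons e (Fin.cons f fun i => (bs i : Fin (m + 2) → F)) with hv
  have hli : LinearIndependent F v := by
    refine Fintype.linearIndependent_iff.2 fun g hg => ?_
    rw [Fin.sum_univ_succ, Fin.sum_univ_succ] at hg
    simp only [hv, Fin.cons_zero, Fin.cons_succ] at hg
    have hse' : ∀ x ∈ S, frm G x e = 0 ∧ frm G x f = 0 := fun x hx => by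
      simpa [hS, hL, Prod.ext_iff, form] using hx
    set z := ∑ i : Fin m, g i.succ.succ • (bs i : Fin (m + 2) → F)
    have hz : z ∈ S := S.sum_mem fun i _ => S.smul_mem _ (bs i).2
    have h0 : g 0 = 0 := by
      have := congrArg (fun x => frm G x f) hg
      simpa [hh.add, hh.smul, hef, hff, (hse' z hz).2, zero_left hh] using this
    have h1 : g (Fin.succ 0) = 0 := by
      have := congrArg (fun x => frm G x e) hg
      simpa [hh.add, hh.smul, hee, hfe, (hse' z hz).1, zero_left hh] using this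
    rw [h0, h1, zero_smul, zero_smul, zero_add, zero_add] at hg
    have h2 : ∀ i : Fin m, g i.succ.succ = 0 := by
      refine Fintype.linearIndependent_iff.1 bs.linearIndependent (fun i => g i.succ.succ) (Subtype.ext ?_)
      rw [Submodule.coe_sum, ZeroMemClass.coe_zero]
      exact hg
    intro i
    induction i using Fin.cases with
    | zero => exact h0
    | succ i =>
      induction i using Fin.cases with
      | zero => exact h1
      | succ i => exact h2 i
  have hu : IsUnit (Matrix.of fun p q => v q p) := by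
    rw [← Matrix.linearIndependent_cols_iff_isUnit]
    exact hli
  obtain ⟨B, hB⟩ := hu
  have hent : ∀ p q, (B.valᵀ * G * B.val) p q = frm G (v p) (v q) := fun p q => by
    have h1 : frm (B.valᵀ * G * B.val) (Pi.single p 1) (Pi.single q 1) = (B.valᵀ * G * B.val) p q := by
      simp [frm, mulVec_single_one]
    rw [← h1, ← frm_mul, hB]
    simp only [Matrix.mulVec_single_one]
    rfl
  have hh' : Symp (frm (B.valᵀ * G * B.val)) := by
    have e : ∀ x y, frm (B.valᵀ * G * B.val) x y = frm G (B.val *ᵥ x) (B.val *ᵥ y) := fun x y =>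
      (frm_mul B.val x y).symm
    refine ⟨fun x y z => ?_, fun c x z => ?_, fun x => ?_, fun x y => ?_, fun x hx => ?_⟩
    · rw [e, e, e, mulVec_add, hh.add]
    · rw [e, e, mulVec_smul, hh.smul]
    · rw [e, hh.alt]
    · rw [e, e, ← hh.skew]
    · have h1 : B.val *ᵥ x = 0 := hh.nd _ fun y => by
        rw [← mulVec_inv_cancel B y, ← e]; exact hx _
      exact mulVec_inj B (h1.trans (mulVec_zero _).symm)
  refine ⟨B, 0, Fin.succ 0, hh', h2, hk, (Fin.succ_ne_zero 0).symm, fun p => ?_, fun p => ?_⟩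
  · rw [hent]
    induction p using Fin.cases with
    | zero => simp [hv, hee]
    | succ p =>
      induction p using Fin.cases with
      | zero => simp [hv, hfe]
      | succ p =>
        rw [if_neg fun h => Fin.succ_ne_zero _ (Fin.succ_injective _ h)]
        simp [hv, (hse p).1]
  · rw [hent]
    induction p using Fin.cases with
    | zero => simp [hv, hef]
    | succ p =>
      induction p using Fin.cases with
      | zero => simp [hv, hff]
      | succ p => simp [hv, (hse p).2]

variable {J : Matrix (Fin k) (Fin k) F} {a b : Fin k}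

/-- the wreath group does not contain all isometries -/
theorem not_iso_le [NeZero (2 : F)] (hd : Hyp J a b) (ht : Odd t) (ht2 : 2 ≤ t) : ¬ Iso J t ≤ Wr F k t := by
  classical
  intro h
  have hP := phi_symp hd ht
  let i₀ : Fin t := ⟨0, by omega⟩
  let i₁ : Fin t := ⟨1, by omega⟩
  have hi : i₁ ≠ i₀ := by simp [i₀, i₁]
  let P : Fin t → Fin k := fun _ => a
  let Q : Fin t → Fin k := fun _ => b
  have hPQ : P ≠ Q := fun e => hd.hab (congrFun e i₀)
  obtain ⟨g, hg, hgx⟩ := exists_tv hP (Pi.single P (1 : F)) 1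
  have hgI : g ∈ Iso J t := by
    rw [mem_Iso]
    ext p q
    have := tv_isometry hP hg (Pi.single p 1) (Pi.single q 1)
    rw [Phi, Phi, mulVec_mulVec, dotProduct_mulVec, vecMul_mulVec, ← dotProduct_mulVec] at this
    simpa [Matrix.mul_assoc, mulVec_single_one] using this
  have hgW := h hgI
  have hgram : gram t J *ᵥ Pi.single P 1 = (-1 : F) • Pi.single Q 1 := by
    funext y
    rw [mulVec_single_one, Matrix.col_apply, Pi.smul_apply, smul_eq_mul, gram, pureTensor_apply]
    simp only [P, hd.ja]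
    by_cases hy : y = Q
    · subst hy
      rw [Finset.prod_congr rfl (fun i _ => if_pos rfl), Finset.prod_const, Finset.card_univ, Fintype.card_fin,
        ht.neg_one_pow, Pi.single_eq_same, mul_one]
    · obtain ⟨l, hl⟩ := Function.ne_iff.1 hy
      rw [Finset.prod_eq_zero (Finset.mem_univ l) (if_neg hl), Pi.single_eq_of_ne hy, mul_zero]
  have hgv : g.val = 1 + (-1 : F) • Matrix.single P Q (1 : F) := by
    refine Matrix.ext_of_mulVec_single fun i => ?_
    rw [add_mulVec, one_mulVec, smul_mulVec, hgx, one_mul, Phi, hgram]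
    funext x
    simp [Matrix.single_apply, Pi.single_apply, mulVec_single_one, eq_comm]
    split_ifs <;> simp_all
  obtain ⟨π, cs, hcs⟩ := exists_nf hgW
  have he : ∀ x y, g.val x y = ∏ l, (cs l).val (x (π l)) (y l) := fun x y => by rw [hcs, mulVec_perm_pure]
  have hPP : g.val P P ≠ 0 := by simp [hgv, hPQ.symm]
  have hPQ' : g.val P Q ≠ 0 := by simp [hgv, hPQ]
  rw [he, Finset.prod_ne_zero_iff] at hPP hPQ'
  let Y : Fin t → Fin k := Function.update P i₀ b
  have hne : g.val P Y ≠ 0 := by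
    rw [he, Finset.prod_ne_zero_iff]
    intro l hl
    rcases eq_or_ne l i₀ with rfl | hl'
    · simpa [Y, P, Q] using hPQ' i₀ hl
    · simpa [Y, Function.update_of_ne hl', P] using hPP l hl
  refine hne ?_
  have h1 : P ≠ Y := fun e => hd.hab (by simpa [Y, P] using congrFun e i₀)
  have h2 : Q ≠ Y := fun e => hd.hab (by simpa [Y, P, Q, Function.update_of_ne hi] using (congrFun e i₁).symm)
  rw [hgv, Matrix.add_apply, Matrix.one_apply_ne h1, Matrix.smul_apply, Matrix.single_apply, if_neg fun h' => h2 h'.2,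
    smul_zero, add_zero]

/-- the stabilisers of tensor power decompositions in the symplectic groups -/
theorem symplectic_wreath_maximal {m : ℕ} (hm : 1 ≤ m) (hodd : Odd (Fintype.card F)) (ht : Odd t) (ht3 : 3 ≤ t)
    (hex : ¬ (Fintype.card F = 3 ∧ k = 2)) (e : (Fin m ⊕ Fin m) ≃ (Fin t → Fin k)) (P : GL (Fin m ⊕ Fin m) F)
    {f₁ : (Fin k → F) → (Fin k → F) → F} (hf₁ : Cfsg.Geo.IsSymplecticForm f₁)
    (hT : Cfsg.Geo.IsTensorPowerFormStructure id (Cfsg.sympForm m F) f₁ e P) :
    Cfsg.Geo.IsMaximalIn (Cfsg.spGL m F) (Cfsg.Geo.tensorWreathSubgroup k t e P ⊓ Cfsg.spGL m F) := by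
  classical
  have h2 : (2 : F) ≠ 0 := by
    intro h
    obtain ⟨p, hp⟩ := CharP.exists F
    have hp' := (CharP.cast_eq_zero_iff F p 2).1 (by exact_mod_cast h)
    have hpp : p.Prime := (CharP.char_is_prime_or_zero F p).resolve_right (CharP.char_ne_zero_of_finite F p)
    have h22 : p = 2 := (Nat.prime_dvd_prime_iff_eq hpp Nat.prime_two).1 hp'
    subst h22
    obtain ⟨n, -, hn⟩ := FiniteField.card F 2
    rw [hn] at hodd
    exact Nat.not_even_iff_odd.2 hodd (Nat.even_pow.2 ⟨even_two, n.ne_zero⟩)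
  haveI : NeZero (2 : F) := ⟨h2⟩
  have hcard : m + m = k ^ t := by simpa using Fintype.card_congr e
  have hk : k = 2 ∨ 4 ≤ k := by
    have hke : Even k := (Nat.even_pow.1 (hcard ▸ ⟨m, rfl⟩ : Even (k ^ t))).1
    have hk0 : k ≠ 0 := fun h => by
      rw [h, zero_pow (by omega)] at hcard; omega
    obtain ⟨r, hr⟩ := hke
    omega
  have hbig : Big F k := by
    by_cases h4 : 4 ≤ k
    · exact Or.inl h4
    refine Or.inr ?_
    have hq3 : Fintype.card F ≠ 3 := fun h => hex ⟨h, by omega⟩
    have hq1 : 1 < Fintype.card F := Fintype.one_lt_card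
    obtain ⟨g, hg⟩ := IsCyclic.exists_generator (α := Fˣ)
    have ho : orderOf g = Fintype.card F - 1 := by
      rw [orderOf_eq_card_of_forall_mem_zpowers hg, Nat.card_units, Nat.card_eq_fintype_card]
    refine ⟨(g : F), Units.ne_zero _, fun h1 => ?_⟩
    have h2 : g ^ 2 = 1 := Units.ext (by rw [Units.val_pow_eq_pow_val, Units.val_one, sq]; exact h1)
    have h3 := Nat.le_of_dvd (by omega) (orderOf_dvd_of_pow_eq_one h2)
    rw [ho] at h3
    obtain ⟨r, hr⟩ := hodd
    omega
  have hβ : Symp f₁ := ⟨hf₁.bilinear.add_left, hf₁.bilinear.smul_left, hf₁.alternating, hf₁.skew, fun v hv => by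
    by_contra h0
    obtain ⟨y, hy⟩ := (hf₁.nondegenerate v h0).2
    exact hy (hv y)⟩
  have hgram : frm (Cfsg.Geo.gramMatrix f₁) = f₁ := funext fun x => funext fun y => by
    rw [← Factor.formOfGram_gram (RingHom.id F) hβ.add hβ.smul (add_right hβ) (fun c v w => smul_right hβ c v w) x y]
    simp [frm, Cfsg.Geo.formOfGram, dotProduct, mulVec, Finset.mul_sum, mul_assoc]
  obtain ⟨B, a, b, hd⟩ := exists_hyp (G := Cfsg.Geo.gramMatrix f₁) (hgram.symm ▸ hβ) (Or.inl h2) hk
  set J := B.valᵀ * Cfsg.Geo.gramMatrix f₁ * B.val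
  obtain ⟨κ, hκ0, hval⟩ := hT
  set Q : GL (Fin t → Fin k) F := pureGL fun _ => B
  have hQW : Q ∈ Wr F k t := pureGL_mem _
  let φ : GL (Fin t → Fin k) F ≃* GL (Fin m ⊕ Fin m) F :=
    (MulAut.conj Q).trans ((Cfsg.Geo.glReindex e.symm).trans (MulAut.conj P))
  let π : ((Fin t → Fin k) → F) → (Fin m ⊕ Fin m → F) := fun x => (Units.val P) *ᵥ ((Q.val *ᵥ x) ∘ e)
  have hform : ∀ x y, Cfsg.sympForm m F (π x) (π y) = κ * Phi J t x y := fun x y => by
    have e1 : Phi J t x y = (Q.val *ᵥ x) ⬝ᵥ (gram t (Cfsg.Geo.gramMatrix f₁) *ᵥ (Q.val *ᵥ y)) := by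
      have e2 : gram t J = Q.valᵀ * gram t (Cfsg.Geo.gramMatrix f₁) * Q.val := by
        simp only [Q, J, gram, pureGL_coe, pure_transpose, ← map_mul]
        rfl
      rw [Phi, e2, ← mulVec_mulVec, ← mulVec_mulVec, dotProduct_mulVec x Q.valᵀ, vecMul_transpose]
    rw [e1]
    simp only [π]
    rw [hval]
    simp only [dotProduct, mulVec, gram, pureTensor_apply, Finset.mul_sum, id, mul_assoc]
  have hcoord : ∀ z, ∃ x, z = π x := fun z =>
    ⟨(Q⁻¹).val *ᵥ (((Units.val P⁻¹) *ᵥ z) ∘ e.symm), by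
      simp only [π]
      rw [mulVec_cancel', Function.comp_assoc, Equiv.symm_comp_self, Function.comp_id, mulVec_inv_cancel]⟩
  have hreidx : ∀ (g : GL (Fin t → Fin k) F) (x : (Fin t → Fin k) → F),
      (Cfsg.Geo.glReindex e.symm g).val *ᵥ (x ∘ e) = (g.val *ᵥ x) ∘ e := fun g x => by
    show Matrix.reindexAlgEquiv F F e.symm g.val *ᵥ _ = _
    rw [Matrix.reindexAlgEquiv_apply, Matrix.reindex_apply, Matrix.submatrix_mulVec_equiv]
    simp [Function.comp_assoc]
  have hφ : ∀ g x, (Units.val (φ g)) *ᵥ π x = π (g.val *ᵥ x) := fun g x => by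
    show (P * Cfsg.Geo.glReindex e.symm (Q * g * Q⁻¹) * P⁻¹ : GL (Fin m ⊕ Fin m) F).val *ᵥ π x = _
    simp only [π, Units.val_mul]
    rw [← mulVec_mulVec, ← mulVec_mulVec, mulVec_mulVec _ (P⁻¹).val, ← Units.val_mul, inv_mul_cancel, Units.val_one,
      one_mulVec, hreidx, Units.val_mul, Units.val_mul, ← mulVec_mulVec, ← mulVec_mulVec, mulVec_cancel]
  have hπinj : Function.Injective π := fun x y h => by
    have h2 := mulVec_inj P h
    refine mulVec_inj Q (funext fun i => ?_)
    simpa using congrFun h2 (e.symm i)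
  have hmap : (Iso J t).map φ.toMonoidHom = Cfsg.spGL m F := by
    ext g
    constructor
    · rintro ⟨x, hx, rfl⟩
      intro u v
      obtain ⟨u, rfl⟩ := hcoord u
      obtain ⟨v, rfl⟩ := hcoord v
      show Cfsg.sympForm m F ((Units.val (φ x)) *ᵥ _) ((Units.val (φ x)) *ᵥ _) = _
      rw [hφ, hφ, hform, hform, iso_Phi hx]
    · intro hg
      refine ⟨φ.symm g, ?_, φ.apply_symm_apply g⟩
      have hpres : ∀ x y, Phi J t ((φ.symm g).val *ᵥ x) ((φ.symm g).val *ᵥ y) = Phi J t x y := fun x y => by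
        refine mul_left_cancel₀ hκ0 ?_
        rw [← hform, ← hform, ← hφ, ← hφ, φ.apply_symm_apply]
        exact hg _ _
      show φ.symm g ∈ Iso J t
      rw [mem_Iso]
      ext p p'
      have := hpres (Pi.single p 1) (Pi.single p' 1)
      rw [Phi, Phi, mulVec_mulVec, dotProduct_mulVec, vecMul_mulVec, ← dotProduct_mulVec] at this
      simpa [Matrix.mul_assoc, mulVec_single_one] using this
  obtain ⟨t, rfl⟩ : ∃ t', t = t' + 1 := ⟨t - 1, by omega⟩
  have ht' : Even t := by
    obtain ⟨r, hr⟩ := ht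
    exact ⟨r, by omega⟩
  have hcore : Cfsg.Geo.IsMaximalIn (Iso J (t + 1)) (Wr F k (t + 1) ⊓ Iso J (t + 1)) := by
    refine isMaximalIn_of inf_le_right (fun h => not_iso_le hd ht (by omega) fun g hg => (h hg).1)
      fun M hM hMK g hgM hg => ?_
    have hO : Over J M := ⟨hM, hMK⟩
    rcases wr_or_all hd hbig ht' hO with h | h
    · exact absurd ⟨h hgM, hMK hgM⟩ hg
    rw [← Subgroup.map_le_map_iff_of_injective (f := φ.toMonoidHom) φ.injective, hmap]
    refine Forms.Max.Symp.spGL_le_of_centres fun v c => ?_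
    obtain ⟨v', rfl⟩ := hcoord v
    refine ⟨φ.symm (spTrv (π v') c), h _ v' (c * κ) fun x => ?_, φ.apply_symm_apply _⟩
    refine hπinj ?_
    rw [← hφ, φ.apply_symm_apply, Forms.Max.Symp.spTrv_apply, SympStd.sympB_apply, hform, mul_assoc]
    simp only [π, mulVec_add, mulVec_smul]
    rw [show ((Q.val *ᵥ x + (c * (κ * Phi J (t + 1) x v')) • Q.val *ᵥ v') ∘ e) =
      (Q.val *ᵥ x) ∘ e + (c * (κ * Phi J (t + 1) x v')) • ((Q.val *ᵥ v') ∘ e) from rfl, mulVec_add, mulVec_smul]
  have h := SubfieldLinear.isMaximalIn_map φ hcore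
  rw [Subgroup.map_inf (Wr F k (t + 1)) (Iso J (t + 1)) _ φ.injective, hmap] at h
  convert h using 2
  have hfix : (Wr F k (t + 1)).map (MulAut.conj Q).toMonoidHom = Wr F k (t + 1) := by
    ext x
    constructor
    · rintro ⟨y, hy, rfl⟩
      exact mul_mem (mul_mem hQW hy) (inv_mem hQW)
    · intro hx
      exact ⟨Q⁻¹ * x * Q, mul_mem (mul_mem (inv_mem hQW) hx) hQW, by simp [mul_assoc]⟩
  rw [Cfsg.Geo.tensorWreathSubgroup, show Cfsg.Geo.tensorWreathStandard k (t + 1) F = Wr F k (t + 1) from rfl]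
  conv_lhs => rw [← hfix]
  rw [Subgroup.map_map, Subgroup.map_map]
  rfl

end Cfsg.Agent.TensorWreath.Sy
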