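import Cfsg.Agent.Lib.Forms.Max.TensorWreath.Symp.Roots2

/-!
# Overgroups which are not tame have a pattern in at least two slots
-/

set_option autoImplicit false
set_option linter.unusedSectionVars false

namespace Cfsg.Agent.TensorWreath.Sy

open Matrix Cfsg.Agent.Aschbacher Cfsg.Agent.Forms.Max Cfsg.Agent.Forms.Max.SympTools

variable {F : Type*} [Field F] [Fintype F] {k t : ℕ} {J : Matrix (Fin k) (Fin k) F} {a b : Fin k}

theorem blk_ext {g h : GL (Fin (t + 1) → Fin k) F} (e : blk g.val = blk h.val) : g = h :=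
  Units.ext ((blk (F := F) (m := k) (t := t)).injective e)

theorem shp_mul_one {R : Type*} [Ring R] (hab : a ≠ b) {X Y : Matrix (Fin k) (Fin k) R} (hX : Shp a b X)
    (hY : Shp a b Y) : X * Y = Matrix.single a b ((X * Y) a b) := by
  ext x y
  rw [Matrix.single_apply]
  split_ifs with h
  · rw [h.1, h.2]
  rw [Matrix.mul_apply]
  refine Finset.sum_eq_zero fun p _ => ?_
  by_cases h1 : (x = a ∧ p ≠ a) ∨ (p = b ∧ x ≠ b)
  · by_cases h2 : (p = a ∧ y ≠ a) ∨ (y = b ∧ p ≠ b)
    · exfalso
      rcases h1 with ⟨hx, hp⟩ | ⟨hp, hx⟩ <;> rcases h2 with ⟨hp', hy⟩ | ⟨hy, hp'⟩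
      · exact hp hp'
      · exact h ⟨hx.symm, hy.symm⟩
      · exact hab (hp'.symm.trans hp)
      · exact hp' hp
    · rw [hY p y h2, mul_zero]
  · rw [hX x p h1, zero_mul]

theorem single_mul_shp {R : Type*} [Ring R] (hab : a ≠ b) {V : Matrix (Fin k) (Fin k) R} (hV : Shp a b V) (m : R) :
    Matrix.single a b m * V = 0 := by
  ext x y : 1
  rcases eq_or_ne x a with rfl | hx
  · rw [Matrix.single_mul_apply_same, hV b y, mul_zero, Matrix.zero_apply]
    rintro (⟨h, -⟩ | ⟨-, h⟩)
    exacts [hab h.symm, h rfl]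
  · rw [Matrix.single_mul_apply_of_ne _ _ _ _ _ hx, Matrix.zero_apply]

variable [NeZero (2 : F)] (hd : Hyp J a b)
include hd

/-- an overgroup which is not tame has a non-scalar corner or a non-scalar pair coefficient -/
theorem coeff_of_not_tame {G : Subgroup (GL (Fin (t + 1) → Fin k) F)} (hG : Over J G) (hT : ¬TameU J a b G) :
    (∃ B ∈ corners hd hG, ∀ r : F, B ≠ r • 1) ∨
      ∃ (e : Fin k → F) (he : Mv a b e), e ≠ 0 ∧ ∃ B ∈ radsp hd hG he, ∀ r : F, B ≠ r • 1 := by
  classical
  unfold TameU at hT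
  push Not at hT
  obtain ⟨w, hw, z, hz, hzs, y, hya, hy⟩ := hT
  set z' := w * z * w⁻¹
  have hz' : z' ∈ G := mul_mem (mul_mem (hG.w0_mem hw) hz) (inv_mem (hG.w0_mem hw))
  clear_value z'
  clear hz hw
  set X := blk z'.val - 1 with hX
  have hz1 : blk z'.val = 1 + X := by rw [hX]; abel
  have hXrow : ∀ q, q ≠ a → X a q = blk z'.val a q := fun q hq => by
    rw [hX, Matrix.sub_apply, Matrix.one_apply_ne (Ne.symm hq), sub_zero]
  have hcorner : ∀ B, ∀ g ∈ G, blk g.val = 1 + Matrix.single a b B → -B ∈ corners hd hG := by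
    intro B g hg hgv
    refine (mem_corners hd).2 ⟨g, hg, (blk (F := F) (m := k) (t := t)).injective ?_⟩
    rw [hgv, map_add, map_one]
    refine congrArg (1 + ·) (Matrix.ext fun p q => ?_)
    rw [blk_S0_lift, Nm_a hd, Matrix.neg_apply, neg_smul, smul_neg, neg_neg, Matrix.single_apply, Matrix.single_apply,
      ite_smul, one_smul, zero_smul]
  by_cases hmid : ∃ q, q ≠ a ∧ q ≠ b ∧ ∀ r : F, blk z'.val a q ≠ r • 1
  · obtain ⟨q, hqa, hqb, hR⟩ := hmid
    set e : Fin k → F := Pi.single q 1 with hedef
    have hem : e ∈ mid F a b := single_mem_mid hqa hqb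
    obtain ⟨hea, heb⟩ := mem_mid.1 hem
    have he0 : e ≠ 0 := fun h => one_ne_zero (by simpa [hedef] using congrFun h q : (1 : F) = 0)
    have he : Mv a b e := ⟨hem, fun _ => he0⟩
    let ι : Matrix (Fin k) (Fin k) F → Matrix (Fin k) (Fin k) (Matrix (Fin t → Fin k) (Fin t → Fin k) F) :=
      fun m => m.map (algebraMap F _)
    have hιS : ∀ m : Matrix (Fin k) (Fin k) F, blk (S (0 : Fin (t + 1)) m) = ι m := blk_S_zero
    let C : (Fin k → F) → Matrix (Fin t → Fin k) (Fin t → Fin k) F := fun u =>
      ∑ p, (u p • X a p + phi J u p • X p b)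
    have hC : ∀ u ∈ mid F a b, C u ∈ corners hd hG := by
      intro u hu
      obtain ⟨hua, hub⟩ := mem_mid.1 hu
      obtain ⟨s, hs, hss, hsr, hsc⟩ := sg_shp hd hu
      set Y := ι (s.val - 1) with hY
      have hsb : blk (sgl (0 : Fin (t + 1)) s).val = 1 + Y := by
        rw [hY, ← hιS, sgl_coe, map_sub, map_one, map_sub, map_one]; abel
      have hYs : Shp a b Y := fun x y hxy => by simp only [hY, ι, Matrix.map_apply, hss x y hxy, map_zero]
      have hdiff : (X * Y) a b - (Y * X) a b = -C u := by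
        rw [Matrix.mul_apply, Matrix.mul_apply, ← Finset.sum_sub_distrib]
        simp only [C, ← Finset.sum_neg_distrib]
        refine Finset.sum_congr rfl fun p _ => ?_
        rcases eq_or_ne p a with rfl | hpa
        · rw [hzs p p (by rintro (⟨-, h⟩ | ⟨h, -⟩); exacts [h rfl, hd.hab h]), hYs p p
            (by rintro (⟨-, h⟩ | ⟨h, -⟩); exacts [h rfl, hd.hab h])]
          simp [hua, phi_at_a hd, hub]
        rcases eq_or_ne p b with rfl | hpb
        · rw [hzs p p (by rintro (⟨h, -⟩ | ⟨-, h⟩); exacts [hd.hab h.symm, h rfl]), hYs p p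
            (by rintro (⟨h, -⟩ | ⟨-, h⟩); exacts [hd.hab h.symm, h rfl])]
          simp [hub, phi_at_b hd, hua]
        simp only [hY, ι, Matrix.map_apply, hsr p hpb, hsc p hpa]
        rw [← Algebra.commutes, ← Algebra.smul_def, ← Algebra.smul_def, neg_smul]
        abel
      set g := z' * sgl 0 s * z'⁻¹ * (sgl 0 s)⁻¹
      have hg : g ∈ G := mul_mem (mul_mem (mul_mem hz' (hG.base 0 _ hs)) (inv_mem hz')) (inv_mem (hG.base 0 _ hs))
      have e1 : blk g.val * ((1 + Y) * (1 + X)) = (1 + X) * (1 + Y) := by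
        rw [← hsb, ← hz1, ← map_mul, ← map_mul, ← map_mul, ← Units.val_mul, ← Units.val_mul, ← Units.val_mul]
        simp [g, mul_assoc]
      have e2 : (1 + Matrix.single a b (-C u)) * ((1 + Y) * (1 + X)) = (1 + X) * (1 + Y) := by
        have hXY := shp_mul_one hd.hab hzs hYs
        have hYX := shp_mul_one hd.hab hYs hzs
        rw [← hdiff]
        set mXY := (X * Y) a b
        set mYX := (Y * X) a b
        rw [show Matrix.single a b (mXY - mYX) = Matrix.single a b mXY - Matrix.single a b mYX from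
          map_sub (Matrix.singleAddMonoidHom a b) _ _]
        simp only [add_mul, sub_mul, mul_add, one_mul, mul_one, ← mul_assoc, single_mul_shp hd.hab hYs,
          single_mul_shp hd.hab hzs, zero_mul, add_zero, sub_zero, zero_add]
        rw [hXY, hYX]
        abel
      have hu' : IsUnit ((1 + Y) * (1 + X)) := by
        rw [← hsb, ← hz1, ← map_mul]
        exact ((sgl (0 : Fin (t + 1)) s * z').isUnit).map _
      have := hcorner _ g hg (hu'.mul_right_cancel (e1.trans e2.symm))
      rwa [neg_neg] at this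
    by_cases hCs : ∃ u ∈ mid F a b, ∀ r : F, C u ≠ r • 1
    · obtain ⟨u, hu, hu'⟩ := hCs
      exact Or.inl ⟨C u, hC u hu, hu'⟩
    push Not at hCs
    obtain ⟨c, hc⟩ := hCs e hem
    right
    refine ⟨e, he, he0, ?_⟩
    set R := X a q with hRdef
    set Λ := ∑ r, phi J e r • X r b with hΛ
    have hΛR : R + Λ = c • 1 := by
      rw [← hc, hΛ, hRdef]
      simp only [C, Finset.sum_add_distrib]
      rw [Finset.sum_eq_single_of_mem q (Finset.mem_univ q) (f := fun p => e p • X a p) fun p _ hp => by
        simp [hedef, hp]]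
      simp [hedef]
    set T := sgl (0 : Fin (t + 1)) (tvS hd e 1)
    set N := ι (Nm J e) with hN
    have hTb : blk T.val = 1 + N := by
      rw [hN, ← hιS, sgl_coe, tvS_coe, one_smul, map_add, map_one, map_add, map_one]
    have hTb' : blk (T⁻¹).val = 1 - N := by
      rw [hN, ← hιS, show T⁻¹ = sgl (0 : Fin (t + 1)) (tvS hd e (-1)) by rw [← map_inv, tvS_inv hd], sgl_coe, tvS_coe,
        neg_one_smul, map_add, map_one, map_neg, map_add, map_one, map_neg, sub_eq_add_neg]
    have hNent : ∀ p r, N p r = algebraMap F _ (e p * phi J e r) := fun p r => rfl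
    have hNX : ∀ p r, (N * X) p r = if r = b then e p • Λ else 0 := by
      intro p r
      simp only [Matrix.mul_apply, hNent, ← Algebra.smul_def, ← smul_smul]
      rw [← Finset.smul_sum]
      split_ifs with hr
      · rw [hr, hΛ]
      · rw [Finset.sum_eq_zero fun s _ => ?_, smul_zero]
        by_cases hs : s = a
        · rw [hs, phi_at_a hd, heb, zero_smul]
        · rw [hzs s r (by rintro (⟨h, -⟩ | ⟨h, -⟩); exacts [hs h, hr h]), smul_zero]
    have hXN : ∀ p r, (X * N) p r = if p = a then phi J e r • R else 0 := by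
      intro p r
      simp only [Matrix.mul_apply, hNent, ← Algebra.commutes, ← Algebra.smul_def]
      split_ifs with hp
      · rw [hp, Finset.sum_eq_single_of_mem q (Finset.mem_univ q) fun s _ hs => by simp [hedef, hs]]
        simp [hedef, hRdef]
      · refine Finset.sum_eq_zero fun s _ => ?_
        by_cases hs : s = b
        · rw [hs, heb, zero_mul, zero_smul]
        · rw [hzs p s (by rintro (⟨h, -⟩ | ⟨h, -⟩); exacts [hp h, hs h]), smul_zero]
    have hNXN : N * X * N = 0 := by
      refine Matrix.ext fun p r => ?_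
      rw [Matrix.mul_apply, Matrix.zero_apply]
      refine Finset.sum_eq_zero fun s _ => ?_
      rw [hNX, hNent]
      split_ifs with hs
      · rw [hs, heb, zero_mul, map_zero, mul_zero]
      · rw [zero_mul]
    set D := N * X - X * N with hD
    have hQent : ∀ p r, Qm J (Pi.single a 1) e p r =
        (if p = a then phi J e r else 0) + (if r = b then e p else 0) := fun p r => by
      simp only [Qm, Matrix.sub_apply, vecMulVec_apply, phi_a hd, Pi.neg_apply, Pi.single_apply]
      split_ifs <;> ring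
    have hDs : Shp a b D := by
      intro p r hpr
      rw [hD, Matrix.sub_apply, hNX, hXN]
      push Not at hpr
      by_cases hpa : p = a
      · have hr := hpr.1 hpa
        rw [if_neg (fun h : r = b => hd.hab (hr.symm.trans h)), if_pos hpa, hr, phi_at_a hd, heb, zero_smul, sub_self]
      · rw [if_neg hpa, sub_zero]
        split_ifs with hr
        · rw [hpr.2 hr, heb, zero_smul]
        · rfl
    -- the commutator with the transvection
    set g := T * z' * T⁻¹ * z'⁻¹
    have hTG : T ∈ G := hG.base 0 _ (tvS_mem hd _ _)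
    have hgG : g ∈ G := mul_mem (mul_mem (mul_mem hTG hz') (inv_mem hTG)) (inv_mem hz')
    set σ := Matrix.single a b (-((D * X) a b))
    have hgb : blk g.val = 1 + D + σ := by
      have e1 : blk g.val * (1 + X) = (1 + N) * (1 + X) * (1 - N) := by
        rw [← hz1, ← hTb, ← hTb', ← map_mul, ← map_mul, ← map_mul, ← Units.val_mul, ← Units.val_mul, ← Units.val_mul]
        simp [g, mul_assoc]
      have e2 : (1 + D + σ) * (1 + X) = (1 + N) * (1 + X) * (1 - N) := by
        have hNN : N * N = 0 := by rw [hN, ← hιS, ← map_mul, ← map_mul, Nm_mul_self hd, map_zero, map_zero]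
        have hDX := shp_mul_one hd.hab hDs hzs
        simp only [σ, add_mul, mul_add, mul_sub, one_mul, mul_one, single_mul_shp hd.hab hzs, add_zero, hNN, hNXN,
          sub_zero]
        set mDX := (D * X) a b
        rw [hDX, show Matrix.single a b (-mDX) = -Matrix.single a b mDX from
          map_neg (Matrix.singleAddMonoidHom a b) _, hD]
        abel
      exact ((z'.isUnit.map (blk (F := F) (m := k) (t := t))).mul_right_cancel (by rw [hz1, e1, e2]))
    -- removing the scalar part
    set s₀ : F := c / 2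
    obtain ⟨s, hs, hse⟩ := exists_sg hd ((mid F a b).smul_mem s₀ hem)
    set Y := ι (s.val - 1) with hY
    have hsb : blk (sgl (0 : Fin (t + 1)) s).val = 1 + Y := by
      rw [hY, ← hιS, sgl_coe, map_sub, map_one, map_sub, map_one]; abel
    set K := R - s₀ • 1 with hK
    have hDY : ∀ p r, (D + Y) p r = Qm J (Pi.single a 1) e p r • -K := by
      intro p r
      have hc2 : c = s₀ + s₀ := by simp only [s₀]; field_simp [(two_ne_zero (α := F))]; ring
      simp only [Matrix.add_apply, hD, Matrix.sub_apply, hNX, hXN, hY, ι, Matrix.map_apply, hse, hQent, phi_smul,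
        Pi.smul_apply, smul_eq_mul, Algebra.algebraMap_eq_smul_one, hK]
      rw [eq_sub_of_add_eq' hΛR, hc2]
      split_ifs <;> module
    have hYs : Shp a b Y := by
      intro p r hpr
      have h1 := hDY p r
      rw [Matrix.add_apply, hDs p r hpr, zero_add] at h1
      push Not at hpr
      rw [h1, hQent]
      by_cases hpa : p = a
      · rw [hpr.1 hpa]
        simp [hd.hab, phi_at_a hd, heb]
      · rw [if_neg hpa, zero_add]
        split_ifs with hr
        · rw [hpr.2 hr, heb, zero_smul]
        · rw [zero_smul]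
    set M := -((D * X) a b) + (D * Y) a b
    set w2 := g * sgl 0 s
    have hw2G : w2 ∈ G := mul_mem hgG (hG.base 0 _ hs)
    set Q := S (0 : Fin (t + 1)) (Qm J (Pi.single a 1) e)
    set Na := S (0 : Fin (t + 1)) (Nm J (Pi.single a 1))
    have hw2v : w2.val = 1 + (Q * lift (-K) + Na * lift (-M)) := by
      refine (blk (F := F) (m := k) (t := t)).injective ?_
      rw [Units.val_mul, map_mul, hgb, hsb, map_add, map_one, map_add]
      have h1 := shp_mul_one hd.hab hDs hYs
      have e3 : (1 + D + σ) * (1 + Y) = 1 + ((D + Y) + Matrix.single a b M) := by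
        simp only [σ, M, add_mul, mul_add, one_mul, mul_one, single_mul_shp hd.hab hYs, add_zero]
        set mDY := (D * Y) a b
        set mDX := (D * X) a b
        rw [h1, show Matrix.single a b (-mDX + mDY) =
            Matrix.single a b (-mDX) + Matrix.single a b mDY from Matrix.single_add _ _ _ _]
        abel
      rw [e3]
      congr 1
      congr 1
      · refine Matrix.ext fun p r => ?_
        rw [blk_S0_lift, hDY]
      · refine Matrix.ext fun p r => ?_
        rw [blk_S0_lift, Nm_a hd, Matrix.neg_apply, Matrix.single_apply, Matrix.single_apply]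
        split_ifs <;> simp
    obtain ⟨x, hx, hxa, -, hxm⟩ := exists_torus hd (l := (-1 : F)) (neg_ne_zero.2 one_ne_zero)
    have hxQ : conjMat (sgl (0 : Fin (t + 1)) x) Q = -Q := by
      have e1 : conjMat (sgl (0 : Fin (t + 1)) x) Q = S 0 (conjMat x (Qm J (Pi.single a 1) e)) := by
        rw [conjMat_apply, ← map_inv, sgl_coe, sgl_coe, ← map_mul, ← map_mul, ← conjMat_apply]
      rw [e1, conj_Qm hd hx, hxa, hxm e hem, ← map_neg]
      refine congrArg _ ?_
      simp only [Qm, phi_smul, vecMulVec_smul, smul_vecMulVec]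
      module
    have hxN : conjMat (sgl (0 : Fin (t + 1)) x) Na = Na := by
      have e1 : conjMat (sgl (0 : Fin (t + 1)) x) Na = S 0 (conjMat x (Nm J (Pi.single a 1))) := by
        rw [conjMat_apply, ← map_inv, sgl_coe, sgl_coe, ← map_mul, ← map_mul, ← conjMat_apply]
      rw [e1, conj_Nm hd hx, hxa, Nm_smul, neg_one_mul, neg_neg, one_smul]
    have hxl : ∀ B, conjMat (sgl (0 : Fin (t + 1)) x) (lift B) = lift B := fun B =>
      (conjMat_eq_iff_mul ..).2 (by rw [sgl_coe]; exact S0_lift_comm _ _)
    have hzero : ∀ {U V : Matrix (Fin k) (Fin k) F}, U * V = 0 → ∀ B B',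
        S (0 : Fin (t + 1)) U * lift B * (S 0 V * lift B') = 0 := fun {U V} h B B' => by
      rw [mul_assoc, ← mul_assoc (lift B), ← S0_lift_comm, mul_assoc (S 0 _) (lift B), ← mul_assoc, ← map_mul, h,
        map_zero, zero_mul]
    have hQQ := hzero (Qaf_sq hd he)
    have hNN' := hzero (Nm_mul_self hd (Pi.single a 1))
    have hNQ := hzero (Nm_a_Q hd he).1
    have hQN := hzero (Nm_a_Q hd he).2
    set v2 := sgl 0 x * w2 * (sgl 0 x)⁻¹
    have hv2G : v2 ∈ G := mul_mem (mul_mem (hG.base 0 _ hx) hw2G) (inv_mem (hG.base 0 _ hx))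
    have hv2v : v2.val = 1 + (Q * lift K + Na * lift (-M)) := by
      rw [← conjMat_units, hw2v, map_add, map_one, map_add, map_mul (conjMat _), map_mul (conjMat _), hxQ, hxN, hxl, hxl,
        map_neg, neg_mul, mul_neg, neg_neg]
    have hsq : ∀ B B', (Q * lift B + Na * lift (-M)) * (Q * lift B' + Na * lift (-M)) = 0 := fun B B' => by
      simp only [add_mul, mul_add, Q, Na, hQQ, hNN', hNQ, hQN, add_zero]
    refine ⟨(-2 : F) • K, (mem_radsp hd).2 ⟨w2 * v2⁻¹, mul_mem hw2G (inv_mem hv2G), ?_⟩, fun r hr => ?_⟩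
    · rw [Units.val_mul, hw2v, unit_inv_val hv2v (hsq _ _), add_mul, one_mul, mul_sub, mul_one, hsq]
      simp only [map_neg, map_smul, mul_smul_comm, mul_neg]
      module
    · refine hR (s₀ + (-2 : F)⁻¹ * r) ?_
      have h1 : K = ((-2 : F)⁻¹ * r) • 1 := by
        rw [← smul_smul, ← hr, inv_smul_smul₀ (neg_ne_zero.2 (two_ne_zero (α := F)))]
      rw [← hXrow q hqa, ← hRdef, add_smul, ← h1, hK, add_sub_cancel]
  -- the middle row is scalar
  push Not at hmid
  left
  have hyb : y = b := by
    by_contra hyb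
    obtain ⟨r, hr⟩ := hmid y hya hyb
    exact hy r hr
  subst hyb
  choose! r hr using hmid
  let φ : Fin k → F := fun q => if q = a ∨ q = y then 0 else -r q
  obtain ⟨u, hu, hphi⟩ := exists_phi hd (φ := φ) (by simp [φ]) (by simp [φ])
  obtain ⟨s, hs, hshp, hsr, -⟩ := sg_shp hd hu
  set U1 := z' * sgl 0 s with hU1
  have hsb : blk (sgl (0 : Fin (t + 1)) s).val - 1 = (s.val - 1).map (algebraMap F _) := by
    rw [sgl_coe, ← blk_S_zero, map_sub, map_one, map_sub, map_one]
  have hsS : Shp a y (blk (sgl (0 : Fin (t + 1)) s).val - 1) := fun p q hpq => by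
    rw [hsb, Matrix.map_apply, hshp p q hpq, map_zero]
  obtain ⟨hU1s, hU1row⟩ := shp_mul hd.hab hzs hsS
  rw [← map_mul, ← Units.val_mul, ← hU1] at hU1s hU1row
  have h10 : ∀ q, q ≠ a → q ≠ y → blk U1.val a q = 0 := fun q hqa hqb => by
    have e : blk (sgl (0 : Fin (t + 1)) s).val a q = ((s.val - 1) a q) • 1 := by
      have := congrFun (congrFun hsb a) q
      rw [Matrix.sub_apply, Matrix.one_apply_ne (Ne.symm hqa), sub_zero, Matrix.map_apply] at this
      rw [this, Algebra.algebraMap_eq_smul_one]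
    rw [hU1row q hqa hqb, hr q hqa hqb, e, hsr q hqb, hphi, ← add_smul]
    simp [φ, hqa, hqb]
  have hU1m : U1 ∈ G := mul_mem hz' (hG.base 0 _ hs)
  have hcor := cor_of_shp hd (hG.iso hU1m) hU1s h10
  refine ⟨-blk U1.val a y, (mem_corners hd).2 ⟨U1, hU1m, by conv_lhs => rw [hcor, cor_coe]⟩, fun r' hr' => ?_⟩
  let W : Submodule F (Matrix (Fin t → Fin k) (Fin t → Fin k) F) := Submodule.span F {1}
  obtain ⟨d1, d2⟩ := shp_diag_aa hd.hab hzs
  obtain ⟨e1, e2⟩ := shp_diag_aa hd.hab hsS
  have h1 : blk U1.val a y - blk z'.val a y ∈ W := by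
    rw [hU1, Units.val_mul, map_mul, Matrix.mul_apply, ← Finset.add_sum_erase _ _ (Finset.mem_univ y), e2, mul_one,
      add_sub_cancel_left]
    refine W.sum_mem fun p hp => ?_
    have hsp : blk (sgl (0 : Fin (t + 1)) s).val p y = (s.val - 1) p y • 1 := by
      have := congrFun (congrFun hsb p) y
      rw [Matrix.sub_apply, Matrix.one_apply_ne (Finset.ne_of_mem_erase hp), sub_zero, Matrix.map_apply] at this
      rw [this, Algebra.algebraMap_eq_smul_one]
    rw [hsp, mul_smul_comm, mul_one]
    refine W.smul_mem _ ?_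
    rcases eq_or_ne p a with rfl | hpa
    · rw [d1]; exact Submodule.mem_span_singleton_self _
    · rw [hr p hpa (Finset.ne_of_mem_erase hp)]; exact W.smul_mem _ (Submodule.mem_span_singleton_self _)
  obtain ⟨d, hd'⟩ := Submodule.mem_span_singleton.1 h1
  refine hy (-r' - d) ?_
  rw [sub_smul, neg_smul, ← hr', neg_neg, hd', sub_sub_cancel]

end Cfsg.Agent.TensorWreath.Sy
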