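import Cfsg.Agent.Lib.Forms.Max.TensorWreath.Symp.Setting

/-!
# Blocks of radical and Levi elements, and elements preserving a slice
-/

set_option autoImplicit false
set_option linter.unusedSectionVars false

namespace Cfsg.Agent.TensorWreath.Sy

open Matrix Cfsg.Agent.Aschbacher Cfsg.Agent.Forms.Max Cfsg.Agent.Forms.Max.SympTools

variable {F : Type*} [Field F] {k t : ℕ} {J : Matrix (Fin k) (Fin k) F} {a b : Fin k}

/-- shaped unipotent matrices over a ring of blocks -/
theorem shp_mul {R : Type*} [Ring R] (hab : a ≠ b) {U V : Matrix (Fin k) (Fin k) R} (hU : Shp a b (U - 1))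
    (hV : Shp a b (V - 1)) :
    Shp a b (U * V - 1) ∧ ∀ y, y ≠ a → y ≠ b → (U * V) a y = U a y + V a y := by
  have key : ∀ x y, (U * V) x y = (U - 1) x y + (V - 1) x y + (1 : Matrix (Fin k) (Fin k) R) x y +
      ∑ p, (U - 1) x p * (V - 1) p y := fun x y => by
    have e : U * V = (U - 1) + (V - 1) + 1 + (U - 1) * (V - 1) := by noncomm_ring
    rw [e, Matrix.add_apply, Matrix.add_apply, Matrix.add_apply, Matrix.mul_apply]
  refine ⟨fun x y h => ?_, fun y ha hb => ?_⟩
  · rw [Matrix.sub_apply, key, hU x y h, hV x y h, zero_add, zero_add, add_sub_cancel_left]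
    refine Finset.sum_eq_zero fun p _ => ?_
    by_cases h1 : (x = a ∧ p ≠ a) ∨ (p = b ∧ x ≠ b)
    · by_cases h2 : (p = a ∧ y ≠ a) ∨ (y = b ∧ p ≠ b)
      · exfalso
        rcases h1 with ⟨hx, hp⟩ | ⟨hp, hx⟩ <;> rcases h2 with ⟨hp', hy⟩ | ⟨hy, hp'⟩
        · exact hp hp'
        · exact h (Or.inr ⟨hy, fun e => hab (hx.symm.trans e)⟩)
        · exact hab (hp'.symm.trans hp)
        · exact hp' hp
      · rw [hV p y h2, mul_zero]
    · rw [hU x p h1, zero_mul]
  · have hay : (1 : Matrix (Fin k) (Fin k) R) a y = 0 := Matrix.one_apply_ne (Ne.symm ha)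
    rw [key, Matrix.sub_apply, Matrix.sub_apply, hay, sub_zero, sub_zero, add_zero, add_eq_left]
    refine Finset.sum_eq_zero fun p _ => ?_
    by_cases hp : p = a
    · subst hp
      rw [hU p p (by rintro (⟨-, h⟩ | ⟨h, -⟩); exacts [h rfl, hab h]), zero_mul]
    · rw [hV p y (by rintro (⟨h, -⟩ | ⟨h, -⟩); exacts [hp h, hb h]), mul_zero]

theorem shp_diag_aa {R : Type*} [Ring R] (hab : a ≠ b) {U : Matrix (Fin k) (Fin k) R} (hU : Shp a b (U - 1)) :
    U a a = 1 ∧ U b b = 1 := by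
  constructor
  · have := hU a a (by rintro (⟨-, h⟩ | ⟨h, -⟩); exacts [h rfl, hab h])
    rwa [Matrix.sub_apply, Matrix.one_apply_eq, sub_eq_zero] at this
  · have := hU b b (by rintro (⟨h, -⟩ | ⟨-, h⟩); exacts [hab h.symm, h rfl])
    rwa [Matrix.sub_apply, Matrix.one_apply_eq, sub_eq_zero] at this

/-- blocks of a conjugate of a slot element -/
theorem conj_blk (g : GL (Fin (t + 1) → Fin k) F) (s : GL (Fin k) F) (x y : Fin k) :
    (blk (g * sgl 0 s * g⁻¹).val - 1) x y =
      ∑ p, ∑ q, (s.val - 1) p q • (blk g.val x p * blk (g⁻¹).val q y) := by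
  have e : blk (g * sgl 0 s * g⁻¹).val - 1 = blk g.val * (s.val - 1).map (algebraMap F _) * blk (g⁻¹).val := by
    rw [← blk_S_zero, map_sub, map_one, map_sub, map_one, mul_sub, sub_mul, mul_one, ← map_mul blk g.val (g⁻¹).val,
      ← Units.val_mul, mul_inv_cancel, Units.val_one, map_one, ← sgl_coe, ← map_mul, ← map_mul, ← Units.val_mul,
      ← Units.val_mul]
  rw [e, Matrix.mul_apply, Finset.sum_comm]
  refine Finset.sum_congr rfl fun q _ => ?_
  rw [Matrix.mul_apply, Finset.sum_mul]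
  refine Finset.sum_congr rfl fun p _ => ?_
  rw [Matrix.map_apply, ← Algebra.commutes, ← Algebra.smul_def, smul_mul_assoc]

/-- blocks of a product with a slot element on both sides -/
theorem slot_mul_blk (h h' : Matrix (Fin k) (Fin k) F) (M : Matrix (Fin (t + 1) → Fin k) (Fin (t + 1) → Fin k) F)
    (x y : Fin k) : blk (S 0 h * M * S 0 h') x y = ∑ p, ∑ q, (h x p * h' q y) • blk M p q := by
  rw [map_mul, map_mul, Matrix.mul_apply, Finset.sum_comm]
  refine Finset.sum_congr rfl fun q _ => ?_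
  rw [Matrix.mul_apply, Finset.sum_mul]
  refine Finset.sum_congr rfl fun p _ => ?_
  rw [blk_S_zero, blk_S_zero, Matrix.map_apply, Matrix.map_apply, ← Algebra.commutes, ← Algebra.smul_def,
    ← Algebra.smul_def, smul_smul, mul_comm]

/-- fixing both lines of the pair -/
structure Levi (a b : Fin k) (h : Matrix (Fin k) (Fin k) F) : Prop where
  colA : ∀ x, x ≠ a → h x a = 0
  rowA : ∀ y, y ≠ a → h a y = 0
  colB : ∀ x, x ≠ b → h x b = 0
  rowB : ∀ y, y ≠ b → h b y = 0

theorem Levi.shp (hab : a ≠ b) {h h' : Matrix (Fin k) (Fin k) F} (hl : Levi a b h) (hl' : Levi a b h') (e : h * h' = 1)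
    {M : Matrix (Fin (t + 1) → Fin k) (Fin (t + 1) → Fin k) F} (hM : Shp a b (blk M - 1)) :
    Shp a b (blk (S 0 h * M * S 0 h') - 1) ∧
      ∀ y, y ≠ a → y ≠ b → blk (S 0 h * M * S 0 h') a y = ∑ q, (h a a * h' q y) • blk M a q := by
  refine ⟨fun x y hxy => ?_, fun y ha hb => ?_⟩
  · have e1 : S (0 : Fin (t + 1)) h * (1 : Matrix _ _ F) * S 0 h' = 1 := by rw [mul_one, ← map_mul, e, map_one]
    have e2 : blk (S 0 h * M * S 0 h') - 1 = blk (S 0 h * (M - 1) * S 0 h') := by
      rw [mul_sub, sub_mul, map_sub, e1, map_one]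
    rw [e2, slot_mul_blk]
    refine Finset.sum_eq_zero fun p _ => Finset.sum_eq_zero fun q _ => ?_
    rw [map_sub, map_one]
    by_cases h0 : h x p * h' q y = 0
    · rw [h0, zero_smul]
    rw [hM p q, smul_zero]
    rintro (⟨hp, hq⟩ | ⟨hq, hp⟩)
    · have hx : x = a := by by_contra hx; exact h0 (by rw [hp, hl.colA x hx, zero_mul])
      refine hxy (Or.inl ⟨hx, fun hy => h0 ?_⟩)
      rw [hy, hl'.colA q hq, mul_zero]
    · have hy : y = b := by by_contra hy; exact h0 (by rw [hq, hl'.rowB y hy, mul_zero])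
      refine hxy (Or.inr ⟨hy, fun hx => h0 ?_⟩)
      rw [hx, hl.rowB p hp, zero_mul]
  · rw [slot_mul_blk, Finset.sum_eq_single_of_mem a (Finset.mem_univ a) fun p _ hp => ?_]
    refine Finset.sum_eq_zero fun q _ => ?_
    rw [hl.rowA p hp, zero_mul, zero_smul]

variable (hd : Hyp J a b)
include hd

theorem levi_of [Finite F] {h : GL (Fin k) F} (hh : h ∈ Sl J) {l m : F} (hl : l ≠ 0) (hm : m ≠ 0)
    (ha : h.val *ᵥ Pi.single a 1 = l • Pi.single a 1) (hb : h.val *ᵥ Pi.single b 1 = m • Pi.single b 1) :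
    Levi a b h.val ∧ Levi a b (h⁻¹).val ∧ h.val a a = l := by
  have inv : ∀ {g : GL (Fin k) F} {v : Fin k → F} {r : F}, r ≠ 0 → g.val *ᵥ v = r • v → (g⁻¹).val *ᵥ v = r⁻¹ • v := by
    intro g v r hr e
    have h1 := congrArg ((g⁻¹).val *ᵥ ·) e
    simp only [mulVec_mulVec, ← Units.val_mul, inv_mul_cancel, Units.val_one, one_mulVec, mulVec_smul] at h1
    conv_rhs => rw [h1, smul_smul, inv_mul_cancel₀ hr, one_smul]
  have key : ∀ {g : GL (Fin k) F}, g ∈ Sl J → ∀ {r s : F}, r ≠ 0 → s ≠ 0 →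
      g.val *ᵥ Pi.single a 1 = r • Pi.single a 1 → g.val *ᵥ Pi.single b 1 = s • Pi.single b 1 → Levi a b g.val := by
    intro g hg r s hr hs ea eb
    refine ⟨fun x hx => ?_, fun y hy => ?_, fun x hx => ?_, fun y hy => ?_⟩
    · have := congrFun ea x
      simpa [hx] using this
    · have e1 : g.val a y = frm J (g.val *ᵥ Pi.single y 1) (Pi.single b 1) := by
        rw [frm_b hd]; simp
      rw [e1, ← inv_inv g, iso_inv_frm hd (inv_mem hg), inv hs eb, smul_right hd.sp, frm_b hd,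
        Pi.single_eq_of_ne (Ne.symm hy), mul_zero]
    · have := congrFun eb x
      simpa [hx] using this
    · have e1 : g.val b y = -frm J (g.val *ᵥ Pi.single y 1) (Pi.single a 1) := by
        rw [frm_a hd]; simp
      rw [e1, ← inv_inv g, iso_inv_frm hd (inv_mem hg), inv hr ea, smul_right hd.sp, frm_a hd,
        Pi.single_eq_of_ne (Ne.symm hy), neg_zero, mul_zero, neg_zero]
  refine ⟨key hh hl hm ha hb, key (inv_mem hh) (inv_ne_zero hl) (inv_ne_zero hm) (inv hl ha) (inv hm hb), ?_⟩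
  simpa using congrFun ha a

omit hd

/-- elements preserving a slice of two tame overgroups -/
structure PairS (J : Matrix (Fin k) (Fin k) F) (a b : Fin k)
    (G G' : Subgroup (GL (Fin (t + 1) → Fin k) F)) (g : GL (Fin (t + 1) → Fin k) F) : Prop where
  base : BaseU J G
  base' : BaseU J G'
  tame : TameU J a b G
  tame' : TameU J a b G'
  iso : g ∈ Iso J (t + 1)
  maps : ∀ z ∈ G, g * z * g⁻¹ ∈ G'
  maps' : ∀ z ∈ G', g⁻¹ * z * g ∈ G
  col : ∀ x, x ≠ a → blk g.val x a = 0
  row : ∀ y, y ≠ b → blk g.val b y = 0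

variable {G G' : Subgroup (GL (Fin (t + 1) → Fin k) F)} {g : GL (Fin (t + 1) → Fin k) F}

theorem PairS.inv_facts (h : PairS J a b G G' g) :
    blk (g⁻¹).val a a * blk g.val a a = 1 ∧ blk g.val a a * blk (g⁻¹).val a a = 1 ∧
      blk g.val b b * blk (g⁻¹).val b b = 1 ∧ blk (g⁻¹).val b b * blk g.val b b = 1 ∧
      (∀ x, x ≠ a → blk (g⁻¹).val x a = 0) ∧ ∀ y, y ≠ b → blk (g⁻¹).val b y = 0 := by
  have e : blk (g⁻¹).val * blk g.val = 1 := by rw [← map_mul, ← Units.val_mul, inv_mul_cancel, Units.val_one, map_one]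
  have e' : blk g.val * blk (g⁻¹).val = 1 := by rw [← map_mul, ← Units.val_mul, mul_inv_cancel, Units.val_one, map_one]
  have col : ∀ x, blk (g⁻¹).val x a * blk g.val a a =
      (1 : Matrix (Fin k) (Fin k) (Matrix (Fin t → Fin k) (Fin t → Fin k) F)) x a := fun x => by
    rw [← e, Matrix.mul_apply, Finset.sum_eq_single_of_mem a (Finset.mem_univ a) fun d _ hd => ?_]
    rw [h.col d hd, mul_zero]
  have row : ∀ y, blk g.val b b * blk (g⁻¹).val b y =
      (1 : Matrix (Fin k) (Fin k) (Matrix (Fin t → Fin k) (Fin t → Fin k) F)) b y := fun y => by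
    rw [← e', Matrix.mul_apply, Finset.sum_eq_single_of_mem b (Finset.mem_univ b) fun d _ hd => ?_]
    rw [h.row d hd, zero_mul]
  have h1 : blk (g⁻¹).val a a * blk g.val a a = 1 := by rw [col, Matrix.one_apply_eq]
  have h2 := mul_eq_one_comm.1 h1
  have h3 : blk g.val b b * blk (g⁻¹).val b b = 1 := by rw [row, Matrix.one_apply_eq]
  have h4 := mul_eq_one_comm.1 h3
  refine ⟨h1, h2, h3, h4, fun x hx => ?_, fun y hy => ?_⟩
  · have := congrArg (· * blk (g⁻¹).val a a) (col x)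
    rwa [mul_assoc, h2, mul_one, Matrix.one_apply_ne hx, zero_mul] at this
  · have := congrArg (blk (g⁻¹).val b b * ·) (row y)
    rwa [← mul_assoc, h4, one_mul, Matrix.one_apply_ne hy.symm, mul_zero] at this

theorem PairS.symm (h : PairS J a b G G' g) : PairS J a b G' G g⁻¹ := by
  obtain ⟨-, -, -, -, hc, hr⟩ := h.inv_facts
  refine ⟨h.base', h.base, h.tame', h.tame, inv_mem h.iso, fun z hz => ?_, fun z hz => ?_, hc, hr⟩
  · rw [inv_inv]; exact h.maps' z hz
  · rw [inv_inv]; exact h.maps z hz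

/-- conjugates of shaped slot elements -/
theorem PairS.conj_shp (hd : Hyp J a b) (h : PairS J a b G G' g) {s : GL (Fin k) F}
    (hs : s ∈ Sl J) (hshp : Shp a b (s.val - 1)) :
    g * sgl 0 s * g⁻¹ ∈ G' ∧ Shp a b (blk (g * sgl 0 s * g⁻¹).val - 1) ∧
      (∀ y, y ≠ a → y ≠ b → (blk (g * sgl 0 s * g⁻¹).val - 1) a y =
        ∑ q, (s.val - 1) a q • (blk g.val a a * blk (g⁻¹).val q y)) := by
  obtain ⟨-, -, -, -, hc, hr⟩ := h.inv_facts
  refine ⟨h.maps _ (h.base 0 s hs), fun x y hxy => ?_, fun y ha hb => ?_⟩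
  · rw [conj_blk]
    refine Finset.sum_eq_zero fun p _ => Finset.sum_eq_zero fun q _ => ?_
    by_cases hN : (p = a ∧ q ≠ a) ∨ (q = b ∧ p ≠ b)
    swap
    · rw [hshp p q hN, zero_smul]
    by_cases hy : y = a
    · have hq : q ≠ a := hN.elim (fun h => h.2) fun h e => hd.hab (e.symm.trans h.1)
      rw [hy, hc q hq, mul_zero, smul_zero]
    by_cases hx : x = b
    · have hp : p ≠ b := hN.elim (fun h e => hd.hab (h.1.symm.trans e)) fun h => h.2
      rw [hx, h.row p hp, zero_mul, smul_zero]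
    push Not at hxy
    have hxa : x ≠ a := fun e => hy (hxy.1 e)
    have hyb : y ≠ b := fun e => hx (hxy.2 e)
    rcases hN with ⟨rfl, -⟩ | ⟨rfl, -⟩
    · rw [h.col x hxa, zero_mul, smul_zero]
    · rw [hr y hyb, mul_zero, smul_zero]
  · rw [conj_blk, Finset.sum_eq_single_of_mem a (Finset.mem_univ a) fun p _ hp => ?_]
    refine Finset.sum_eq_zero fun q _ => ?_
    by_cases hN : (p = a ∧ q ≠ a) ∨ (q = b ∧ p ≠ b)
    · rw [(hN.resolve_left fun h => hp h.1).1, hr y hb, mul_zero, smul_zero]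
    · rw [hshp p q hN, zero_smul]

variable [Finite F]

theorem exists_phi (hd : Hyp J a b) {φ : Fin k → F} (ha : φ a = 0) (hb : φ b = 0) :
    ∃ u ∈ mid F a b, phi J u = φ := by
  obtain ⟨u, hu⟩ := exists_repr hd.sp
    { toFun := fun x => φ ⬝ᵥ x
      map_add' := fun p q => dotProduct_add φ p q
      map_smul' := fun c p => dotProduct_smul c φ p }
  have e : phi J u = φ := dotProduct_eq _ _ fun x => by rw [← frm_eq]; exact hu x
  refine ⟨u, mem_mid.2 ⟨?_, ?_⟩, e⟩
  · have := phi_at_b hd u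
    rwa [e, hb, eq_comm, neg_eq_zero] at this
  · have := phi_at_a hd u
    rwa [e, ha, eq_comm] at this

/-- Siegel elements are shaped -/
theorem sg_shp (hd : Hyp J a b) {u : Fin k → F} (hu : u ∈ mid F a b) :
    ∃ s ∈ Sl J, Shp a b (s.val - 1) ∧ (∀ q, q ≠ b → (s.val - 1) a q = phi J u q) ∧
      ∀ p, p ≠ a → (s.val - 1) p b = -u p := by
  obtain ⟨s, hs, he⟩ := exists_sg hd hu
  obtain ⟨hua, hub⟩ := mem_mid.1 hu
  refine ⟨s, hs, fun x y hxy => ?_, fun q hq => by rw [he]; simp [hq], fun p hp => by rw [he]; simp [hp]⟩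
  push Not at hxy
  rw [he]
  rcases eq_or_ne x a with rfl | hxa
  · have hy := hxy.1 rfl
    subst hy
    simp [hd.hab, phi_at_a hd, hub]
  · rw [if_neg hxa, mul_zero, add_zero]
    split_ifs with hy
    · rw [hxy.2 hy, hub, neg_zero]
    · rfl

theorem tv_shp (hd : Hyp J a b) (c : F) :
    Shp a b ((tvS hd (Pi.single a 1) c).val - 1) ∧ (tvS hd (Pi.single a 1) c).val - 1 = -c • Matrix.single a b (1 : F) := by
  have hN : (tvS hd (Pi.single a 1) c).val - 1 = -c • Matrix.single a b (1 : F) := by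
    rw [tvS_coe, add_sub_cancel_left, Nm_a hd, smul_neg, neg_smul]
  refine ⟨fun x y hxy => ?_, hN⟩
  rw [hN, Matrix.smul_apply, Matrix.single_apply, if_neg, smul_zero]
  rintro ⟨rfl, rfl⟩
  exact hxy (Or.inl ⟨rfl, hd.hab.symm⟩)

theorem PairS.inv_block (hd : Hyp J a b) (h : PairS J a b G G' g) :
    (∀ q y, q ≠ a → q ≠ b → y ≠ a → y ≠ b → ∃ r : F, blk (g⁻¹).val q y = r • blk (g⁻¹).val a a) ∧
      ∃ r : F, blk (g⁻¹).val b b = r • blk (g⁻¹).val a a := by
  obtain ⟨h1, h2, -, -, hc, hr⟩ := h.inv_facts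
  refine ⟨fun q y hqa hqb hya hyb => ?_, ?_⟩
  · obtain ⟨u, hu, hphi⟩ := exists_phi hd (φ := Pi.single q (1 : F)) (Pi.single_eq_of_ne hqa.symm _)
      (Pi.single_eq_of_ne hqb.symm _)
    obtain ⟨s, hs, hshp, hrow, -⟩ := sg_shp hd hu
    obtain ⟨hmem, hZ, hent⟩ := h.conj_shp hd hs hshp
    obtain ⟨c, hc'⟩ := h.tame'.self hmem hZ y hya
    have e := hent y hya hyb
    rw [Finset.sum_eq_single_of_mem q (Finset.mem_univ q) fun p _ hp => ?_, hrow q hqb, hphi, Pi.single_eq_same,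
      one_smul, Matrix.sub_apply, hc', Matrix.one_apply_ne (Ne.symm hya), sub_zero] at e
    · refine ⟨c, ?_⟩
      have := congrArg (blk (g⁻¹).val a a * ·) e
      rw [← mul_assoc, h1, one_mul, mul_smul_comm, mul_one] at this
      exact this.symm
    · rcases eq_or_ne p b with rfl | hpb
      · rw [hr y hyb, mul_zero, smul_zero]
      · rw [hrow p hpb, hphi, Pi.single_eq_of_ne hp, zero_smul]
  · set s := tvS hd (Pi.single a 1) (-1) with hsdef
    have hs : s ∈ Sl J := tvS_mem hd _ _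
    obtain ⟨hshp, hN⟩ := tv_shp hd (-1 : F)
    rw [← hsdef] at hshp hN
    rw [neg_neg, one_smul] at hN
    obtain ⟨hmem, hZ, -⟩ := h.conj_shp hd hs hshp
    obtain ⟨d, hd'⟩ := h.tame'.self hmem hZ b hd.hab.symm
    have e := conj_blk g s a b
    rw [hN, Finset.sum_eq_single_of_mem a (Finset.mem_univ a) fun p _ hp => ?_,
      Finset.sum_eq_single_of_mem b (Finset.mem_univ b) fun q _ hq => ?_, Matrix.single_apply_same,
      one_smul, Matrix.sub_apply, hd', Matrix.one_apply_ne hd.hab, sub_zero] at e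
    · refine ⟨d, ?_⟩
      have := congrArg (fun M => blk (g⁻¹).val a a * M) e
      rw [mul_smul_comm, mul_one, ← mul_assoc, h1, one_mul] at this
      exact this.symm
    · rw [Matrix.single_apply, if_neg (fun h' => hq h'.2.symm), zero_smul]
    · refine Finset.sum_eq_zero fun q _ => ?_
      rw [Matrix.single_apply, if_neg (fun h' => hp h'.1.symm), zero_smul]

end Cfsg.Agent.TensorWreath.Sy
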