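import Cfsg.Agent.Lib.Forms.Max.TensorWreath.Symp.Classify

/-!
# Conjugates of slot transvections inside the wreath group
-/

set_option autoImplicit false
set_option linter.unusedSectionVars false

namespace Cfsg.Agent.TensorWreath.Sy

open Matrix Cfsg.Agent.Aschbacher Cfsg.Agent.Forms.Max Cfsg.Agent.Forms.Max.SympTools

variable {F : Type*} [Field F] [Fintype F] {k t : ℕ} {J : Matrix (Fin k) (Fin k) F} {a b : Fin k}

theorem sgl_tv_sub (hd : Hyp J a b) (i : Fin t) (e : Fin k → F) (c : F) :
    (sgl i (tvS hd e c)).val - 1 = c • S i (Nm J e) := by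
  rw [sgl_coe, tvS_coe, map_add, map_one, add_sub_cancel_left, map_smul]

theorem S_ne_zero' {i : Fin t} {z : Matrix (Fin k) (Fin k) F} (hk : 0 < k) (hz : z ≠ 0) : S i z ≠ 0 := by
  haveI : Nonempty (Fin t → Fin k) := ⟨fun _ => ⟨0, hk⟩⟩
  exact fun h => hz (algHom_matrix_injective (S (F := F) (m := k) i) (h.trans (map_zero _).symm))

theorem span_nonorth (hd : Hyp J a b) (T : Submodule F (Fin k → F))
    (h : ∀ u, frm J u (Pi.single a 1) ≠ 0 → u ∈ T) : T = ⊤ := by
  refine eq_top_iff.2 fun u _ => ?_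
  by_cases hu : frm J u (Pi.single a 1) = 0
  · have h1 := h (u + Pi.single b 1) (by rw [hd.sp.add, hu, zero_add, frm_ba hd]; exact neg_ne_zero.2 one_ne_zero)
    have h2 := h (Pi.single b 1) (by rw [frm_ba hd]; exact neg_ne_zero.2 one_ne_zero)
    simpa using sub_mem h1 h2
  · exact h u hu

theorem slot_of_iso (hd : Hyp J a b) {i : Fin t} {M : GL (Fin k) F} (h : sgl i M ∈ Iso J t) :
    ∀ x y, frm J (M.val *ᵥ x) (M.val *ᵥ y) = frm J x y := by
  classical
  have e : M.valᵀ * J * M.val = J := by
    rw [mem_Iso, sgl_coe, slotHom_apply, pure_transpose, gram, ← map_mul, ← map_mul] at h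
    ext p q
    have := congrFun (congrFun h (Function.update (fun _ => a) i p)) (Function.update (fun _ => b) i q)
    rw [pureTensor_apply, pureTensor_apply, ← Finset.mul_prod_erase _ _ (Finset.mem_univ i),
      ← Finset.mul_prod_erase _ _ (Finset.mem_univ i)] at this
    have hr : ∀ l ∈ Finset.univ.erase i, ∀ N : Matrix (Fin k) (Fin k) F,
        N (Function.update (fun _ => a) i p l) (Function.update (fun _ => b) i q l) = N a b := fun l hl N => by
      rw [Function.update_of_ne (Finset.ne_of_mem_erase hl), Function.update_of_ne (Finset.ne_of_mem_erase hl)]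
    rw [Finset.prod_eq_one (f := fun l => J _ _) (fun l hl => by rw [hr l hl J, hd.jb, if_pos rfl]),
      Finset.prod_eq_one (fun l hl => by
        simp only [Pi.mul_apply, Pi.mulSingle_eq_of_ne (Finset.ne_of_mem_erase hl), transpose_one,
          one_mul, mul_one]
        rw [hr l hl J, hd.jb, if_pos rfl])] at this
    simpa using this
  intro x y
  rw [frm_mul, e]

/-- slot transvections which are isometries -/
theorem tv_of_iso (hd : Hyp J a b) {i : Fin t} {v φ : Fin k → F} {h0 : φ ⬝ᵥ v = 0}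
    (h : sgl i (trv v φ h0) ∈ Iso J t) (hv : v ≠ 0) (hφ : φ ≠ 0) :
    ∃ c : F, c ≠ 0 ∧ trv v φ h0 = tvS hd v c := by
  have hh := hd.sp
  have hiso := slot_of_iso hd h
  have key : ∀ x y, (φ ⬝ᵥ x) * frm J v y + (φ ⬝ᵥ y) * frm J x v = 0 := by
    intro x y
    have := hiso x y
    rw [trv_mulVec, trv_mulVec] at this
    simp only [hh.add, add_right hh, hh.smul, smul_right hh, hh.alt] at this
    linear_combination this
  have hker : ∀ x, frm J x v = 0 → φ ⬝ᵥ x = 0 := by
    intro x hx
    by_contra hne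
    refine hv (hh.nd v fun y => ?_)
    have h1 := key x y
    rw [hx, mul_zero, add_zero] at h1
    exact (mul_eq_zero.1 h1).resolve_left hne
  obtain ⟨x₀, hx₀⟩ := exists_value_one hh hv
  have hφe : φ = (φ ⬝ᵥ x₀) • phi J v := by
    refine dotProduct_eq _ _ fun x => ?_
    rw [smul_dotProduct, ← frm_eq, smul_eq_mul]
    have := hker (x - frm J x v • x₀) (by rw [sub_left hh, hh.smul, hx₀, mul_one, sub_self])
    rw [dotProduct_sub, dotProduct_smul, sub_eq_zero, smul_eq_mul] at this
    rw [this, mul_comm]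
  have hc : φ ⬝ᵥ x₀ ≠ 0 := fun e => hφ (by rw [hφe, e, zero_smul])
  refine ⟨φ ⬝ᵥ x₀, hc, Units.ext ?_⟩
  rw [tvS_coe, trv_coe]
  conv_lhs => rw [hφe, vecMulVec_smul]
  rfl

/-- a conjugate of a slot transvection in the wreath group is a slot transvection -/
theorem conj_root (hd : Hyp J a b) {t : ℕ} (g : GL (Fin (t + 1) → Fin k) F) (i : Fin (t + 1)) (e : Fin k → F)
    (he0 : e ≠ 0) {c : F} (hc0 : c ≠ 0) (hW : g * sgl i (tvS hd e c) * g⁻¹ ∈ Wr F k (t + 1))
    (hI : g * sgl i (tvS hd e c) * g⁻¹ ∈ Iso J (t + 1)) :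
    ∃ (j : Fin (t + 1)) (f : Fin k → F) (d : F), f ≠ 0 ∧ d ≠ 0 ∧
      g * sgl i (tvS hd e c) * g⁻¹ = sgl j (tvS hd f d) := by
  have hsub : (g * sgl i (tvS hd e c) * g⁻¹).val - 1 = conjMat g (c • S i (Nm J e)) := by
    rw [conj_val_sub, sgl_tv_sub]
  have hk2 : 2 ≤ k := by rcases hd.hk with h | h <;> omega
  have hsq : ((g * sgl i (tvS hd e c) * g⁻¹).val - 1) * ((g * sgl i (tvS hd e c) * g⁻¹).val - 1) = 0 := by
    rw [hsub, ← map_mul, smul_mul_smul_comm, ← map_mul (S i), Nm_mul_self hd, map_zero, smul_zero, map_zero]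
  have hrk : ((g * sgl i (tvS hd e c) * g⁻¹).val - 1).rank ≤ k ^ (t + 1 - 1) := by
    rw [hsub, rank_conjMat, ← map_smul, Nm, ← smul_vecMulVec]
    exact rank_S_le i _ _
  obtain ⟨j, v, φ, h0, e1⟩ : ∃ (j : Fin (t + 1)) (v φ : Fin k → F) (h : φ ⬝ᵥ v = 0),
      g * sgl i (tvS hd e c) * g⁻¹ = sgl j (trv v φ h) := by
    rcases hd.ch with h2 | h6
    · exact classify_odd hk2 (Nat.succ_pos t) h2 hW hsq hrk
    · obtain ⟨p, hp⟩ := CharP.exists F
      haveI : Fact p.Prime := ⟨(CharP.char_is_prime_or_zero F p).resolve_right (CharP.char_ne_zero_of_finite F p)⟩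
      refine (classify p (by omega) (Nat.succ_pos t) hW hsq hrk).resolve_right ?_
      rintro ⟨rfl, -⟩
      omega
  have hne : (sgl j (trv v φ h0)).val - 1 ≠ 0 := by
    rw [← e1, hsub, map_ne_zero_iff _ (conjMat g).injective, ← map_smul]
    exact S_ne_zero' (Fin.pos a) (smul_ne_zero hc0 (Nm_ne_zero hd he0))
  rw [sgl_trv_sub] at hne
  have hv : v ≠ 0 := fun e => hne (by rw [e, zero_vecMulVec, map_zero])
  have hφ : φ ≠ 0 := fun e => hne (by rw [e, vecMulVec_zero, map_zero])
  obtain ⟨d, hd0, e2⟩ := tv_of_iso hd (e1 ▸ hI) hv hφ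
  exact ⟨j, v, d, hv, hd0, by rw [e1, e2]⟩

/-- operators of nonorthogonal centres do not commute -/
theorem Nm_comm_frm (hd : Hyp J a b) {e f : Fin k → F} (hne : frm J e f ≠ 0) :
    Nm J e * Nm J f ≠ Nm J f * Nm J e := by
  intro h
  have h1 := congrArg (fun M => M *ᵥ e) h
  simp only [← mulVec_mulVec, Nm_mulVec, hd.sp.alt, zero_smul, mulVec_zero, mulVec_smul, smul_smul, smul_eq_zero] at h1
  have hfe : frm J f e ≠ 0 := fun h0 => hne (comm_zero hd.sp h0)
  rcases h1 with h1 | h1
  · exact mul_ne_zero hne hfe h1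
  · exact hne (by rw [h1, zero_left hd.sp])

/-- isometries carrying the slot transvection groups into the wreath group are wreath elements -/
theorem mem_of_conj_roots (hd : Hyp J a b) {t : ℕ} {w : GL (Fin (t + 1) → Fin k) F}
    (hW : ∀ (i : Fin (t + 1)) (e : Fin k → F), w * sgl i (tvS hd e 1) * w⁻¹ ∈ Wr F k (t + 1) ∧
      w * sgl i (tvS hd e 1) * w⁻¹ ∈ Iso J (t + 1)) :
    w ∈ Wr F k (t + 1) := by
  classical
  have hh := hd.sp
  have himg : ∀ (i : Fin (t + 1)) (e : Fin k → F), e ≠ 0 → ∃ (j : Fin (t + 1)) (y : Matrix (Fin k) (Fin k) F),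
      conjMat w (S i (Nm J e)) = S j y := by
    intro i e he0
    obtain ⟨j, f, d, -, -, e1⟩ := conj_root hd w i e he0 one_ne_zero (hW i e).1
      (hW i e).2
    refine ⟨j, d • Nm J f, ?_⟩
    have h1 : (w * sgl i (tvS hd e 1) * w⁻¹).val - 1 = (sgl j (tvS hd f d)).val - 1 := by rw [e1]
    rwa [conj_val_sub, sgl_tv_sub, sgl_tv_sub, one_smul, ← map_smul] at h1
  have hA0 : (Pi.single a 1 : Fin k → F) ≠ 0 := fun e => by simpa using congrFun e a
  have hB0 : (Pi.single b 1 : Fin k → F) ≠ 0 := fun e => by simpa using congrFun e b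
  choose π ya hya using fun i => himg i _ hA0
  have hsame : ∀ i (e : Fin k → F), frm J e (Pi.single a 1) ≠ 0 →
      ∃ y, conjMat w (S i (Nm J e)) = S (π i) y := by
    intro i e hea
    obtain ⟨j, y, hy⟩ := himg i e fun e0 => hea (by rw [e0, zero_left hh])
    rcases eq_or_ne j (π i) with rfl | hj
    · exact ⟨y, hy⟩
    exfalso
    refine Nm_comm_frm hd hea ?_
    haveI : Nonempty (Fin (t + 1) → Fin k) := ⟨fun _ => a⟩
    refine algHom_matrix_injective (S (F := F) (m := k) i) ((conjMat w).injective ?_)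
    rw [map_mul, map_mul, map_mul, map_mul, hy, hya, S_comm hj]
  let T : Fin (t + 1) → Subalgebra F (Matrix (Fin k) (Fin k) F) := fun i =>
    (S (F := F) (m := k) (π i)).range.comap ((conjMat w).toAlgHom.comp (S i))
  have hT : ∀ i z, z ∈ T i ↔ ∃ y, conjMat w (S i z) = S (π i) y := fun i z => by
    simp only [T, Subalgebra.mem_comap, AlgHom.mem_range, AlgHom.comp_apply]
    exact ⟨fun ⟨y, h⟩ => ⟨y, h.symm⟩, fun ⟨y, h⟩ => ⟨y, h.symm⟩⟩
  have hall : ∀ i z, z ∈ T i := by
    intro i
    set ea : Fin k → F := Pi.single a 1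
    set eb : Fin k → F := Pi.single b 1
    have hNa : Nm J ea ∈ T i := (hT i _).2 ⟨_, hya i⟩
    have hNe : ∀ e, frm J e ea ≠ 0 → Nm J e ∈ T i := fun e h2 => (hT i _).2 (hsame i e h2)
    have hdot : ∀ x y : Fin k → F, phi J y ⬝ᵥ x = frm J x y := fun x y => (frm_eq x y).symm
    have hL : ∀ x, vecMulVec x (phi J ea) ∈ T i := by
      let P : Submodule F (Fin k → F) :=
        { carrier := {x | vecMulVec x (phi J ea) ∈ T i}
          zero_mem' := by rw [Set.mem_setOf_eq, zero_vecMulVec]; exact zero_mem _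
          add_mem' := fun {x y} hx hy => by rw [Set.mem_setOf_eq, add_vecMulVec]; exact add_mem hx hy
          smul_mem' := fun r x hx => by rw [Set.mem_setOf_eq, smul_vecMulVec]; exact Subalgebra.smul_mem _ hx r }
      intro x
      have hP : P = ⊤ := span_nonorth hd P fun u hua => by
        have := mul_mem (hNe u hua) hNa
        rw [Nm, Nm, vecMulVec_mul_vecMulVec, hdot, vecMulVec_smul] at this
        have h2 : frm J ea u ≠ 0 := fun h0 => hua (comm_zero hh h0)
        have h3 := Subalgebra.smul_mem _ this (frm J ea u)⁻¹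
        rwa [smul_smul, inv_mul_cancel₀ h2, one_smul] at h3
      exact (hP ▸ Submodule.mem_top : x ∈ P)
    have hR : ∀ g, vecMulVec ea (phi J g) ∈ T i := by
      let P : Submodule F (Fin k → F) :=
        { carrier := {g | vecMulVec ea (phi J g) ∈ T i}
          zero_mem' := by
            have : phi J (0 : Fin k → F) = 0 := by simpa using phi_smul (J := J) (0 : F) ea
            rw [Set.mem_setOf_eq, this, vecMulVec_zero]; exact zero_mem _
          add_mem' := fun {x y} hx hy => by
            have : phi J (x + y) = phi J x + phi J y := dotProduct_eq _ _ fun z => by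
              rw [add_dotProduct, hdot, hdot, hdot, add_right hh]
            rw [Set.mem_setOf_eq, this, vecMulVec_add]; exact add_mem hx hy
          smul_mem' := fun r x hx => by
            rw [Set.mem_setOf_eq, phi_smul, vecMulVec_smul]; exact Subalgebra.smul_mem _ hx _ }
      intro g
      have hP : P = ⊤ := span_nonorth hd P fun u hua => by
        have := mul_mem hNa (hNe u hua)
        rw [Nm, Nm, vecMulVec_mul_vecMulVec, hdot, vecMulVec_smul] at this
        have h3 := Subalgebra.smul_mem _ this (frm J u ea)⁻¹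
        rwa [smul_smul, inv_mul_cancel₀ hua, one_smul] at h3
      exact (hP ▸ Submodule.mem_top : g ∈ P)
    have hNb : Nm J eb ∈ T i := hNe _ (by rw [frm_ba hd]; exact neg_ne_zero.2 one_ne_zero)
    have hone : ∀ x g, vecMulVec x (phi J g) ∈ T i := fun x g => by
      have := mul_mem (mul_mem (hL x) hNb) (hR g)
      rw [Nm, vecMulVec_mul_vecMulVec, hdot, frm_ba hd, neg_one_smul, vecMulVec_neg, neg_mul, vecMulVec_mul_vecMulVec, hdot,
        frm_ab hd, one_smul, neg_mem_iff] at this
      exact this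
    intro z
    rw [Matrix.matrix_eq_sum_single z]
    refine sum_mem fun p _ => sum_mem fun q _ => ?_
    obtain ⟨g, hg⟩ := exists_repr hh (LinearMap.proj q : (Fin k → F) →ₗ[F] F)
    have e : Matrix.single p q (z p q) = z p q • vecMulVec (Pi.single p 1) (phi J g) := by
      have : phi J g = Pi.single q 1 := dotProduct_eq _ _ fun x => by
        rw [hdot, hg, LinearMap.proj_apply, single_dotProduct, one_mul]
      rw [this]
      ext u v
      simp [Matrix.single_apply, vecMulVec_apply, Pi.single_apply]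
      aesop
    rw [e]
    exact Subalgebra.smul_mem _ (hone _ _) _
  choose y hy using fun i z => (hT i z).1 (hall i z)
  have hinj : Function.Injective π := by
    intro i i' hii
    by_contra hne
    haveI : Nonempty (Fin (t + 1) → Fin k) := ⟨fun _ => a⟩
    let L : Matrix (Fin k) (Fin k) F →ₗ[F] Matrix (Fin k) (Fin k) F :=
      { toFun := y i
        map_add' := fun u v => algHom_matrix_injective (S (F := F) (m := k) (π i)) (by
          rw [← hy, map_add, map_add, hy, hy, map_add])
        map_smul' := fun r u => algHom_matrix_injective (S (F := F) (m := k) (π i)) (by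
          rw [← hy, map_smul, map_smul, hy, RingHom.id_apply, map_smul]) }
    have hLi : Function.Injective L := fun u v h => algHom_matrix_injective (S (F := F) (m := k) i)
      ((conjMat w).injective (by rw [hy, hy]; exact congrArg _ h))
    obtain ⟨z, hz⟩ := (LinearMap.injective_iff_surjective.1 hLi) (y i' (Nm J (Pi.single a 1)))
    have e : S i z = S i' (Nm J (Pi.single a 1)) := (conjMat w).injective (by
      rw [hy, hy]
      show S (π i) (L z) = _
      rw [hz, hii])
    refine Nm_comm_frm hd (f := Pi.single b 1) (by rw [frm_ab hd]; exact one_ne_zero) ?_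
    refine algHom_matrix_injective (S (F := F) (m := k) i') ?_
    rw [map_mul, map_mul, ← e, S_comm hne]
  exact mem_of_slots (Fin.pos a) (Nat.succ_pos t) (Equiv.ofBijective π (Finite.injective_iff_bijective.1 hinj))
    fun i z => ⟨y i z, hy i z⟩

end Cfsg.Agent.TensorWreath.Sy
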