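import Cfsg.Agent.Lib.Forms.Max.TensorWreath.Symp.Descent

/-!
# Overgroups and the spaces of their slot elements
-/

set_option autoImplicit false
set_option linter.unusedSectionVars false

namespace Cfsg.Agent.TensorWreath.Sy

open Matrix Cfsg.Agent.Aschbacher Cfsg.Agent.Forms.Max Cfsg.Agent.Forms.Max.SympTools

variable {F : Type*} [Field F] [Fintype F] [NeZero (2 : F)] {k t : ℕ} {J : Matrix (Fin k) (Fin k) F} {a b : Fin k}

/-- between the wreath isometries and all isometries -/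
structure Over (J : Matrix (Fin k) (Fin k) F) (G : Subgroup (GL (Fin t → Fin k) F)) : Prop where
  full : Wr F k t ⊓ Iso J t ≤ G
  iso : G ≤ Iso J t

variable {G : Subgroup (GL (Fin t → Fin k) F)}

theorem Over.base (hG : Over J G) : BaseU J G := fun j _ hh => hG.full ⟨sgl_mem j _, sgl_iso j hh⟩

theorem Over.pure_mem (hG : Over J G) {c : Fin t → GL (Fin k) F} (hc : ∀ i, c i ∈ Sl J) : pureGL c ∈ G :=
  hG.full ⟨pureGL_mem _, pureGL_iso hc⟩

theorem Over.perm_mem (hG : Over J G) (π : Equiv.Perm (Fin t)) : permGL π ∈ G :=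
  hG.full ⟨permGL_mem π, perm_iso π⟩

theorem Over.w0_mem (hG : Over J G) {w : GL (Fin t → Fin k) F} (hw : w ∈ W0 J t) : w ∈ G :=
  hG.full ⟨W0_le_wr hw, W0_le_iso hw⟩

/-- a pure displacement in the group -/
def Has (G : Subgroup (GL (Fin t → Fin k) F)) (X : Fin t → Matrix (Fin k) (Fin k) F) : Prop :=
  ∃ g ∈ G, ∃ c : F, c ≠ 0 ∧ g.val = 1 + c • pureTensor X

theorem Has.conj_pure (hG : Over J G) {X : Fin t → Matrix (Fin k) (Fin k) F} (h : Has G X) {c : Fin t → GL (Fin k) F}
    (hc : ∀ i, c i ∈ Sl J) : Has G fun i => conjMat (c i) (X i) := by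
  obtain ⟨g, hg, r, hr, hgv⟩ := h
  refine ⟨pureGL c * g * (pureGL c)⁻¹, mul_mem (mul_mem (hG.pure_mem hc) hg) (inv_mem (hG.pure_mem hc)), r, hr, ?_⟩
  rw [← conjMat_units, hgv, conjMat_nsmul, conj_pure_pureT]

theorem Has.conj_perm (hG : Over J G) {X : Fin t → Matrix (Fin k) (Fin k) F} (h : Has G X) (π : Equiv.Perm (Fin t)) :
    Has G (X ∘ π.symm) := by
  obtain ⟨g, hg, r, hr, hgv⟩ := h
  refine ⟨permGL π * g * (permGL π)⁻¹, mul_mem (mul_mem (hG.perm_mem π) hg) (inv_mem (hG.perm_mem π)), r, hr, ?_⟩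
  rw [← conjMat_units, hgv, conjMat_nsmul, conj_perm_pureT]

theorem unit_inv_val {g : GL (Fin t → Fin k) F} {M : Matrix (Fin t → Fin k) (Fin t → Fin k) F} (hg : g.val = 1 + M)
    (hM : M * M = 0) : (g⁻¹).val = 1 - M := by
  refine Units.inv_eq_of_mul_eq_one_right ?_
  rw [hg, add_mul, one_mul, mul_sub, mul_one, hM]
  abel

/-- commutators of two displacements -/
theorem comm_val {g h : GL (Fin t → Fin k) F} {A B : Matrix (Fin t → Fin k) (Fin t → Fin k) F} (hg : g.val = 1 + A)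
    (hh : h.val = 1 + B) (hAA : A * A = 0) (hBB : B * B = 0) (hABA : A * B * A = 0) (hBAB : B * A * B = 0) :
    (g * h * g⁻¹ * h⁻¹).val = 1 + (A * B - B * A) := by
  simp only [Units.val_mul, hg, hh, unit_inv_val hg hAA, unit_inv_val hh hBB, mul_add, add_mul, mul_sub, sub_mul,
    one_mul, mul_one, hAA, hBB, hABA, hBAB, zero_mul, sub_zero, zero_sub]
  noncomm_ring [hAA, hBB, hABA, hBAB]

variable {G : Subgroup (GL (Fin (t + 1) → Fin k) F)}

/-- the coefficients of a square zero matrix in the first slot -/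
def slotSp (hG : Over J G) (Z : Matrix (Fin k) (Fin k) F) (hZ : Z * Z = 0)
    (hscale : ∀ c : F, ∀ B, (∃ g ∈ G, g.val = 1 + S 0 Z * lift B) → ∃ g ∈ G, g.val = 1 + S 0 Z * lift (c • B)) :
    Submodule F (Matrix (Fin t → Fin k) (Fin t → Fin k) F) where
  carrier := {B | ∃ g ∈ G, g.val = 1 + S 0 Z * lift B}
  zero_mem' := ⟨1, one_mem _, by rw [map_zero, mul_zero, add_zero, Units.val_one]⟩
  add_mem' := fun {B C} ⟨g, hg, hgv⟩ ⟨h, hh, hhv⟩ => ⟨g * h, mul_mem hg hh, by
    rw [Units.val_mul, hgv, hhv, mul_add, mul_one, add_mul, one_mul, mul_assoc (S 0 Z) (lift B),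
      ← mul_assoc (lift B), ← S0_lift_comm, mul_assoc _ (lift B), ← mul_assoc (S 0 Z) (S 0 Z), ← map_mul,
      hZ, map_zero, zero_mul, add_zero, map_add, mul_add]
    abel⟩
  smul_mem' := fun c B hB => hscale c B hB

theorem slot_conj (hG : Over J G) {x : GL (Fin k) F} (hx : x ∈ Sl J) {Z : Matrix (Fin k) (Fin k) F}
    {B : Matrix (Fin t → Fin k) (Fin t → Fin k) F} (h : ∃ g ∈ G, g.val = 1 + S 0 Z * lift B) :
    ∃ g ∈ G, g.val = 1 + S 0 (conjMat x Z) * lift B := by
  obtain ⟨g, hg, hgv⟩ := h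
  refine ⟨sgl 0 x * g * (sgl 0 x)⁻¹, mul_mem (mul_mem (hG.base 0 _ hx) hg) (inv_mem (hG.base 0 _ hx)), ?_⟩
  rw [← conjMat_units, hgv, map_add, map_one, map_mul (conjMat _),
    show conjMat (sgl (0 : Fin (t + 1)) x) (S 0 Z) = S 0 (conjMat x Z) by
      rw [conjMat_apply, ← map_inv, sgl_coe, sgl_coe, ← map_mul, ← map_mul, ← conjMat_apply],
    show conjMat (sgl (0 : Fin (t + 1)) x) (lift B) = lift B from
      (conjMat_eq_iff_mul ..).2 (by rw [sgl_coe]; exact S0_lift_comm _ _)]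

theorem slotSp_spc (hG : Over J G) (Z : Matrix (Fin k) (Fin k) F) (hZ : Z * Z = 0) (hscale) :
    Spc J (slotSp hG Z hZ hscale) := by
  refine ⟨fun j h hh B hB => ?_⟩
  obtain ⟨g, hg, hgv⟩ := hB
  refine ⟨sgl j.succ h * g * (sgl j.succ h)⁻¹, mul_mem (mul_mem (hG.base _ _ hh) hg) (inv_mem (hG.base _ _ hh)), ?_⟩
  rw [← conjMat_units, hgv, map_add, map_one, map_mul (conjMat _)]
  congr 2
  · exact (conjMat_eq_iff_mul ..).2 (by rw [sgl_coe]; exact S_comm (Fin.succ_ne_zero j) _ _)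
  · rw [conjMat_apply, conjMat_apply, map_mul, map_mul, ← liftW_sgl, ← map_inv, liftW_coe, liftW_coe]

variable (hd : Hyp J a b)
include hd

omit [NeZero (2 : F)] in
theorem Nm_a_Q {e : Fin k → F} (he : Mv a b e) :
    Nm J (Pi.single a 1) * Qm J (Pi.single a 1) e = 0 ∧ Qm J (Pi.single a 1) e * Nm J (Pi.single a 1) = 0 := by
  constructor <;> refine Matrix.ext_of_mulVec_single fun i => ?_ <;>
    simp only [← mulVec_mulVec, Qm_mulVec hd, Nm_mulVec, sub_left hd.sp, hd.sp.smul, frm_af hd he, hd.sp.alt,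
      comm_zero hd.sp (frm_af hd he), mul_zero, sub_zero, zero_smul, zero_mulVec]

variable {G : Subgroup (GL (Fin (t + 1) → Fin k) F)}

/-- the corners of an overgroup -/
def corners (hG : Over J G) : Submodule F (Matrix (Fin t → Fin k) (Fin t → Fin k) F) :=
  slotSp hG (Nm J (Pi.single a 1)) (Nm_mul_self hd _) fun c B hB => by
    have sq : ∀ l : F, ∃ g ∈ G, g.val = 1 + S 0 (Nm J (Pi.single a 1)) * lift ((l * l) • B) := by
      intro l
      rcases eq_or_ne l 0 with rfl | hl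
      · exact ⟨1, one_mem _, by rw [mul_zero, zero_smul, map_zero, mul_zero, add_zero, Units.val_one]⟩
      obtain ⟨x, hx, hxa, -, -⟩ := exists_torus hd hl
      obtain ⟨g, hg, hgv⟩ := slot_conj hG hx hB
      refine ⟨g, hg, ?_⟩
      rw [hgv, conj_Nm hd hx, hxa, Nm_smul, map_smul, map_smul, smul_mul_assoc, mul_smul_comm]
    obtain ⟨g, hg, hgv⟩ := sq ((c + 1) / 2)
    obtain ⟨h, hh, hhv⟩ := sq ((c - 1) / 2)
    refine ⟨g * h⁻¹, mul_mem hg (inv_mem hh), ?_⟩
    have hsq : ∀ B C : Matrix (Fin t → Fin k) (Fin t → Fin k) F,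
        S (0 : Fin (t + 1)) (Nm J (Pi.single a 1)) * lift B * (S 0 (Nm J (Pi.single a 1)) * lift C) = 0 := fun B C => by
      rw [mul_assoc, ← mul_assoc (lift B), ← S0_lift_comm, mul_assoc (S 0 _) (lift B), ← mul_assoc, ← map_mul,
        Nm_mul_self hd, map_zero, zero_mul]
    rw [Units.val_mul, hgv, unit_inv_val hhv (hsq _ _), add_mul, one_mul, mul_sub, mul_one, hsq]
    have e : c • B = ((c + 1) / 2 * ((c + 1) / 2)) • B - ((c - 1) / 2 * ((c - 1) / 2)) • B := by
      rw [← sub_smul]; congr 1; field_simp [(two_ne_zero (α := F))]; ring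
    rw [e, map_sub, mul_sub]
    abel

/-- the coefficients of a pair operator -/
def radsp (hG : Over J G) {e : Fin k → F} (he : Mv a b e) : Submodule F (Matrix (Fin t → Fin k) (Fin t → Fin k) F) :=
  slotSp hG (Qm J (Pi.single a 1) e) (Qaf_sq hd he) fun c B hB => by
    rcases eq_or_ne c 0 with rfl | hl
    · exact ⟨1, one_mem _, by rw [zero_smul, map_zero, mul_zero, add_zero, Units.val_one]⟩
    obtain ⟨x, hx, hxa, -, hxm⟩ := exists_torus hd hl
    obtain ⟨g, hg, hgv⟩ := slot_conj hG hx hB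
    refine ⟨g, hg, ?_⟩
    have hQ : conjMat x (Qm J (Pi.single a 1) e) = c • Qm J (Pi.single a 1) e := by
      rw [conj_Qm hd hx, hxa, hxm e he.mem]
      simp only [Qm, phi_smul, vecMulVec_smul, smul_vecMulVec, smul_sub]
    rw [hgv, hQ, map_smul, map_smul, smul_mul_assoc, mul_smul_comm]

theorem mem_corners {hG : Over J G} {B : Matrix (Fin t → Fin k) (Fin t → Fin k) F} :
    B ∈ corners hd hG ↔ ∃ g ∈ G, g.val = 1 + S 0 (Nm J (Pi.single a 1)) * lift B := Iff.rfl

theorem mem_radsp {hG : Over J G} {e : Fin k → F} {he : Mv a b e} {B : Matrix (Fin t → Fin k) (Fin t → Fin k) F} :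
    B ∈ radsp hd hG he ↔ ∃ g ∈ G, g.val = 1 + S 0 (Qm J (Pi.single a 1) e) * lift B := Iff.rfl

theorem corners_spc (hG : Over J G) : Spc J (corners hd hG) := slotSp_spc hG _ _ _

theorem radsp_spc (hG : Over J G) {e : Fin k → F} (he : Mv a b e) : Spc J (radsp hd hG he) := slotSp_spc hG _ _ _

/-- mixtures of projector patterns next to a root give roots -/
theorem mix_has (hG : Over J G) (C : Finset (Fin (t + 1))) (W : Fin (t + 1) → Matrix (Fin k) (Fin k) F)
    {d : Fin (t + 1)} (hd0 : d ∉ C) (hW : W d = Matrix.single a b 1) {g : GL (Fin (t + 1) → Fin k) F} (hg : g ∈ G)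
    {c y : F} (hc : c ≠ 0) (hy : (-1) ^ C.card + y ≠ 0)
    (hgv : g.val = 1 + c • (pureTensor (put C (Matrix.single a a 1) W) + y • pureTensor (put C (Matrix.single b b 1) W))) :
    Has G (put C (Matrix.single a b 1) W) := by
  classical
  have zero_case : ∀ (C : Finset (Fin (t + 1))) (W : Fin (t + 1) → Matrix (Fin k) (Fin k) F) (g : GL (Fin (t + 1) → Fin k) F),
      0 ∉ C → W 0 = Matrix.single a b 1 → g ∈ G → (-1) ^ C.card + y ≠ 0 →
      g.val = 1 + c • (pureTensor (put C (Matrix.single a a 1) W) + y • pureTensor (put C (Matrix.single b b 1) W)) →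
      Has G (put C (Matrix.single a b 1) W) := by
    intro C W g h0 hW hg hy hgv
    set C' : Finset (Fin t) := Finset.univ.filter fun i => i.succ ∈ C with hC'
    have hcard : C'.card = C.card := by
      refine Finset.card_bij (fun i _ => i.succ) (fun i hi => by simpa [hC'] using hi)
        (fun i _ j _ h => Fin.succ_injective _ h) fun i hi => ?_
      obtain ⟨j, rfl⟩ := Fin.exists_succ_eq.2 (fun e : i = 0 => h0 (e ▸ hi))
      exact ⟨j, by simpa [hC'] using hi, rfl⟩
    have hput : ∀ Z, pureTensor (put C Z W) = -(S (0 : Fin (t + 1)) (Nm J (Pi.single a 1)) * lift (pureTensor (put C' Z (W ∘ Fin.succ)))) := by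
      intro Z
      rw [Nm_a hd, map_neg, neg_mul, neg_neg, S0_lift_pure]
      congr 1
      funext i
      induction i using Fin.cases with
      | zero => simp [put, h0, hW]
      | succ i => simp [put, hC']
    have hB : (-c) • pureTensor (put C' (Matrix.single a a 1) (W ∘ Fin.succ)) +
        (-c * y) • pureTensor (put C' (Matrix.single b b 1) (W ∘ Fin.succ)) ∈ corners hd hG := by
      refine (mem_corners hd).2 ⟨g, hg, ?_⟩
      rw [hgv, hput, hput, map_add, map_smul, map_smul, mul_add, mul_smul_comm, mul_smul_comm]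
      module
    obtain ⟨g', hg', hgv'⟩ := (mem_corners hd).1 (mix hd (corners_spc hd hG) C' _ _ _ hB)
    refine ⟨g', hg', c * ((-1) ^ C.card + y), mul_ne_zero hc hy, ?_⟩
    rw [hgv', hput, hcard, map_smul, mul_smul_comm]
    module
  set π := Equiv.swap (0 : Fin (t + 1)) d
  have hsym : π.symm = π := Equiv.symm_swap _ _
  have hput : ∀ Z, put C Z W ∘ π = put (C.map π.toEmbedding) Z (W ∘ π) := fun Z => funext fun i => by
    simp [put, Finset.mem_map_equiv, hsym]
  have hπ := hG.perm_mem π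
  have h1 := zero_case (C.map π.toEmbedding) (W ∘ π) (permGL π * g * (permGL π)⁻¹)
    (by simpa [Finset.mem_map_equiv, hsym, π] using hd0) (by simp [π, hW]) (mul_mem (mul_mem hπ hg) (inv_mem hπ))
    (by rwa [Finset.card_map])
    (by rw [← conjMat_units, hgv, conjMat_nsmul, map_add, map_smul, conj_perm_pureT, conj_perm_pureT, hsym, hput, hput])
  have h2 := h1.conj_perm hG π
  rwa [← hput, Function.comp_assoc, Equiv.self_comp_symm, Function.comp_id] at h2

end Cfsg.Agent.TensorWreath.Sy
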