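import Cfsg.Agent.Lib.Forms.Max.TensorWreath.Symp.Engine

/-!
# The slot values of root patterns
-/

set_option autoImplicit false
set_option linter.unusedSectionVars false

namespace Cfsg.Agent.TensorWreath.Sy

open Matrix Cfsg.Agent.Aschbacher Cfsg.Agent.Forms.Max Cfsg.Agent.Forms.Max.SympTools

variable {F : Type*} [Field F] [Fintype F] {k t : ℕ} {J : Matrix (Fin k) (Fin k) F} {a b : Fin k}

/-- the operator of an orthogonal pair -/
def Qm (J : Matrix (Fin k) (Fin k) F) (x y : Fin k → F) : Matrix (Fin k) (Fin k) F :=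
  vecMulVec x (phi J y) - vecMulVec y (phi J x)

/-- the values in a slot: the identity, a root, a pair operator -/
def sm (J : Matrix (Fin k) (Fin k) F) (a b : Fin k) (f : Fin k → F) : Fin 3 → Matrix (Fin k) (Fin k) F :=
  ![1, Matrix.single a b 1, Qm J (Pi.single a 1) f]

/-- a pure tensor of slot values -/
def pat (J : Matrix (Fin k) (Fin k) F) (a b : Fin k) (f : Fin k → F) (T : Fin t → Fin 3) :
    Matrix (Fin t → Fin k) (Fin t → Fin k) F :=
  pureTensor fun i => sm J a b f (T i)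

/-- the middle vector used by the patterns: nonzero when the middle space is -/
structure Mv (a b : Fin k) (f : Fin k → F) : Prop where
  mem : f ∈ mid F a b
  ne : 4 ≤ k → f ≠ 0

theorem Qm_smul_right (c : F) (x y : Fin k → F) : Qm J x (c • y) = c • Qm J x y := by
  rw [Qm, Qm, phi_smul, vecMulVec_smul, smul_vecMulVec, smul_sub]

theorem conjMat_nsmul {κ : Type} [Fintype κ] [DecidableEq κ] (g : GL κ F) (c : F) (X : Matrix κ κ F) :
    conjMat g (1 + c • X) = 1 + c • conjMat g X := by rw [map_add, map_one, map_smul]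

theorem conj_perm_pureT (π : Equiv.Perm (Fin t)) (X : Fin t → Matrix (Fin k) (Fin k) F) :
    conjMat (permGL π) (pureTensor X) = pureTensor (X ∘ π.symm) := by
  rw [conjMat_eq_iff_mul]
  exact perm_pure π X

theorem conj_pure_pureT (c : Fin t → GL (Fin k) F) (X : Fin t → Matrix (Fin k) (Fin k) F) :
    conjMat (pureGL c) (pureTensor X) = pureTensor fun i => conjMat (c i) (X i) := by
  rw [conjMat_eq_iff_mul, pureGL_coe, ← map_mul, ← map_mul]
  congr 1
  funext i
  exact ((conjMat_eq_iff_mul ..).1 rfl)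

theorem pure_ne_zero {X : Fin t → Matrix (Fin k) (Fin k) F} (h : ∀ i, X i ≠ 0) : pureTensor X ≠ 0 := by
  have h' : ∀ i, ∃ p q, X i p q ≠ 0 := fun i => by
    by_contra hc
    push Not at hc
    exact h i (Matrix.ext hc)
  choose p q hpq using h'
  intro e
  have := congrFun (congrFun e p) q
  rw [pureTensor_apply, Matrix.zero_apply] at this
  exact Finset.prod_ne_zero_iff.2 (fun i _ => hpq i) this

theorem pure_smul_slot (c : Fin t → F) (X : Fin t → Matrix (Fin k) (Fin k) F) :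
    pureTensor (fun i => c i • X i) = (∏ i, c i) • pureTensor X := pureTensor_smul c X

/-- a signed pure tensor -/
theorem pure_sign (S : Finset (Fin t)) (X : Fin t → Matrix (Fin k) (Fin k) F) :
    pureTensor (fun i => if i ∈ S then -X i else X i) = (-1 : F) ^ S.card • pureTensor X := by
  rw [show (fun i => if i ∈ S then -X i else X i) = fun i => (if i ∈ S then (-1 : F) else 1) • X i from
    funext fun i => by split_ifs <;> simp, pure_smul_slot]
  congr 1
  rw [Finset.prod_ite_mem, Finset.univ_inter, Finset.prod_const]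

theorem S0_lift_pure (z : Matrix (Fin k) (Fin k) F) (X : Fin t → Matrix (Fin k) (Fin k) F) :
    S (0 : Fin (t + 1)) z * lift (pureTensor X) = pureTensor (Fin.cons z X) := by
  rw [lift_pure, slotHom_apply, ← map_mul]
  congr 1
  funext i
  induction i using Fin.cases with
  | zero => simp
  | succ i => simp [Pi.mulSingle_eq_of_ne (Fin.succ_ne_zero i)]

theorem pat_cons (f : Fin k → F) (s : Fin 3) (T : Fin t → Fin 3) :
    pat J a b f (Fin.cons s T : Fin (t + 1) → Fin 3) = S 0 (sm J a b f s) * lift (pat J a b f T) := by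
  rw [pat, pat, S0_lift_pure]
  congr 1
  funext i
  induction i using Fin.cases <;> simp

variable (hd : Hyp J a b)
include hd

theorem frm_a_left (x : Fin k → F) : frm J (Pi.single a 1) x = x b := by rw [hd.sp.skew, frm_a hd, neg_neg]

theorem frm_b_left (x : Fin k → F) : frm J (Pi.single b 1) x = -x a := by rw [hd.sp.skew, frm_b hd]

theorem conj_vec {g : GL (Fin k) F} (hg : g ∈ Sl J) (x y : Fin k → F) :
    conjMat g (vecMulVec x (phi J y)) = vecMulVec (g.val *ᵥ x) (phi J (g.val *ᵥ y)) := by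
  refine Matrix.ext_of_mulVec_single fun i => ?_
  rw [conjMat_apply, ← mulVec_mulVec, ← mulVec_mulVec, vecMulVec_mulVec, vecMulVec_mulVec, op_smul_eq_smul,
    op_smul_eq_smul, ← frm_eq, ← frm_eq, mulVec_smul, iso_inv_frm hd hg]

theorem conj_Qm {g : GL (Fin k) F} (hg : g ∈ Sl J) (x y : Fin k → F) :
    conjMat g (Qm J x y) = Qm J (g.val *ᵥ x) (g.val *ᵥ y) := by
  rw [Qm, map_sub, conj_vec hd hg, conj_vec hd hg]; rfl

theorem Qm_mulVec (x y v : Fin k → F) : Qm J x y *ᵥ v = frm J v y • x - frm J v x • y := by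
  rw [Qm, sub_mulVec, vecMulVec_mulVec, vecMulVec_mulVec, op_smul_eq_smul, op_smul_eq_smul, ← frm_eq, ← frm_eq]

theorem Qm_self (x : Fin k → F) : Qm J x x = 0 := sub_self _

theorem Qm_add_right (x y z : Fin k → F) : Qm J x (y + z) = Qm J x y + Qm J x z := by
  simp only [Qm, phi_add, vecMulVec_add, add_vecMulVec]; abel

variable {f : Fin k → F} (hf : Mv a b f)

/-- a middle vector -/
theorem exists_mv : ∃ f : Fin k → F, Mv a b f := by
  by_cases h4 : 4 ≤ k
  · obtain ⟨e, he, -, -, he0, -, -⟩ := exists_mid_pair hd h4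
    exact ⟨e, he, fun _ => he0⟩
  · exact ⟨0, zero_mem _, fun h => absurd h h4⟩

include hf

theorem frm_af : frm J (Pi.single a 1) f = 0 := by rw [frm_a_left hd, (mem_mid.1 hf.mem).2]

theorem frm_bf : frm J (Pi.single b 1) f = 0 := by rw [frm_b_left hd, (mem_mid.1 hf.mem).1, neg_zero]

theorem Qaf_sq : Qm J (Pi.single a 1) f * Qm J (Pi.single a 1) f = 0 := by
  refine Matrix.ext_of_mulVec_single fun i => ?_
  simp only [← mulVec_mulVec, Qm_mulVec hd, sub_left hd.sp, hd.sp.smul, frm_af hd hf, hd.sp.alt,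
    comm_zero hd.sp (frm_af hd hf), mul_zero, sub_zero, zero_smul, zero_mulVec]

theorem Qaf_ne (hf0 : f ≠ 0) : Qm J (Pi.single a 1) f ≠ 0 := by
  intro h
  obtain ⟨x, hx⟩ := exists_value_one hd.sp hf0
  have h1 := congrFun (Qm_mulVec hd (Pi.single a 1) f x) a
  rw [h, zero_mulVec, hx] at h1
  simp [(mem_mid.1 hf.mem).1] at h1

/-- exchanging the two basis vectors of the pair -/
theorem exists_flip : ∃ x ∈ Sl J, x.val *ᵥ Pi.single a 1 = Pi.single b 1 ∧ x.val *ᵥ Pi.single b 1 = -Pi.single a 1 ∧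
    x.val *ᵥ f = f := by
  have hneg : ∀ x y, frm J (-x) y = -frm J x y := fun x y => by rw [← neg_one_smul F x, hd.sp.smul, neg_one_mul]
  refine ⟨tvS hd (Pi.single a 1) 1 * tvS hd (Pi.single b 1) 1 * tvS hd (Pi.single a 1) 1,
    mul_mem (mul_mem (tvS_mem hd _ _) (tvS_mem hd _ _)) (tvS_mem hd _ _), ?_, ?_, ?_⟩
  all_goals
    simp only [Units.val_mul, ← mulVec_mulVec, tvS_mulVec, mulVec_add, mulVec_smul, hd.sp.alt, frm_ab hd, frm_ba hd,
      comm_zero hd.sp (frm_af hd hf), comm_zero hd.sp (frm_bf hd hf), hd.sp.add, hd.sp.smul, hneg, neg_zero, one_mul, mul_zero, zero_smul, add_zero, zero_add, one_smul,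
      smul_add, neg_smul, mul_one, mul_neg]
    try abel

theorem conj_flip_single {x : GL (Fin k) F} (hx : x ∈ Sl J) (ha : x.val *ᵥ Pi.single a 1 = Pi.single b 1) :
    conjMat x (Matrix.single a b (1 : F)) = -Matrix.single b a 1 := by
  have h1 := conj_Nm hd hx (Pi.single a 1)
  rw [ha, Nm_a hd, Nm_b hd, map_neg] at h1
  rw [← h1, neg_neg]

theorem Qab_mul : Qm J (Pi.single a 1) f * Qm J (Pi.single b 1) f = Nm J f ∧
    Qm J (Pi.single b 1) f * Qm J (Pi.single a 1) f = -Nm J f := by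
  constructor <;> refine Matrix.ext_of_mulVec_single fun i => ?_ <;>
    simp only [← mulVec_mulVec, Qm_mulVec hd, sub_left hd.sp, hd.sp.smul, neg_mulVec, Nm_mulVec, frm_af hd hf, frm_bf hd hf,
      comm_zero hd.sp (frm_af hd hf), comm_zero hd.sp (frm_bf hd hf), hd.sp.alt, frm_ab hd, frm_ba hd, zero_smul,
      mul_zero, mul_one, mul_neg, sub_zero, zero_sub, smul_zero, smul_neg, neg_smul, one_smul, neg_neg]

theorem Nm_mul_Qaf : Nm J f * Qm J (Pi.single a 1) f = 0 := by
  refine Matrix.ext_of_mulVec_single fun i => ?_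
  rw [← mulVec_mulVec, Qm_mulVec hd, mulVec_sub, mulVec_smul, mulVec_smul, Nm_mulVec, Nm_mulVec, frm_af hd hf, hd.sp.alt,
    zero_mulVec, zero_smul, smul_zero, smul_zero, sub_zero]

omit hf

theorem sm_sq (hf : Mv a b f) {s : Fin 3} (hs : s ≠ 0) : sm J a b f s * sm J a b f s = 0 := by
  fin_cases s
  · exact absurd rfl hs
  · exact Matrix.single_mul_single_of_ne _ _ _ _ hd.hab.symm _
  · exact Qaf_sq hd hf

theorem sm_ne (hf : Mv a b f) {s : Fin 3} (hs : s = 2 → f ≠ 0) : sm J a b f s ≠ 0 := by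
  fin_cases s
  · show (1 : Matrix (Fin k) (Fin k) F) ≠ 0
    exact fun e => one_ne_zero (by simpa using congrFun (congrFun e a) a : (1 : F) = 0)
  · show Matrix.single a b (1 : F) ≠ 0
    exact fun e => one_ne_zero (by simpa using congrFun (congrFun e a) b : (1 : F) = 0)
  · exact Qaf_ne hd hf (hs rfl)

/-- moving middle vectors without moving the pair -/
theorem exists_mid_move {m m' : Fin k → F} (hm : m ∈ mid F a b) (hm' : m' ∈ mid F a b) (h0 : m ≠ 0) (h0' : m' ≠ 0) :
    ∃ g ∈ Sl J, g.val *ᵥ Pi.single a 1 = Pi.single a 1 ∧ g.val *ᵥ Pi.single b 1 = Pi.single b 1 ∧ g.val *ᵥ m = m' := by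
  have step : ∀ {m m' : Fin k → F}, m ∈ mid F a b → m' ∈ mid F a b → frm J m m' ≠ 0 →
      ∃ g ∈ Sl J, g.val *ᵥ Pi.single a 1 = Pi.single a 1 ∧ g.val *ᵥ Pi.single b 1 = Pi.single b 1 ∧ g.val *ᵥ m = m' := by
    intro m m' hm hm' hne
    refine ⟨tvS hd (m' - m) (frm J m m')⁻¹, tvS_mem hd _ _, ?_, ?_, ?_⟩
    · rw [tvS_mulVec, frm_a_left hd, (mem_mid.1 (sub_mem hm' hm)).2, mul_zero, zero_smul, add_zero]
    · rw [tvS_mulVec, frm_b_left hd, (mem_mid.1 (sub_mem hm' hm)).1, neg_zero, mul_zero, zero_smul, add_zero]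
    · rw [tvS_mulVec, sub_right hd.sp, hd.sp.alt, sub_zero, inv_mul_cancel₀ hne, one_smul, add_sub_cancel]
  obtain ⟨w, hw, hw1, hw2⟩ : ∃ w ∈ mid F a b, frm J m w ≠ 0 ∧ frm J w m' ≠ 0 := by
    obtain ⟨w1, hw1, e1⟩ : ∃ w ∈ mid F a b, frm J m w ≠ 0 := by
      by_contra hc
      push Not at hc
      exact h0 (mid_nondeg hd m hm hc)
    obtain ⟨w2, hw2, e2⟩ : ∃ w ∈ mid F a b, frm J w m' ≠ 0 := by
      by_contra hc
      push Not at hc
      exact h0' (mid_nondeg hd m' hm' fun y hy => comm_zero hd.sp (hc y hy))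
    by_cases h1 : frm J w1 m' = 0
    · by_cases h2 : frm J m w2 = 0
      · exact ⟨w1 + w2, add_mem hw1 hw2, by rw [add_right hd.sp, h2, add_zero]; exact e1,
          by rw [hd.sp.add, h1, zero_add]; exact e2⟩
      · exact ⟨w2, hw2, h2, e2⟩
    · exact ⟨w1, hw1, e1, h1⟩
  obtain ⟨g1, hg1, a1, b1, m1⟩ := step hm hw hw1
  obtain ⟨g2, hg2, a2, b2, m2⟩ := step hw hm' hw2
  exact ⟨g2 * g1, mul_mem hg2 hg1, by rw [Units.val_mul, ← mulVec_mulVec, a1, a2],
    by rw [Units.val_mul, ← mulVec_mulVec, b1, b2], by rw [Units.val_mul, ← mulVec_mulVec, m1, m2]⟩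

end Cfsg.Agent.TensorWreath.Sy
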