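import Cfsg.Agent.Lib.Forms.Max.TensorWreath.Symp.Diag

/-!
# Elements preserving a slice split off the first slot
-/

set_option autoImplicit false
set_option linter.unusedSectionVars false

namespace Cfsg.Agent.TensorWreath.Sy

open Matrix Cfsg.Agent.Aschbacher Cfsg.Agent.Forms.Max Cfsg.Agent.Forms.Max.SympTools

variable {F : Type*} [Field F] {k t : ℕ} {J : Matrix (Fin k) (Fin k) F} {a b : Fin k} [Finite F]

theorem Sl_of_eq {h : GL (Fin k) F} (he : h.valᵀ * J * h.val = J) : h ∈ Sl J :=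
  fun x y => by rw [frm_mul, he]

/-- conjugation by a similitude keeps the slot group -/
theorem conj_isoSL {D : GL (Fin k) F} {c : F} (hc : c ≠ 0) (hD : D.valᵀ * J * D.val = c • J)
    {h : GL (Fin k) F} (hh : h ∈ Sl J) :
    D⁻¹ * h * D ∈ Sl J ∧ D * h * D⁻¹ ∈ Sl J := by
  have key : ∀ (E : GL (Fin k) F) (d : F), E.valᵀ * J * E.val = d • J →
      (E⁻¹).valᵀ * J * (E⁻¹).val = d⁻¹ • J ∨ d = 0 := by
    intro E d hE
    by_cases hd : d = 0
    · exact Or.inr hd
    left
    have h1 : (E⁻¹).valᵀ * (d • J) * (E⁻¹).val = J := by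
      rw [← hE, Matrix.mul_assoc, Matrix.mul_assoc, ← Units.val_mul, mul_inv_cancel, Units.val_one, Matrix.mul_one, ← Matrix.mul_assoc, ← transpose_mul, ← Units.val_mul,
        mul_inv_cancel, Units.val_one, transpose_one, Matrix.one_mul]
    rw [mul_smul_comm, smul_mul_assoc] at h1
    conv_rhs => rw [← h1]
    rw [smul_smul, inv_mul_cancel₀ hd, one_smul]
  have hD' := (key D c hD).resolve_right hc
  have main : ∀ (E E' : GL (Fin k) F) (d d' : F), E.valᵀ * J * E.val = d • J →
      E'.valᵀ * J * E'.val = d' • J → d * d' = 1 → E' * E = 1 → E * h * E' ∈ Sl J := by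
    intro E E' d d' hE hE' hdd hone
    refine Sl_of_eq ?_
    rw [Units.val_mul, Units.val_mul, transpose_mul, transpose_mul]
    calc E'.valᵀ * (h.valᵀ * E.valᵀ) * J * (E.val * h.val * E'.val)
        = E'.valᵀ * (h.valᵀ * (E.valᵀ * J * E.val) * h.val) * E'.val := by simp only [Matrix.mul_assoc]
      _ = J := by
        rw [hE, mul_smul_comm, smul_mul_assoc, slot_iso hh, mul_smul_comm, smul_mul_assoc, hE', smul_smul, hdd, one_smul]
  exact ⟨main _ _ _ _ hD' hD (inv_mul_cancel₀ hc) (mul_inv_cancel D), main _ _ _ _ hD hD' (mul_inv_cancel₀ hc) (inv_mul_cancel D)⟩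

variable {G G' : Subgroup (GL (Fin (t + 1) → Fin k) F)} {g : GL (Fin (t + 1) → Fin k) F}

/-- splitting off the radical part -/
theorem PairS.radical (hd : Hyp J a b) (h : PairS J a b G G' g) :
    ∃ (U : GL (Fin (t + 1) → Fin k) F) (D : GL (Fin k) F) (w : GL (Fin t → Fin k) F) (c : F),
      c ≠ 0 ∧ D.valᵀ * J * D.val = c • J ∧ g = U * (sgl 0 D * liftW w) ∧ U ∈ Iso J (t + 1) ∧
      Shp a b (blk U.val - 1) ∧ (∀ y, y ≠ a → y ≠ b → ∃ r : F, blk U.val a y = r • 1) := by
  classical
  obtain ⟨h1, h2, -, -, hc, hr⟩ := h.inv_facts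
  obtain ⟨D, D', hDD', hL, hL', hDa, hDa', hval⟩ := h.coeff hd
  let Du : GL (Fin k) F := ⟨D, D', hDD', mul_eq_one_comm.1 hDD'⟩
  let w : GL (Fin t → Fin k) F := ⟨blk g.val a a, blk (g⁻¹).val a a, h2, h1⟩
  obtain ⟨c, hc0, hsim, hW⟩ := h.similitude hd hL hDa fun x y hxy => (hval x y hxy).1
  set U := g * (sgl 0 Du * liftW w)⁻¹ with hU
  have hUblk : ∀ x y, blk U.val x y = ∑ p, D' p y • (blk g.val x p * blk (g⁻¹).val a a) := fun x y => by
    rw [hU, _root_.mul_inv_rev, ← map_inv, ← map_inv, Units.val_mul, Units.val_mul, map_mul, Matrix.mul_apply]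
    refine Finset.sum_congr rfl fun p _ => ?_
    rw [sgl_coe, liftW_coe, ← S0_lift_comm, blk_S0_lift, mul_smul_comm]
    rfl
  have hdd : ∀ x y, ((1 : Matrix (Fin k) (Fin k) F) x y) = ∑ p, D x p * D' p y := fun x y => by
    rw [← Matrix.mul_apply, hDD']
  have hUs : Shp a b (blk U.val - 1) := by
    intro x y hxy
    rw [Matrix.sub_apply, sub_eq_zero, hUblk]
    by_cases hy : y = a
    · subst hy
      rw [Finset.sum_eq_single_of_mem y (Finset.mem_univ y) fun p _ hp => by rw [hL'.colA p hp, zero_smul], hDa', one_smul]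
      rcases eq_or_ne x y with rfl | hx
      · rw [h2, Matrix.one_apply_eq]
      · rw [h.col x hx, zero_mul, Matrix.one_apply_ne hx]
    by_cases hx : x = b
    · subst hx
      rw [Finset.sum_eq_single_of_mem x (Finset.mem_univ x) fun p _ hp => by rw [h.row p hp, zero_mul, smul_zero],
        (hval x x (Or.inr (Or.inl ⟨rfl, rfl⟩))).1, smul_mul_assoc, h2, smul_smul]
      have := hdd x y
      rw [Finset.sum_eq_single_of_mem x (Finset.mem_univ x) fun p _ hp => by rw [hL.rowB p hp, zero_mul]] at this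
      rw [mul_comm, ← this, Matrix.one_apply, Matrix.one_apply, ite_smul, one_smul, zero_smul]
    push Not at hxy
    have hxa : x ≠ a := fun e => hy (hxy.1 e)
    have hyb : y ≠ b := fun e => hx (hxy.2 e)
    have := hdd x y
    rw [Matrix.one_apply (i := x)]
    rw [Matrix.one_apply] at this
    rw [Finset.sum_congr rfl (g := fun p => (D x p * D' p y) • (1 : Matrix (Fin t → Fin k) (Fin t → Fin k) F))
      fun p _ => ?_, ← Finset.sum_smul, ← this, ite_smul, one_smul, zero_smul]
    rcases eq_or_ne p a with rfl | hpa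
    · rw [hL'.rowA y hy, zero_smul, mul_zero, zero_smul]
    rcases eq_or_ne p b with rfl | hpb
    · rw [hL'.rowB y hyb, zero_smul, mul_zero, zero_smul]
    rw [(hval x p (Or.inr (Or.inr ⟨hxa, hx, hpa, hpb⟩))).1, smul_mul_assoc, h2, smul_smul, mul_comm]
  have hM : sgl 0 Du * liftW w ∈ Iso J (t + 1) := by
    rw [mem_Iso]
    refine (blk (F := F) (m := k) (t := t)).injective (Matrix.ext fun x y => ?_)
    rw [blk_conj_gram, blk_gram]
    have hs : ∀ p q, blk (sgl 0 Du * liftW w).val p q = D p q • blk g.val a a := fun p q => by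
      rw [Units.val_mul, sgl_coe, liftW_coe, blk_S0_lift]
    simp only [hs, transpose_smul, smul_mul_assoc, mul_smul_comm, smul_smul,
      ← Finset.sum_smul]
    rw [Finset.sum_comm, show (∑ q, ∑ p, J p q * (D q y * D p x)) = (Dᵀ * J * D) x y by
      rw [Matrix.mul_apply]
      refine Finset.sum_congr rfl fun q _ => ?_
      rw [Matrix.mul_apply, Finset.sum_mul]
      refine Finset.sum_congr rfl fun p _ => ?_
      rw [Matrix.transpose_apply]; ring, hsim, Matrix.smul_apply, smul_eq_mul, mul_comm c, ← smul_smul,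
      hW]
  refine ⟨U, Du, w, c, hc0, hsim, by rw [hU, inv_mul_cancel_right], mul_mem h.iso (inv_mem hM), hUs, ?_⟩
  -- the middle entries of the first row
  have hdiag := shp_diag_aa hd.hab hUs
  let R : (Fin k → F) →ₗ[F] Matrix (Fin t → Fin k) (Fin t → Fin k) F :=
    { toFun := fun v => ∑ q, v q • (blk U.val - 1) a q
      map_add' := fun u v => by simp only [Pi.add_apply, add_smul, Finset.sum_add_distrib]
      map_smul' := fun r v => by
        simp only [Pi.smul_apply, smul_eq_mul, RingHom.id_apply, Finset.smul_sum, smul_smul] }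
  let T : Submodule F (Fin k → F) :=
    (Submodule.span F {(1 : Matrix (Fin t → Fin k) (Fin t → Fin k) F)}).comap R
  have hT : ∀ {l m : F}, l ≠ 0 → m ≠ 0 → ∀ {r : GL (Fin k) F}, r ∈ Sl J →
      r.val *ᵥ Pi.single a 1 = l • Pi.single a 1 → r.val *ᵥ Pi.single b 1 = m • Pi.single b 1 →
      ∀ v ∈ mid F a b, v - l • ((r⁻¹).val *ᵥ v) ∈ T := by
    intro l m hl hm r hr ea eb v hv
    obtain ⟨hLr, hLr', hraa⟩ := levi_of hd hr hl hm ea eb
    have hr2 := (conj_isoSL (D := Du) hc0 hsim hr).1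
    set y := g * sgl 0 (Du⁻¹ * r * Du) * g⁻¹ * (sgl 0 r)⁻¹ with hy
    have hymem : y ∈ G' := mul_mem (h.maps _ (h.base 0 _ hr2)) (inv_mem (h.base' 0 _ hr))
    have hyU : y = U * (sgl 0 r * U⁻¹ * (sgl 0 r)⁻¹) := by
      have hcomm : ∀ z : GL (Fin k) F, sgl (0 : Fin (t + 1)) z * liftW w = liftW w * sgl 0 z := fun z =>
        Units.ext (by simp only [Units.val_mul, sgl_coe, liftW_coe]; exact S0_lift_comm _ _)
      have hg : g = U * (sgl 0 Du * liftW w) := by rw [hU, inv_mul_cancel_right]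
      have e1 : liftW w * sgl (0 : Fin (t + 1)) (Du⁻¹ * r * Du) * (liftW w)⁻¹ = sgl 0 (Du⁻¹ * r * Du) := by
        rw [← hcomm, mul_inv_cancel_right]
      calc y = U * (sgl 0 Du * (liftW w * sgl (0 : Fin (t + 1)) (Du⁻¹ * r * Du) * (liftW w)⁻¹) * (sgl 0 Du)⁻¹) * U⁻¹ *
            (sgl 0 r)⁻¹ := by rw [hy, hg]; group
        _ = _ := by rw [e1, map_mul, map_mul, map_inv]; group
    have hUi : Shp a b (blk (U⁻¹).val - 1) ∧ ∀ y, y ≠ a → y ≠ b → blk (U⁻¹).val a y = -blk U.val a y := by
      have hi : blk (U⁻¹).val * blk U.val = 1 := by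
        rw [← map_mul, ← Units.val_mul, inv_mul_cancel, Units.val_one, map_one]
      set X := blk U.val - 1 with hX
      have hXXX : X * X * X = 0 := by
        refine Matrix.ext fun x y => ?_
        rw [Matrix.mul_apply, Matrix.zero_apply]
        refine Finset.sum_eq_zero fun q _ => ?_
        by_cases h2 : (q = a ∧ y ≠ a) ∨ (y = b ∧ q ≠ b)
        swap
        · rw [hUs q y h2, mul_zero]
        rw [Matrix.mul_apply, Finset.sum_mul]
        refine Finset.sum_eq_zero fun p _ => ?_
        by_cases h0 : (x = a ∧ p ≠ a) ∨ (p = b ∧ x ≠ b)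
        swap
        · rw [hUs x p h0, zero_mul, zero_mul]
        by_cases h1 : (p = a ∧ q ≠ a) ∨ (q = b ∧ p ≠ b)
        swap
        · rw [hUs p q h1, mul_zero, zero_mul]
        exfalso
        have hab := hd.hab
        grind
      have hUX : blk U.val = 1 + X := by rw [hX]; abel
      have e : blk (U⁻¹).val = 1 - X + X * X := by
        refine (left_inv_eq_right_inv hi ?_)
        rw [hUX]
        calc (1 + X) * (1 - X + X * X) = 1 + X * X * X := by noncomm_ring
          _ = 1 := by rw [hXXX, add_zero]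
      have hXX : ∀ x y, ¬(x = a ∧ y = b) → (X * X) x y = 0 := fun x y hxy => by
        rw [Matrix.mul_apply]
        refine Finset.sum_eq_zero fun p _ => ?_
        by_cases h0 : (x = a ∧ p ≠ a) ∨ (p = b ∧ x ≠ b)
        swap
        · rw [hUs x p h0, zero_mul]
        by_cases h1 : (p = a ∧ y ≠ a) ∨ (y = b ∧ p ≠ b)
        swap
        · rw [hUs p y h1, mul_zero]
        exfalso
        have hab := hd.hab
        grind
      refine ⟨fun x y hxy => ?_, fun y hya hyb => ?_⟩
      · rw [e, sub_add_eq_add_sub, add_sub_assoc, add_sub_cancel_left, Matrix.sub_apply, hUs x y hxy, sub_zero]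
        exact hXX x y fun h => hxy (Or.inl ⟨h.1, h.2 ▸ hd.hab.symm⟩)
      · rw [e, Matrix.add_apply, Matrix.sub_apply, hXX a y (fun h => hyb h.2), hX, Matrix.sub_apply,
          Matrix.one_apply_ne (Ne.symm hya)]
        abel
    obtain ⟨hV, hVent⟩ := hLr.shp hd.hab hLr' (by rw [← Units.val_mul, mul_inv_cancel, Units.val_one]) hUi.1
    have hVe : blk (sgl 0 r * U⁻¹ * (sgl 0 r)⁻¹).val = blk (S 0 r.val * (U⁻¹).val * S 0 (r⁻¹).val) := by
      rw [Units.val_mul, Units.val_mul, sgl_coe, ← map_inv, sgl_coe]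
    obtain ⟨hy1, hy2⟩ := shp_mul hd.hab hUs (V := blk (sgl 0 r * U⁻¹ * (sgl 0 r)⁻¹).val) (by rw [hVe]; exact hV)
    rw [← map_mul, ← Units.val_mul, ← hyU] at hy1 hy2
    have hent : ∀ d, d ≠ a → d ≠ b → blk y.val a d =
        (blk U.val - 1) a d - ∑ q, (l * (r⁻¹).val q d) • (blk U.val - 1) a q := by
      intro d hda hdb
      rw [hy2 d hda hdb, hVe, hVent d hda hdb, Matrix.sub_apply, Matrix.one_apply_ne (Ne.symm hda), sub_zero, sub_eq_add_neg,
        ← Finset.sum_neg_distrib]
      refine congrArg _ (Finset.sum_congr rfl fun q _ => ?_)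
      rcases eq_or_ne q a with rfl | hqa
      · rw [hLr'.rowA d hda, mul_zero, mul_zero, zero_smul, zero_smul, neg_zero]
      rcases eq_or_ne q b with rfl | hqb
      · rw [hLr'.rowB d hdb, mul_zero, mul_zero, zero_smul, zero_smul, neg_zero]
      rw [hUi.2 q hqa hqb, hraa, Matrix.sub_apply, Matrix.one_apply_ne (Ne.symm hqa), sub_zero, smul_neg]
    have hsingle : ∀ d, d ≠ a → d ≠ b →
        (Pi.single d 1 : Fin k → F) - l • ((r⁻¹).val *ᵥ Pi.single d 1) ∈ T := by
      intro d hda hdb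
      obtain ⟨e, he⟩ := h.tame'.self hymem hy1 d hda
      rw [Submodule.mem_comap, Submodule.mem_span_singleton]
      refine ⟨e, ?_⟩
      rw [← he, hent d hda hdb, map_sub, map_smul]
      simp only [R, LinearMap.coe_mk, AddHom.coe_mk, mulVec_single_one, Finset.smul_sum, smul_smul, Matrix.col_apply,
        Pi.single_apply, ite_smul, one_smul, zero_smul, Finset.sum_ite_eq', Finset.mem_univ, if_true]
    have e : v - l • ((r⁻¹).val *ᵥ v) = ∑ d, v d • ((Pi.single d 1 : Fin k → F) - l • ((r⁻¹).val *ᵥ Pi.single d 1)) := by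
      conv_lhs => rw [pi_eq_sum_univ' v]
      simp only [mulVec_sum, mulVec_smul, Finset.smul_sum, ← Finset.sum_sub_distrib, smul_sub, smul_comm l]
    rw [e]
    refine T.sum_mem fun d _ => ?_
    rcases eq_or_ne d a with rfl | hda
    · rw [(mem_mid.1 hv).1, zero_smul]; exact T.zero_mem
    rcases eq_or_ne d b with rfl | hdb
    · rw [(mem_mid.1 hv).2, zero_smul]; exact T.zero_mem
    exact T.smul_mem _ (hsingle d hda hdb)
  have hmid : mid F a b ≤ T := by
    intro e he
    rcases eq_or_ne e 0 with rfl | he0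
    · exact T.zero_mem
    obtain ⟨hea, heb⟩ := mem_mid.1 he
    obtain ⟨v, hv, hve⟩ : ∃ v ∈ mid F a b, frm J v e ≠ 0 := by
      by_contra hcon
      push Not at hcon
      exact he0 (mid_nondeg hd e he fun v hv => comm_zero hd.sp (hcon v hv))
    set r := tvS hd e (-1) with hrdef
    have hfix : ∀ x, frm J x e = 0 → r.val *ᵥ x = (1 : F) • x := fun x hx => by
      rw [hrdef, tvS_mulVec, hx, mul_zero, zero_smul, add_zero, one_smul]
    have hrinv : (r⁻¹).val *ᵥ v = v + frm J v e • e := by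
      rw [hrdef, tvS_inv, tvS_mulVec, neg_neg, one_mul]
    have := hT one_ne_zero one_ne_zero (tvS_mem hd e (-1))
      (hfix _ (by rw [hd.sp.skew, frm_a hd, heb, neg_zero, neg_zero]))
      (hfix _ (by rw [hd.sp.skew, frm_b hd, hea, neg_zero])) v hv
    rw [hrinv, one_smul, sub_add_cancel_left, ← neg_smul] at this
    exact (T.smul_mem_iff (neg_ne_zero.2 hve)).1 this
  intro y hya hyb
  have := hmid (single_mem_mid hya hyb)
  rw [Submodule.mem_comap, Submodule.mem_span_singleton] at this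
  obtain ⟨r, hr⟩ := this
  refine ⟨r, ?_⟩
  rw [hr]
  simp [R, Pi.single_apply, Matrix.one_apply_ne (Ne.symm hya)]

/-- a radical isometry without middle part is a corner element -/
theorem cor_of_shp (hd : Hyp J a b) {U : GL (Fin (t + 1) → Fin k) F} (hU : U ∈ Iso J (t + 1))
    (hs : Shp a b (blk U.val - 1)) (h0 : ∀ y, y ≠ a → y ≠ b → blk U.val a y = 0) :
    U = cor hd (Pi.single a 1) (-blk U.val a b) := by
  classical
  obtain ⟨hJa, hJb⟩ := J_row hd
  have hdiag := shp_diag_aa hd.hab hs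
  have hz : ∀ x y, ¬((x = a ∧ y ≠ a) ∨ (y = b ∧ x ≠ b)) → x ≠ y → blk U.val x y = 0 := fun x y h hne => by
    have := hs x y h
    rwa [Matrix.sub_apply, Matrix.one_apply_ne hne, sub_zero] at this
  have hone : ∀ x, blk U.val x x = 1 := fun x => by
    have := hs x x (by rintro (⟨h, h'⟩ | ⟨h, h'⟩) <;> exact h' h)
    rwa [Matrix.sub_apply, Matrix.one_apply_eq, sub_eq_zero] at this
  -- the last column
  have hcol : ∀ x, x ≠ a → x ≠ b → blk U.val x b = 0 := by
    set V := fun q => blk U.val q b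
    have hsum : ∀ d, d ≠ a → d ≠ b → ∑ q, J d q • V q = 0 := by
      intro d hda hdb
      have e := iso_blk hU d b
      rw [Finset.sum_eq_single_of_mem d (Finset.mem_univ d) fun p _ hp => Finset.sum_eq_zero fun q _ => ?_,
        hd.jb, if_neg hda, zero_smul, hone, transpose_one] at e
      · refine (gram_unit (t := t) hd).mul_right_eq_zero.1 ?_
        rw [Finset.mul_sum, ← e]
        exact Finset.sum_congr rfl fun q _ => by rw [mul_smul_comm, one_mul]
      · rcases eq_or_ne p a with rfl | hpa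
        · rw [h0 d hda hdb, transpose_zero, zero_mul, zero_mul, smul_zero]
        · rw [hz p d (by rintro (⟨h, -⟩ | ⟨h, -⟩); exacts [hpa h, hdb h]) hp, transpose_zero, zero_mul, zero_mul, smul_zero]
    intro x hxa hxb
    let V' : Fin k → Matrix (Fin t → Fin k) (Fin t → Fin k) F := fun q => if q ≠ a ∧ q ≠ b then V q else 0
    ext u v
    have hJv : J *ᵥ (fun q => V' q u v) = 0 := by
      funext d
      rw [Matrix.mulVec, dotProduct, Pi.zero_apply]
      rcases eq_or_ne d a with rfl | hda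
      · refine Finset.sum_eq_zero fun q _ => ?_
        rw [hJa]; simp only [V']
        split_ifs with h1 h2 <;> simp_all
      rcases eq_or_ne d b with rfl | hdb
      · refine Finset.sum_eq_zero fun q _ => ?_
        rw [hJb]; simp only [V']
        split_ifs with h1 h2 <;> simp_all
      have := congrFun (congrFun (hsum d hda hdb) u) v
      rw [Matrix.sum_apply, Matrix.zero_apply] at this
      rw [← this]
      refine Finset.sum_congr rfl fun q _ => ?_
      simp only [V', Matrix.smul_apply, smul_eq_mul]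
      split_ifs with h
      · rfl
      · simp only [Matrix.zero_apply, mul_zero]
        rw [not_and_or, not_not, not_not] at h
        rcases h with rfl | rfl
        · rw [hd.ja, if_neg hdb, zero_mul]
        · rw [hd.jb, if_neg hda, zero_mul]
    have hv : (fun q => V' q u v) = 0 := by
      have hJ : IsUnit J := by
        rw [← Matrix.mulVec_injective_iff_isUnit]
        refine (injective_iff_map_eq_zero J.mulVecLin).2 fun z (hz : J *ᵥ z = 0) => ?_
        refine hd.sp.nd z fun y => ?_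
        rw [hd.sp.skew]
        simp only [frm]
        rw [hz, dotProduct_zero, neg_zero]
      exact Matrix.mulVec_injective_of_isUnit hJ (hJv.trans (Matrix.mulVec_zero _).symm)
    have := congrFun hv x
    simpa [V', hxa, hxb, V] using this
  suffices key : blk U.val - 1 = blk (cor hd (Pi.single a 1) (-blk U.val a b)).val - 1 from
    Units.ext ((blk (F := F) (m := k) (t := t)).injective (sub_left_injective key))
  ext1 x y
  rw [blk_cor, Nm_a hd, Matrix.neg_apply, Matrix.single_apply]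
  by_cases hxy : (x = a ∧ y ≠ a) ∨ (y = b ∧ x ≠ b)
  swap
  · rw [hs x y hxy, if_neg, neg_zero, zero_smul]
    rintro ⟨rfl, rfl⟩
    exact hxy (Or.inl ⟨rfl, hd.hab.symm⟩)
  rw [Matrix.sub_apply]
  rcases hxy with ⟨rfl, hya⟩ | ⟨rfl, hxb⟩
  · rw [Matrix.one_apply_ne (Ne.symm hya), sub_zero]
    rcases eq_or_ne y b with rfl | hyb
    · rw [if_pos ⟨rfl, rfl⟩, neg_one_smul, neg_neg]
    · rw [h0 y hya hyb, if_neg (fun h => hyb h.2.symm), neg_zero, zero_smul]
  · rw [Matrix.one_apply_ne hxb, sub_zero]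
    rcases eq_or_ne x a with rfl | hxa
    · rw [if_pos ⟨rfl, rfl⟩, neg_one_smul, neg_neg]
    · rw [hcol x hxa hxb, if_neg (fun h => hxa h.1.symm), neg_zero, zero_smul]

/-- elements preserving the slice split off the first slot -/
theorem PairS.split (hd : Hyp J a b) (hbig : Big F k) (h : PairS J a b G G' g) :
    ∃ (h0 : GL (Fin k) F) (w : GL (Fin t → Fin k) F), g = sgl 0 h0 * liftW w := by
  classical
  obtain ⟨U, D, w, c, hc0, hsim, hg, hUiso, hUs, hrow⟩ := h.radical hd
  choose! r hr using hrow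
  let φ : Fin k → F := fun y => if y = a ∨ y = b then 0 else -r y
  obtain ⟨u, hu, hphi⟩ := exists_phi hd (φ := φ) (by simp [φ]) (by simp [φ])
  obtain ⟨s, hs, hshp, hsrow, -⟩ := sg_shp hd hu
  set U1 := U * sgl 0 s with hU1
  have hsb : blk (sgl (0 : Fin (t + 1)) s).val - 1 = (s.val - 1).map (algebraMap F _) := by
    rw [sgl_coe, ← blk_S_zero, map_sub, map_one, map_sub, map_one]
  have hsS : Shp a b (blk (sgl (0 : Fin (t + 1)) s).val - 1) := fun x y hxy => by
    rw [hsb, Matrix.map_apply, hshp x y hxy, map_zero]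
  obtain ⟨hU1s, hU1row⟩ := shp_mul hd.hab hUs hsS
  rw [← map_mul, ← Units.val_mul, ← hU1] at hU1s hU1row
  have h10 : ∀ y, y ≠ a → y ≠ b → blk U1.val a y = 0 := fun y hya hyb => by
    have e : blk (sgl (0 : Fin (t + 1)) s).val a y = ((s.val - 1) a y) • 1 := by
      have := congrFun (congrFun hsb a) y
      rw [Matrix.sub_apply, Matrix.one_apply_ne (Ne.symm hya), sub_zero, Matrix.map_apply] at this
      rw [this, Algebra.algebraMap_eq_smul_one]
    rw [hU1row y hya hyb, hr y hya hyb, e, hsrow y hyb, hphi, ← add_smul]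
    simp [φ, hya, hyb]
  have hU1iso : U1 ∈ Iso J (t + 1) := mul_mem hUiso (sgl_iso _ hs)
  set B := -blk U1.val a b with hBdef
  have hcor := cor_of_shp hd hU1iso hU1s h10
  set C := cor hd (Pi.single a 1) with hCdef
  obtain ⟨E, hE⟩ : ∃ E : GL (Fin k) F, E = s⁻¹ * D := ⟨_, rfl⟩
  have hg' : g = C B * (sgl 0 E * liftW w) := by
    have h1 : g = U1 * (sgl 0 E * liftW w) := by rw [hE, map_mul, map_inv, hU1, hg]; group
    exact h1.trans (congrArg (· * (sgl 0 E * liftW w)) hcor)
  have hEsim : E.valᵀ * J * E.val = c • J := by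
    have h1 : (s⁻¹).valᵀ * J * (s⁻¹).val = J := slot_iso (inv_mem hs)
    rw [hE, Units.val_mul, transpose_mul]
    calc D.valᵀ * (s⁻¹).valᵀ * J * ((s⁻¹).val * D.val)
        = D.valᵀ * ((s⁻¹).valᵀ * J * (s⁻¹).val) * D.val := by simp only [Matrix.mul_assoc]
      _ = _ := by rw [h1, hsim]
  have hcomm : ∀ z : GL (Fin k) F, sgl (0 : Fin (t + 1)) z * liftW w = liftW w * sgl 0 z := fun z =>
    Units.ext (by simp only [Units.val_mul, sgl_coe, liftW_coe]; exact S0_lift_comm _ _)
  have hpair : ∀ x : GL (Fin k) F, x ∈ Sl J → C B * (cor hd (x.val *ᵥ Pi.single a 1) B)⁻¹ ∈ G' := by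
    intro x hx
    have h1 := h.maps _ (h.base 0 _ (conj_isoSL hc0 hEsim hx).1)
    have e : g * sgl 0 (E⁻¹ * x * E) * g⁻¹ = C B * sgl 0 x * (C B)⁻¹ := by
      have e1 : liftW w * sgl (0 : Fin (t + 1)) (E⁻¹ * x * E) * (liftW w)⁻¹ = sgl 0 (E⁻¹ * x * E) := by
        rw [← hcomm, mul_inv_cancel_right]
      calc g * sgl 0 (E⁻¹ * x * E) * g⁻¹
          = C B * (sgl 0 E * (liftW w * sgl (0 : Fin (t + 1)) (E⁻¹ * x * E) * (liftW w)⁻¹) * (sgl 0 E)⁻¹) * (C B)⁻¹ := by
            rw [hg']; group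
        _ = _ := by rw [e1, map_mul, map_mul, map_inv]; group
    rw [e] at h1
    have h2 := mul_mem h1 (inv_mem (h.base' 0 _ hx))
    have e2 : C B * sgl 0 x * (C B)⁻¹ * (sgl 0 x)⁻¹ = C B * (sgl 0 x * C B * (sgl 0 x)⁻¹)⁻¹ := by group
    rw [e2, hCdef, cor_conj hd hx] at h2
    exact h2
  suffices hB : ∃ r : F, B = r • 1 by
    obtain ⟨r, hr⟩ := hB
    have hN : Nm J (Pi.single a 1) * Nm J (Pi.single a 1) = 0 := Nm_mul_self hd _
    let h1 : GL (Fin k) F := ⟨1 + r • Nm J (Pi.single a 1), 1 - r • Nm J (Pi.single a 1),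
      by rw [mul_sub, mul_one, add_mul, one_mul, smul_mul_smul_comm, hN, smul_zero, add_zero]; abel,
      by rw [mul_add, mul_one, sub_mul, one_mul, smul_mul_smul_comm, hN, smul_zero, sub_zero]; abel⟩
    have e : C B = sgl 0 h1 := Units.ext (by
      rw [hCdef, cor_coe, hr, map_smul, map_one, mul_smul_comm, mul_one, sgl_coe]
      show _ = S 0 (1 + r • Nm J (Pi.single a 1))
      rw [map_add, map_one, map_smul])
    exact ⟨h1 * E, w, by rw [hg', e, map_mul, mul_assoc]⟩
  have hscal : ∀ {z : GL (Fin (t + 1) → Fin k) F}, z ∈ G' → Shp a b (blk z.val - 1) → ∀ {y : Fin k} {s : F}, y ≠ a →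
      (blk z.val - 1) a y = s • B → s ≠ 0 → ∃ r : F, B = r • 1 := by
    intro z hz hzs y s hya e hs0
    obtain ⟨d, hd'⟩ := h.tame'.self hz hzs y hya
    rw [Matrix.sub_apply, Matrix.one_apply_ne (Ne.symm hya), sub_zero, hd'] at e
    exact ⟨s⁻¹ * d, by rw [← smul_smul, e, inv_smul_smul₀ hs0]⟩
  by_cases h4 : 4 ≤ k
  · obtain ⟨e, he, f, hf, he0, hef, hfe⟩ := exists_mid_pair hd h4
    obtain ⟨hea, heb⟩ := mem_mid.1 he
    obtain ⟨hfa, hfb⟩ := mem_mid.1 hf
    set v : Fin k → F := Pi.single a 1 + e with hv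
    have hv0 : v ≠ 0 := fun e0 => by
      have := congrFun e0 a
      simp [hv, hea] at this
    obtain ⟨x, hx, hxa⟩ := exists_moveS hd (u := Pi.single a 1) (v := v)
      (fun e0 => by simpa using congrFun e0 a) hv0
    have hP := hpair x hx
    rw [hxa] at hP
    obtain ⟨y, hy, hye⟩ := exists_sg hd (neg_mem hf)
    have hyx : ∀ z, (y.val *ᵥ z) = z + ((y.val - 1) *ᵥ z) := fun z => by rw [sub_mulVec, one_mulVec]; abel
    have hya : y.val *ᵥ Pi.single a 1 = Pi.single a 1 := by
      rw [hyx]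
      refine add_eq_left.2 (funext fun p => ?_)
      rw [mulVec_single_one, Matrix.col_apply, hye, phi_at_a hd]
      simp [hd.hab, hfb]
    have hyv : y.val *ᵥ v = e := by
      rw [hv, mulVec_add, hya, hyx]
      have e2 : (y.val - 1) *ᵥ e = (frm J e (-f)) • Pi.single a 1 := by
        funext p
        simp only [mulVec, dotProduct, hye, add_mul, Finset.sum_add_distrib, ite_mul, zero_mul, Finset.sum_ite_eq',
          Finset.mem_univ, if_true, heb, mul_zero, zero_add, Pi.smul_apply, smul_eq_mul, frm_eq e (-f),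
          Pi.single_apply, mul_ite, mul_one]
        split_ifs <;> simp
      have : frm J e (-f) = -1 := by rw [frm, mulVec_neg, dotProduct_neg, ← frm, hef]
      rw [e2, this, neg_one_smul]
      abel
    have hmem := mul_mem (inv_mem (mul_mem (mul_mem (h.base' 0 _ hy) hP) (inv_mem (h.base' 0 _ hy)))) hP
    have e1 : (sgl 0 y * (C B * (cor hd v B)⁻¹) * (sgl 0 y)⁻¹)⁻¹ * (C B * (cor hd v B)⁻¹) =
        cor hd e B * (cor hd v B)⁻¹ := by
      have c1 : sgl 0 y * C B * (sgl 0 y)⁻¹ = C B := by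
        rw [hCdef, cor_conj hd hy, hya]
      have c2 : sgl 0 y * cor hd v B * (sgl 0 y)⁻¹ = cor hd e B := by
        rw [cor_conj hd hy, hyv]
      calc _ = (sgl 0 y * cor hd v B * (sgl 0 y)⁻¹) * (sgl 0 y * C B * (sgl 0 y)⁻¹)⁻¹ *
            (C B * (cor hd v B)⁻¹) := by group
        _ = _ := by rw [c1, c2]; group
    rw [e1] at hmem
    set z := cor hd e B * (cor hd v B)⁻¹ with hzdef
    have hae : frm J (Pi.single a 1) e = 0 := by rw [hd.sp.skew, frm_a hd, heb, neg_zero, neg_zero]
    have hcross : Nm J e * Nm J v = 0 := by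
      have : frm J v e = 0 := by rw [hv, hd.sp.add, hae, hd.sp.alt, add_zero]
      rw [Nm, Nm, vecMulVec_mul_vecMulVec, ← frm_eq, this, zero_smul, vecMulVec_zero]
    have hzval : ∀ p q, (blk z.val - 1) p q = (Nm J e - Nm J v) p q • B := by
      intro p q
      have hz1 : z.val = 1 + S 0 (Nm J e - Nm J v) * lift B := by
        rw [hzdef, Units.val_mul, cor_coe]
        show (1 + _) * (1 - _) = _
        rw [mul_sub, mul_one, add_mul, one_mul, mul_assoc (S 0 _) (lift _), ← mul_assoc (lift _) (S 0 _), ← S0_lift_comm,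
          mul_assoc (S 0 (Nm J v)), ← mul_assoc (S 0 (Nm J e)) (S 0 (Nm J v)), ← map_mul, hcross, map_zero, zero_mul,
          add_zero, map_sub, sub_mul]
        abel
      rw [hz1, map_add, map_one, add_sub_cancel_left, blk_S0_lift]
    have hNd : ∀ p q, (Nm J e - Nm J v) p q =
        (if p = a then 1 else 0) * ((if q = b then 1 else 0) - phi J e q) + e p * (if q = b then 1 else 0) := by
      intro p q
      rw [Matrix.sub_apply, Nm, Nm, vecMulVec_apply, vecMulVec_apply, hv, phi_add, phi_a hd]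
      simp only [Pi.add_apply, Pi.neg_apply, Pi.single_apply]
      ring
    have hzs : Shp a b (blk z.val - 1) := by
      intro p q hpq
      rw [hzval, hNd]
      push Not at hpq
      rcases eq_or_ne p a with rfl | hpa
      · have hq := hpq.1 rfl
        simp [hq, hd.hab, phi_at_a hd, heb, hea]
      · rcases eq_or_ne q b with rfl | hqb
        · simp [hpa, hpq.2 rfl, heb, hd.hab.symm]
        · simp [hpa, hqb]
    obtain ⟨d, hd0⟩ : ∃ d, phi J e d ≠ 0 := by
      by_contra hc
      push Not at hc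
      have : frm J f e = 0 := by rw [frm_eq]; simp [dotProduct, hc]
      rw [hfe] at this
      exact one_ne_zero (neg_eq_zero.1 this)
    have hda : d ≠ a := fun e' => hd0 (by rw [e', phi_at_a hd, heb])
    have hdb : d ≠ b := fun e' => hd0 (by rw [e', phi_at_b hd, hea, neg_zero])
    refine hscal hmem hzs (y := d) (s := -phi J e d) hda ?_ (neg_ne_zero.2 hd0)
    rw [hzval, hNd]
    simp [hdb, hea]
  · obtain ⟨l, hl0, hl⟩ := hbig.resolve_left h4
    obtain ⟨x, hx, hxa, -, -⟩ := exists_torus hd hl0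
    have hP := hpair x hx
    have e : C B * (cor hd (x.val *ᵥ Pi.single a 1) B)⁻¹ = C ((1 - l * l) • B) := by
      rw [hxa, cor_smul, hCdef, mul_inv_eq_iff_eq_mul, cor_mul, sub_smul, one_smul, sub_add_cancel]
    rw [e] at hP
    refine hscal hP (fun p q hpq => ?_) (y := b) (s := -(1 - l * l)) hd.hab.symm ?_ (neg_ne_zero.2 (sub_ne_zero.2 (Ne.symm hl)))
    · rw [hCdef, blk_cor, Nm_a hd, Matrix.neg_apply, Matrix.single_apply, if_neg, neg_zero, zero_smul]
      rintro ⟨rfl, rfl⟩
      exact hpq (Or.inl ⟨rfl, hd.hab.symm⟩)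
    · rw [hCdef, blk_cor, Nm_a hd, Matrix.neg_apply, Matrix.single_apply_same, smul_smul, neg_one_mul]

end Cfsg.Agent.TensorWreath.Sy
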